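import Cfsg.Agent.H199.AbRad
import Cfsg.Agent.H199.NSmM
import Cfsg.Agent.H70.MSeven
import Cfsg.Agent.H800.ME.Final

/-!
# The Monster: orders of the centralizers of the elements of order 3, 5, 11 (helper199; S2501)

* `three'` : `x` of order 3 commuting with a conjugate of `z`: abelian subgroups of `C(x)` have order at most `10 ^ 9`, or
  `|C(x)|` divides `3 ^ 13 · 2 · |Suz|`
* `five'` : `x` of order 5 commuting with a conjugate of `z`
* `eleven` : `|C(x)| = 11 |M12|`
* `five_not_dvd'`, `seven_not_dvd`, `eleven_not_dvd`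
-/

set_option autoImplicit false
set_option maxRecDepth 100000

namespace Cfsg.Agent.H199.AbMon

open Cfsg Cfsg.Agent.MonsterX Cfsg.Agent.MonsterX.InstData Cfsg.Agent.MonsterX.MainPack Cfsg.Agent.MonsterU
open Cfsg.Agent.MonsterP Cfsg.Agent.MonsterN Cfsg.Agent.LThreeMB
open Cfsg.Agent.MonsterX.MainBasic Cfsg.Agent.MonsterX.MainSimple Cfsg.Agent.MonsterX.Model
open Cfsg.Agent.MonsterU.Lam2 Cfsg.Agent.MonsterU.TwoCls
open Cfsg.Agent.BpSpor.MBigModel Cfsg.Agent.H199.NSmMon
open Cfsg.Agent.H498.Ab Cfsg.Agent.H199.AbTool Cfsg.Agent.H199.AbRad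
open Cfsg.Spor (Co1)
open Subgroup (centralizer zpowers mem_centralizer_singleton_iff)

theorem not_dvd_of_dvd {n m r : ℕ} (h : ¬ r ∣ m) (hn : n ∣ m) : ¬ r ∣ n := fun h1 => h (h1.trans hn)

/-- **fixed rank 0, order 3** -/
theorem three_zero' {x : centralizer ({zz} : Set MG)} (hx : orderOf x = 3) (hfr : fr (pi x) = 1) :
    Nat.card ↥(centralizer ({(x : MG)} : Set MG)) ∣ 3 ^ 13 * (448345497600 * 2) := by
  have := finite
  have hp : Fact (Nat.Prime 3) := ⟨Nat.prime_three⟩
  have htr := KPair.trNe KDone.lft LThreeB.Row.cent (LThreeMBTr.traceNe KDone.lft LThreeMBTr.TensK.tens)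
  have hsuz := CoOneFin.coOne.suz (pi x) (orderOf_pi chart hx) hfr
  obtain ⟨e⟩ := hsuz
  have hs : IsSimpleGroup (XX (pi x)) := (MulEquiv.isSimpleGroup_congr e).2 Cfsg.Agent.S1694.result.1
  have hc : Nat.card (XX (pi x)) = 448345497600 := by rw [Nat.card_congr e.toEquiv, Cfsg.Agent.S1694.result.2]
  have hns : ¬ Group.IsSolvable (XX (pi x)) := not_solvable hs hc (by norm_num) (by norm_num)
  obtain ⟨N, hN⟩ := BpSpor.M5.exists_rad chart (by norm_num) hx hfr (fun d hd hc => isolated chart htr hx hfr d hd hc)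
    hs (by rw [hc]; decide)
  obtain ⟨k, hk, hkk⟩ := PreUniq.MonRow.exists_kk Nat.prime_three (by decide) PreUniq.MonThreeRow.neg_three x hx hfr
  have hkk' : k * k = zz := hkk
  have hkz : k * zz = zz * k := by rw [← hkk', mul_assoc]
  obtain ⟨K, hK⟩ : ∃ K : ↥(centralizer ({zD x} : Set ↥(centralizer ({(x : MG)} : Set MG)))),
      (K : ↥(centralizer ({(x : MG)} : Set MG))) * K = zD x :=
    ⟨⟨⟨k, mem_centralizer_singleton_iff.2 hk⟩, mem_centralizer_singleton_iff.2 (Subtype.ext hkz)⟩, Subtype.ext hkk'⟩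
  obtain ⟨m, hm, hcm⟩ := hN.card_N_mul hns
  rw [hc] at hcm
  have hD : Nat.card ↥N * (448345497600 * m) ∣ Nat.card MG := by
    rw [← hcm]
    exact Subgroup.card_subgroup_dvd_card _
  have hN1 : Nat.card ↥N ∣ 2 ^ 33 * (5 ^ 7 * (7 ^ 5 * (11 ^ 1 * (13 ^ 2 * (17 ^ 1 * (19 ^ 1 * (23 ^ 1 * (29 ^ 1 * (31 ^ 1 *
      (41 ^ 1 * (47 ^ 1 * (59 ^ 1 * (71 ^ 1 * 3 ^ 13))))))))))))) := by
    have h1 : Nat.card ↥N * 448345497600 ∣ Nat.card MG := (mul_dvd_mul_left _ (dvd_mul_right _ m)).trans hD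
    rw [card_M] at h1
    refine Nat.dvd_of_mul_dvd_mul_right (show 0 < 448345497600 by norm_num) (h1.trans ?_)
    norm_num
  -- the large primes
  have hbig : ∀ r, Big r → ¬ r ∣ Nat.card ↥N := by
    intro r hr h1
    exact three_zero hx hfr hr (h1.trans (Subgroup.card_subgroup_dvd_card N))
  have h2 : ¬ 2 ∣ Nat.card ↥N := by
    intro h1
    exact (Nat.not_even_iff_odd.2 hN.oN) (even_iff_two_dvd.2 h1)
  have g1 := dvd_of_not_dvd Nat.prime_two h2 hN1
  have h5 : ¬ 5 ∣ Nat.card ↥N := by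
    refine not_dvd_N' hN hns (by norm_num) hK (r := 5) (q := 3) (n := 7) (e := 4) (s := 7) (by norm_num) (by norm_num)
      (by norm_num) (by rw [hc]; norm_num) (by norm_num) (not_dvd_of_dvd ?_ g1) ?_
    · norm_num
    · intro j h1 h7
      interval_cases j <;> norm_num [Fin.prod_univ_succ]
  have g2 := dvd_of_not_dvd Nat.prime_five h5 g1
  have h7 : ¬ 7 ∣ Nat.card ↥N := by
    refine not_dvd_N hN hns (by norm_num) hK (r := 7) (q := 13) (n := 5) (by norm_num) (by norm_num)
      (by norm_num) (by norm_num) (by rw [hc]; norm_num) (not_dvd_of_dvd ?_ g2) ?_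
    · norm_num
    · intro j h1 h7
      interval_cases j <;> norm_num
  have g3 := dvd_of_not_dvd (by norm_num) h7 g2
  have h11 : ¬ 11 ∣ Nat.card ↥N := by
    refine not_dvd_N hN hns (by norm_num) hK (r := 11) (q := 13) (n := 1) (by norm_num) (by norm_num)
      (by norm_num) (by norm_num) (by rw [hc]; norm_num) (not_dvd_of_dvd ?_ g3) ?_
    · norm_num
    · intro j h1 h7
      interval_cases j <;> norm_num
  have g4 := dvd_of_not_dvd (by norm_num) h11 g3
  have h13 : ¬ 13 ∣ Nat.card ↥N := by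
    refine not_dvd_N hN hns (by norm_num) hK (r := 13) (q := 11) (n := 2) (by norm_num) (by norm_num)
      (by norm_num) (by norm_num) (by rw [hc]; norm_num) (not_dvd_of_dvd ?_ g4) ?_
    · norm_num
    · intro j h1 h7
      interval_cases j <;> norm_num
  have g5 := dvd_of_not_dvd (by norm_num) h13 g4
  have g6 := dvd_of_not_dvd (by norm_num) (hbig 17 (by unfold Big; simp)) g5
  have g7 := dvd_of_not_dvd (by norm_num) (hbig 19 (by unfold Big; simp)) g6
  have g8 := dvd_of_not_dvd (by norm_num) (hbig 23 (by unfold Big; simp)) g7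
  have g9 := dvd_of_not_dvd (by norm_num) (hbig 29 (by unfold Big; simp)) g8
  have g10 := dvd_of_not_dvd (by norm_num) (hbig 31 (by unfold Big; simp)) g9
  have g11 := dvd_of_not_dvd (by norm_num) (hbig 41 (by unfold Big; simp)) g10
  have g12 := dvd_of_not_dvd (by norm_num) (hbig 47 (by unfold Big; simp)) g11
  have g13 := dvd_of_not_dvd (by norm_num) (hbig 59 (by unfold Big; simp)) g12
  have g14 := dvd_of_not_dvd (by norm_num) (hbig 71 (by unfold Big; simp)) g13
  rw [hcm]
  exact mul_dvd_mul g14 (mul_dvd_mul_left _ hm)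

/-- abelian subgroups of `C(x)` and of `C(x) / ⟨x⟩` -/
theorem abLE_XX {x : MG} {b : ℕ} (h : AbLE b (XX x)) : AbLE (b * orderOf x) ↥(centralizer ({x} : Set MG)) := by
  have := finite
  have hn : (Zx x).Normal := inferInstance
  refine AbLE.of_quotient (Zx x) h (abLE_of_card_le ?_)
  rw [Zx, Nat.card_zpowers, self, Subgroup.orderOf_mk]

/-- **The elements of order 3 commuting with `z`.** -/
theorem three_in' {x : centralizer ({zz} : Set MG)} (hx : orderOf x = 3) :
    AbLE 4000000000000 ↥(centralizer ({(x : MG)} : Set MG)) ∨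
      Nat.card ↥(centralizer ({(x : MG)} : Set MG)) ∣ 3 ^ 13 * (448345497600 * 2) := by
  have := finite
  have := simple
  have I := CoOneFin.coOne
  have htr := KPair.trNe KDone.lft LThreeB.Row.cent (LThreeMBTr.traceNe KDone.lft LThreeMBTr.TensK.tens)
  have hxo : orderOf (x : MG) = 3 := by rw [Subgroup.orderOf_coe, hx]
  rcases I.ranks (pi x) (orderOf_pi chart hx) with h1 | h1 | h1 | h1
  · exact Or.inr (three_zero' hx h1)
  · right
    obtain ⟨x₀, u, g, hx₀, hfr₀, huz, hux, hne, hg⟩ :=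
      KPair.hasPair KDone.lft LThreeB.Row.cent PreUniq.MonRow.second COct.octPair
    obtain ⟨k, hk⟩ := conj_six chart htr I.ranks I.six
      (fun x hx h2 => ⟨(good_of_inputs chart I hx h2 : Good.{0} _).simple, (good_of_inputs chart I hx h2 : Good.{0} _).nc⟩)
      hx₀ hfr₀ huz hux hne hg hx h1
    rw [← BpSpor.card_cent_of_conj hk]
    exact three_zero' hx₀ hfr₀
  · left
    obtain ⟨e⟩ := LThreeB.isoTh_of_inputs chart I hx h1
    have hc : Nat.card (XX (x : MG)) = 90745943887872000 := by rw [Nat.card_congr e.toEquiv, Cfsg.Agent.S1700.result.2]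
    have hs : IsSimpleGroup (XX (x : MG)) := (MulEquiv.isSimpleGroup_congr e).2 Cfsg.Agent.S1700.result.1
    have h2 : AbLE 302000000 (XX (x : MG)) := of_simple hs
      (not_comm_of_card hs hc (by norm_num)) (by rw [hc]; norm_num)
    refine (abLE_XX h2).mono ?_
    rw [hxo]
    norm_num
  · left
    obtain ⟨e⟩ := LThreeB.isoFi_of_inputs chart I hx h1
    have hc : Nat.card (XX (x : MG)) = 1255205709190661721292800 := by
      rw [Nat.card_congr e.toEquiv, Cfsg.Agent.S1698.result.2]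
    have hs : IsSimpleGroup (XX (x : MG)) := (MulEquiv.isSimpleGroup_congr e).2 Cfsg.Agent.S1698.result.1
    have h2 : AbLE 1200000000000 (XX (x : MG)) := of_simple hs
      (not_comm_of_card hs hc (by norm_num)) (by rw [hc]; norm_num)
    refine (abLE_XX h2).mono ?_
    rw [hxo]
    norm_num

/-- **The elements of order 3 commuting with a conjugate of `z`.** -/
theorem three' {x : MG} (hx : orderOf x = 3) (he : Ev x) {A : Subgroup MG} (hA : IsMulCommutative A)
    (hle : A ≤ centralizer ({x} : Set MG)) :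
    Nat.card ↥A ≤ 4000000000000 ∨ Nat.card ↥A ∣ 3 ^ 13 * (448345497600 * 2) := by
  have := finite
  obtain ⟨g, hg⟩ := he
  have h1 : (g⁻¹ * x * g) * zz = zz * (g⁻¹ * x * g) := by
    calc (g⁻¹ * x * g) * zz = g⁻¹ * (x * (g * zz * g⁻¹)) * g := by group
      _ = g⁻¹ * ((g * zz * g⁻¹) * x) * g := by rw [hg]
      _ = zz * (g⁻¹ * x * g) := by group
  have hx' : orderOf (⟨g⁻¹ * x * g, mem_centralizer_singleton_iff.2 h1⟩ : ↥(centralizer ({zz} : Set MG))) = 3 := by
    rw [Subgroup.orderOf_mk, ← hx]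
    have := MulEquiv.orderOf_eq (MulAut.conj g⁻¹) x
    rw [MulAut.conj_apply, inv_inv] at this
    exact this
  have hc : Nat.card ↥(A.map (MulAut.conj g⁻¹).toMonoidHom) = Nat.card ↥A :=
    Subgroup.card_map_of_injective (MulAut.conj g⁻¹).injective
  have hle' : A.map (MulAut.conj g⁻¹).toMonoidHom ≤ centralizer ({g⁻¹ * x * g} : Set MG) := by
    rintro _ ⟨a, ha, rfl⟩
    rw [mem_centralizer_singleton_iff]
    have h2 := mem_centralizer_singleton_iff.1 (hle ha)
    show g⁻¹ * a * g⁻¹⁻¹ * (g⁻¹ * x * g) = g⁻¹ * x * g * (g⁻¹ * a * g⁻¹⁻¹)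
    calc g⁻¹ * a * g⁻¹⁻¹ * (g⁻¹ * x * g) = g⁻¹ * (a * x) * g := by group
      _ = g⁻¹ * (x * a) * g := by rw [h2]
      _ = _ := by group
  rw [← hc]
  rcases three_in' hx' with h | h
  · exact Or.inl (apply h (comm_map _ hA) hle')
  · exact Or.inr ((Subgroup.card_dvd_of_le hle').trans h)

/-- **fixed rank 0, order 5** -/
theorem five_zero' {x : centralizer ({zz} : Set MG)} (hx : orderOf x = 5) (hfr : fr (pi x) = 1) :
    ¬ 11 ∣ Nat.card ↥(centralizer ({(x : MG)} : Set MG)) ∧ ¬ 13 ∣ Nat.card ↥(centralizer ({(x : MG)} : Set MG)) := by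
  have := finite
  have hp : Fact (Nat.Prime 5) := ⟨Nat.prime_five⟩
  have hj := CpAutBFive.Final.hJ (pi x) (MFive.orderOf_pi chart Nat.prime_five (by decide) hx) hfr
  obtain ⟨e⟩ := hj
  have hs : IsSimpleGroup (XX (pi x)) := (MulEquiv.isSimpleGroup_congr e).2 Cfsg.Agent.S1620.result.1
  have hc : Nat.card (XX (pi x)) = 604800 := by
    rw [Nat.card_congr e.toEquiv, Cfsg.Agent.J2Sylow.SporSylow.card_J2]
  have hns : ¬ Group.IsSolvable (XX (pi x)) := not_solvable hs hc (by norm_num) (by norm_num)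
  obtain ⟨N, hN⟩ := BpSpor.M5.exists_rad chart (by norm_num) hx hfr
    (fun d hd hc => MFive.isolated chart BpSpor.M5.trNe hx hfr d hd hc) hs (by rw [hc]; decide)
  obtain ⟨k, hk, hkk⟩ := PreUniq.MonRow.exists_kk Nat.prime_five (by decide) PreUniq.MonFiveRow.neg_five x hx hfr
  have hkk' : k * k = zz := hkk
  have hkz : k * zz = zz * k := by rw [← hkk', mul_assoc]
  obtain ⟨K, hK⟩ : ∃ K : ↥(centralizer ({zD x} : Set ↥(centralizer ({(x : MG)} : Set MG)))),
      (K : ↥(centralizer ({(x : MG)} : Set MG))) * K = zD x :=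
    ⟨⟨⟨k, mem_centralizer_singleton_iff.2 hk⟩, mem_centralizer_singleton_iff.2 (Subtype.ext hkz)⟩, Subtype.ext hkk'⟩
  obtain ⟨m, hm, hcm⟩ := hN.card_N_mul hns
  rw [hc] at hcm
  have hD : Nat.card ↥N ∣ Nat.card MG :=
    (Subgroup.card_subgroup_dvd_card N).trans (Subgroup.card_subgroup_dvd_card _)
  rw [card_M] at hD
  have h11 : ¬ 11 ∣ Nat.card ↥N := by
    refine not_dvd_N hN hns (by norm_num) hK (r := 11) (q := 7) (n := 2) (by norm_num) (by norm_num)
      (by norm_num) (by norm_num) (by rw [hc]; norm_num) (not_dvd_of_dvd ?_ hD) ?_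
    · norm_num
    · intro j h1 h7
      interval_cases j <;> norm_num
  have h13 : ¬ 13 ∣ Nat.card ↥N := by
    refine not_dvd_N hN hns (by norm_num) hK (r := 13) (q := 5) (n := 3) (by norm_num) (by norm_num)
      (by norm_num) (by norm_num) (by rw [hc]; norm_num) (not_dvd_of_dvd ?_ hD) ?_
    · norm_num
    · intro j h1 h7
      interval_cases j <;> norm_num
  have key : ∀ r : ℕ, r.Prime → ¬ r ∣ Nat.card ↥N → ¬ r ∣ 604800 * 2 →
      ¬ r ∣ Nat.card ↥(centralizer ({(x : MG)} : Set MG)) := by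
    intro r hr h1 h2 h3
    rw [hcm] at h3
    rcases hr.dvd_mul.1 h3 with h4 | h4
    · exact h1 h4
    · exact h2 (h4.trans (mul_dvd_mul_left _ hm))
  exact ⟨key 11 (by norm_num) h11 (by norm_num), key 13 (by norm_num) h13 (by norm_num)⟩

/-- **The elements of order 5 commuting with a conjugate of `z`.** -/
theorem five' {x : MG} (hx : orderOf x = 5) (he : Ev x) :
    Nat.card ↥(centralizer ({x} : Set MG)) = 5 * 273030912000000 ∨
      ((∀ r, Big r → ¬ r ∣ Nat.card ↥(centralizer ({x} : Set MG))) ∧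
        ¬ 11 ∣ Nat.card ↥(centralizer ({x} : Set MG)) ∧ ¬ 13 ∣ Nat.card ↥(centralizer ({x} : Set MG))) := by
  have := finite
  have := simple
  obtain ⟨x', hx', hc⟩ := exists_in hx he
  rw [← hc]
  have hxo : orderOf (x' : MG) = 5 := by rw [Subgroup.orderOf_coe, hx']
  rcases MFive.cases_five chart BpSpor.M5.trNe (CpAutBFive.Closed.coFive CpAutBFive.Final.hJ)
    CpAutBFive.Closed.hnEight BpSpor.M5.hasPair hx' with ⟨⟨e⟩⟩ | ⟨x₀, k, i, hx₀, hfr, hk⟩
  · left
    rw [card_XX, hxo, Nat.card_congr e.toEquiv, Cfsg.Agent.S1701.result.2]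
  · right
    obtain ⟨e⟩ := MFive.exists_cent_equiv Nat.prime_five (x := (x' : MG)) (y := (x₀ : MG)) hxo
      (by rw [Subgroup.orderOf_coe, hx₀]) hk
    rw [← Nat.card_congr e.toEquiv]
    exact ⟨fun r hr => five_zero hx₀ hfr hr, five_zero' hx₀ hfr⟩

/-- **No element of order 5 commutes with an element of order 17, 23, 29, 47, 59.** -/
theorem five_not_dvd' {r : ℕ} (hr : r = 17 ∨ r = 23 ∨ r = 29 ∨ r = 47 ∨ r = 59) {x : MG} (hx : orderOf x = 5) :
    ¬ r ∣ Nat.card ↥(centralizer ({x} : Set MG)) := by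
  have := finite
  have hb : Big r := by
    rcases hr with rfl | rfl | rfl | rfl | rfl <;> unfold Big <;> simp
  refine NSmAbs.not_dvd_cent Nat.prime_five hb.prime (by rcases hr with rfl | rfl | rfl | rfl | rfl <;> norm_num)
    (not_sq hb) (n := 9) (by rw [card_M]; norm_num) (by rcases hr with rfl | rfl | rfl | rfl | rfl <;> norm_num) ?_
    Ev ?_ ?_ (fun x g h => h.conj g) (exists_ev Nat.prime_five (by norm_num)) hx
  · intro j h0 hj
    rcases hr with rfl | rfl | rfl | rfl | rfl <;> interval_cases j <;> norm_num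
  · intro x hx he
    rcases five hx he with h | h
    · rw [h]
      rcases hr with rfl | rfl | rfl | rfl | rfl <;> norm_num
    · exact h r hb
  · intro x hx he
    exact (CpAutBFive.EvenRow.cases_solvable hx).resolve_left he

/-- **No element of order 7 commutes with an element of order 23, 31, 41, 47, 59.** -/
theorem seven_not_dvd {r : ℕ} (hr : r = 23 ∨ r = 31 ∨ r = 41 ∨ r = 47 ∨ r = 59) {x : MG} (hx : orderOf x = 7) :
    ¬ r ∣ Nat.card ↥(centralizer ({x} : Set MG)) := by
  have := finite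
  have hb : Big r := by
    rcases hr with rfl | rfl | rfl | rfl | rfl <;> unfold Big <;> simp
  refine NSmAbs.not_dvd_cent (p := 7) (by norm_num) hb.prime (by rcases hr with rfl | rfl | rfl | rfl | rfl <;> norm_num)
    (not_sq hb) (n := 6) (by rw [card_M]; norm_num) (by rcases hr with rfl | rfl | rfl | rfl | rfl <;> norm_num) ?_
    Ev ?_ ?_ (fun x g h => h.conj g) (exists_ev (by norm_num) (by norm_num)) hx
  · intro j h0 hj
    rcases hr with rfl | rfl | rfl | rfl | rfl <;> interval_cases j <;> norm_num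
  · intro x hx he
    rcases H70.MSeven.seven hx he with h | h
    · rw [h]
      rcases hr with rfl | rfl | rfl | rfl | rfl <;> norm_num
    · exact h r hb
  · intro x hx he
    exact (H70.MSeven.seven_cases hx).resolve_left he

/-- **The elements of order 11 commuting with a conjugate of `z`.** -/
theorem eleven {x : MG} (hx : orderOf x = 11) (he : Ev x) :
    Nat.card ↥(centralizer ({x} : Set MG)) = 11 * 95040 := by
  have := finite
  have := simple
  obtain ⟨x', hx', hc⟩ := exists_in hx he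
  rw [← hc]
  obtain ⟨x₀, hx₀, hpx⟩ := H800.ME.Final.exists_x
  have hxo : orderOf (x₀ : MG) = 11 := by rw [Subgroup.orderOf_coe, hx₀]
  obtain ⟨e⟩ := H800.ME.Twelve.iso chart hx₀ hpx (H800.ME.Final.dvd_XX hxo)
  obtain ⟨k, hk⟩ := CpAutON.Gen.conj_into (p := 11) (BpSpor.MBigModel.not_sq (Or.inl rfl) orderOf_zz) hx' hx₀
  have : Finite ↥(centralizer ({zz} : Set MG)) := inferInstance
  obtain ⟨i, hi⟩ := mem_powers_iff_mem_zpowers.2 hk
  obtain ⟨e'⟩ := MFive.exists_cent_equiv (p := 11) (by norm_num) (x := (x' : MG)) (y := (x₀ : MG))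
    (by rw [Subgroup.orderOf_coe, hx']) hxo (k := (k : MG)) (i := i) (by
      have h1 := congrArg Subtype.val hi
      exact h1.symm)
  rw [← Nat.card_congr e'.toEquiv, card_XX, hxo, Nat.card_congr e.toEquiv, Cfsg.Agent.MTwelveType.SylowModel.card_M12]

/-- **No element of order 11 commutes with an element of order 17, 19, 29, 31, 41, 47, 59, 71.** -/
theorem eleven_not_dvd {r : ℕ} (hr : r = 17 ∨ r = 19 ∨ r = 29 ∨ r = 31 ∨ r = 41 ∨ r = 47 ∨ r = 59 ∨ r = 71) {x : MG}
    (hx : orderOf x = 11) : ¬ r ∣ Nat.card ↥(centralizer ({x} : Set MG)) := by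
  have := finite
  have hb : Big r := by
    rcases hr with rfl | rfl | rfl | rfl | rfl | rfl | rfl | rfl <;> unfold Big <;> simp
  refine NSmAbs.not_dvd_cent (p := 11) (by norm_num) hb.prime
    (by rcases hr with rfl | rfl | rfl | rfl | rfl | rfl | rfl | rfl <;> norm_num)
    (NSmMon.not_sq hb) (n := 2) (by rw [card_M]; norm_num)
    (by rcases hr with rfl | rfl | rfl | rfl | rfl | rfl | rfl | rfl <;> norm_num) ?_
    Ev ?_ ?_ (fun x g h => h.conj g) (exists_ev (by norm_num) (by norm_num)) hx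
  · intro j h0 hj
    rcases hr with rfl | rfl | rfl | rfl | rfl | rfl | rfl | rfl <;> interval_cases j <;> norm_num
  · intro x hx he
    rw [eleven hx he]
    rcases hr with rfl | rfl | rfl | rfl | rfl | rfl | rfl | rfl <;> norm_num
  · intro x hx he
    by_contra hcon
    have ho : ¬ Odd (Nat.card ↥(centralizer ({x} : Set MG))) := fun ho => hcon (S0205.result ho)
    rw [Nat.not_odd_iff_even] at ho
    have : Fact (Nat.Prime 2) := ⟨Nat.prime_two⟩
    obtain ⟨v, hv⟩ := exists_prime_orderOf_dvd_card' 2 ho.two_dvd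
    have hv' : orderOf (v : MG) = 2 := by rw [Subgroup.orderOf_coe, hv]
    exact he (BpSpor.MBigEleven.comm_z hx hv' (mem_centralizer_singleton_iff.1 v.2).symm)

end Cfsg.Agent.H199.AbMon
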