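import Mathlib
import Cfsg.Prelude.Def_LieTypeDatum
import Cfsg.Agent.H199.PslAut

/-!
# Field automorphisms of prime order of `PSL_n(F)`: centralizer and splitting (helper199)

* `index_sup_pow` : index of `B ⊔ A^n` in a finite cyclic group;
* `splitCount` : number of `T`-classes in the `Inndiag`-class of `x` through determinants;
* `card_fix`, `exists_emb` : the fixed field of an automorphism of order `r`;
* `centralizer_equiv` : `C_{PGL}(σ) ≅ PGL_n(F₀)`.
-/

set_option autoImplicit false
set_option linter.unusedSectionVars false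

namespace Cfsg.Agent.H199.PslField

open Matrix
open Cfsg.Agent.ClassicalGeometry.AutPSL.Root
open Cfsg.Agent.ClassicalGeometry.AutPSL.Auto
open Cfsg.Agent.H199.PslAut

/-- The index of `B ⊔ A^n` in a finite cyclic group `A`. -/
theorem index_sup_pow {A : Type*} [CommGroup A] [Finite A] [IsCyclic A] (B : Subgroup A) (n : ℕ) :
    (B ⊔ (powMonoidHom n : A →* A).range).index = Nat.gcd n B.index := by
  have h1 : B ⊔ (powMonoidHom n : A →* A).range =
      ((powMonoidHom n : (A ⧸ B) →* (A ⧸ B)).range).comap (QuotientGroup.mk' B) := by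
    ext x
    rw [Subgroup.mem_comap]
    constructor
    · intro hx
      obtain ⟨b, hb, _, ⟨a, rfl⟩, rfl⟩ := Subgroup.mem_sup.1 hx
      refine ⟨QuotientGroup.mk' B a, ?_⟩
      have hb1 : QuotientGroup.mk' B b = 1 := (QuotientGroup.eq_one_iff b).2 hb
      rw [map_mul, hb1, one_mul]
      rfl
    · rintro ⟨a, ha⟩
      obtain ⟨a, rfl⟩ := QuotientGroup.mk'_surjective B a
      have h2 : a ^ n / x ∈ B := by
        rw [← QuotientGroup.eq_one_iff]
        have h3 : QuotientGroup.mk' B (a ^ n / x) = 1 := by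
          rw [map_div, map_pow, ← ha]
          exact div_self' _
        exact h3
      have h3 : x = (a ^ n / x)⁻¹ * a ^ n := by
        rw [inv_div, div_mul_cancel]
      rw [h3]
      exact Subgroup.mul_mem_sup (B.inv_mem h2) ⟨a, rfl⟩
  rw [h1, Subgroup.index_comap_of_surjective _ (QuotientGroup.mk'_surjective B),
    IsCyclic.index_powMonoidHom_range, Nat.gcd_comm]
  rfl

section count

variable {F : Type*} [Field F] [Fintype F] {n : ℕ}

/-- The determinant modulo `n`-th powers. -/
noncomputable def detMod (n : ℕ) (F : Type*) [Field F] :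
    GL (Fin n) F →* Fˣ ⧸ (powMonoidHom n : Fˣ →* Fˣ).range :=
  (QuotientGroup.mk' _).comp Matrix.GeneralLinearGroup.det

theorem detMod_surjective (hn : 2 ≤ n) : Function.Surjective (detMod n F) := by
  intro a
  obtain ⟨a, rfl⟩ := QuotientGroup.mk'_surjective _ a
  have : Nonempty (Fin n) := ⟨⟨0, by omega⟩⟩
  obtain ⟨g, hg⟩ := Matrix.GeneralLinearGroup.det_surjective (n := Fin n) (R := F) a
  exact ⟨g, by rw [detMod, MonoidHom.comp_apply, hg]⟩

theorem mem_ker_detMod {g : GL (Fin n) F} :
    g ∈ (detMod n F).ker ↔ ∃ u : Fˣ, u ^ n = Matrix.GeneralLinearGroup.det g := by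
  rw [MonoidHom.mem_ker, detMod, MonoidHom.comp_apply, QuotientGroup.mk'_apply,
    QuotientGroup.eq_one_iff]
  exact Iff.rfl

theorem det_scal (u : Fˣ) : Matrix.GeneralLinearGroup.det (scal n F u) = u ^ n := by
  apply Units.ext
  rw [Matrix.GeneralLinearGroup.val_det_apply, coe_scal, Matrix.scalar_apply, Matrix.det_diagonal,
    Finset.prod_const, Finset.card_univ, Fintype.card_fin, Units.val_pow_eq_pow_val]

/-- The number of `T`-classes in the `Inndiag`-class of any automorphism `x`. -/
theorem splitCount (hn : 2 ≤ n) (x : MulAut (Matrix.ProjectiveSpecialLinearGroup (Fin n) F)) :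
    splitClassCount (inndiagPSL n F) (Inn (Matrix.ProjectiveSpecialLinearGroup (Fin n) F)) x =
      Nat.gcd n (((Subgroup.centralizer {x}).comap (Psi n F)).map
        Matrix.GeneralLinearGroup.det).index := by
  rw [Cfsg.Agent.H198.SplitCount.splitClassCount_eq_index (Psi n F) (detMod n F) inndiag_eq.symm
    (detMod_surjective hn) ?_ ?_ x, ← index_sup_pow]
  · rw [detMod, ← Subgroup.map_map, ← Subgroup.index_comap_of_surjective _
      (QuotientGroup.mk'_surjective _), QuotientGroup.comap_map_mk']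
    rw [sup_comm]
  · rw [Inn_eq]
    apply le_antisymm
    · rintro _ ⟨g, hg, rfl⟩
      obtain ⟨u, hu⟩ := mem_ker_detMod.1 hg
      have h1 : Matrix.GeneralLinearGroup.det ((scal n F u)⁻¹ * g) = 1 := by
        rw [map_mul, map_inv, det_scal, hu, inv_mul_cancel]
      refine ⟨(scal n F u)⁻¹ * g, ⟨⟨(((scal n F u)⁻¹ * g : GL (Fin n) F) : Matrix (Fin n) (Fin n) F),
        by rw [← Matrix.GeneralLinearGroup.val_det_apply, h1, Units.val_one]⟩, ?_⟩, ?_⟩
      · apply Units.ext
        rfl
      · rw [map_mul, map_inv, Psi_scal, inv_one, one_mul]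
    · rintro _ ⟨_, ⟨s, rfl⟩, rfl⟩
      refine ⟨_, ?_, rfl⟩
      refine mem_ker_detMod.2 ⟨1, ?_⟩
      apply Units.ext
      rw [Matrix.GeneralLinearGroup.val_det_apply, one_pow, Units.val_one]
      exact s.2.symm
  · intro g hg
    obtain ⟨u, rfl⟩ := (Psi_eq_one_iff hn).1 (MonoidHom.mem_ker.1 hg)
    exact mem_ker_detMod.2 ⟨u, (det_scal u).symm⟩

end count

section fix

variable {F : Type*} [Field F] [Fintype F]

/-- The order of the fixed field. -/
theorem card_fix (σ : F ≃+* F) :
    ∃ (K : Subfield F), (∀ a, a ∈ K ↔ σ a = a) ∧ Nat.card K ^ orderOf σ = Nat.card F := by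
  classical
  have : Finite (F ≃+* F) := DFunLike.finite _
  let _ : Fintype (Subgroup.zpowers σ) := Fintype.ofFinite _
  refine ⟨FixedPoints.subfield (Subgroup.zpowers σ) F, fun a => ?_, ?_⟩
  · constructor
    · intro h
      exact h ⟨σ, Subgroup.mem_zpowers σ⟩
    · rintro h ⟨τ, hτ⟩
      have h1 : Subgroup.zpowers σ ≤ MulAction.stabilizer (F ≃+* F) a := by
        rw [Subgroup.zpowers_le]
        exact h
      exact h1 hτ
  · have h1 := FixedPoints.finrank_eq_card (Subgroup.zpowers σ) F
    rw [Fintype.card_eq_nat_card, Nat.card_zpowers] at h1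
    rw [← h1]
    exact (Module.natCard_eq_pow_finrank
      (K := FixedPoints.subfield (Subgroup.zpowers σ) F) (V := F)).symm

/-- A field `F₀` with `|F₀|^r = |F|`, `r` the order of `σ`, embeds in `F` with image the fixed field of `σ`. -/
theorem exists_emb (σ : F ≃+* F) (F₀ : Type*) [Field F₀] [Fintype F₀]
    (h : Fintype.card F₀ ^ orderOf σ = Fintype.card F) :
    ∃ j : F₀ →+* F, ∀ a, σ a = a ↔ ∃ b, j b = a := by
  obtain ⟨K, hK, hcard⟩ := card_fix σ
  have : Finite (F ≃+* F) := DFunLike.finite _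
  let _ : Fintype K := Fintype.ofFinite _
  have hpos : 0 < orderOf σ := orderOf_pos σ
  have h1 : Fintype.card F₀ = Fintype.card K := by
    rw [Nat.card_eq_fintype_card, Nat.card_eq_fintype_card, ← h] at hcard
    exact (Nat.pow_left_injective hpos.ne' hcard).symm
  let e : F₀ ≃+* K := FiniteField.ringEquivOfCardEq h1
  refine ⟨K.subtype.comp (e : F₀ →+* K), fun a => ?_⟩
  rw [← hK]
  constructor
  · intro ha
    exact ⟨e.symm ⟨a, ha⟩, by simp⟩
  · rintro ⟨b, rfl⟩
    exact (e b).2

theorem prime_dvd {p f r : ℕ} [Fact p.Prime] (hF : Fintype.card F = p ^ f) {σ : F ≃+* F}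
    (hσ : orderOf σ = r) (hr : 0 < r) :
    r ∣ f ∧ (p ^ (f / r)) ^ r = Fintype.card F := by
  obtain ⟨K, -, hcard⟩ := card_fix σ
  rw [hσ, Nat.card_eq_fintype_card (α := F), hF] at hcard
  have hp := Fact.out (p := p.Prime)
  obtain ⟨k, -, hk⟩ := (Nat.dvd_prime_pow hp).1 (show Nat.card K ∣ p ^ f from by
    rw [← hcard]; exact dvd_pow_self _ hr.ne')
  rw [hk, ← pow_mul] at hcard
  have h1 : k * r = f := Nat.pow_right_injective hp.two_le hcard
  refine ⟨⟨k, by rw [← h1, mul_comm]⟩, ?_⟩
  rw [hF, ← h1, Nat.mul_div_cancel _ hr, ← pow_mul]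

end fix

section main

variable {F : Type*} [Field F] {n : ℕ} {F₀ : Type*} [Field F₀]

/-- Elements of `GL_n(F)` whose class commutes with `σ`: the scalar multiples of matrices over the fixed field. -/
theorem comm_phi_iff (hn : 2 ≤ n) {σ : F ≃+* F} {j : F₀ →+* F} (hj : ∀ a, σ a = a ↔ ∃ b, j b = a)
    (g : GL (Fin n) F) :
    Psi n F g ∈ Subgroup.centralizer {phi n F σ} ↔
      ∃ (u : Fˣ) (h : GL (Fin n) F₀), g = scal n F u * Matrix.GeneralLinearGroup.map j h := by
  rw [Subgroup.mem_centralizer_singleton_iff, phi_mul_Psi]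
  constructor
  · intro h
    have h1 := mul_right_cancel h
    obtain ⟨u, hu⟩ := (Psi_eq_Psi_iff hn).1 h1
    -- `g = u σ(g)`
    have hent : ∀ i k, (g : Matrix (Fin n) (Fin n) F) i k = u * σ ((g : Matrix (Fin n) (Fin n) F) i k) := by
      intro i k
      have h2 := congrArg (fun m : GL (Fin n) F => (m : Matrix (Fin n) (Fin n) F) i k) hu
      change (g : Matrix (Fin n) (Fin n) F) i k =
        (scalar (Fin n) (u : F) * (g : Matrix (Fin n) (Fin n) F).map σ) i k at h2
      rw [Matrix.scalar_apply, Matrix.diagonal_mul] at h2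
      exact h2
    -- a nonzero entry
    obtain ⟨i, k, hik⟩ : ∃ i k, (g : Matrix (Fin n) (Fin n) F) i k ≠ 0 := by
      by_contra hno
      push Not at hno
      have h3 : (g : Matrix (Fin n) (Fin n) F) = 0 := by
        ext i k
        exact hno i k
      have h4 : (g : Matrix (Fin n) (Fin n) F) * ((g⁻¹ : GL (Fin n) F) : Matrix (Fin n) (Fin n) F)
          = 1 := by rw [← Units.val_mul, mul_inv_cancel, Units.val_one]
      rw [h3, zero_mul] at h4
      have := congrFun (congrFun h4 ⟨0, by omega⟩) ⟨0, by omega⟩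
      rw [one_apply_eq] at this
      exact zero_ne_one this
    set a : F := (g : Matrix (Fin n) (Fin n) F) i k with ha
    -- `g / a` has fixed entries
    have hfix : ∀ r s, ∃ b, j b = a⁻¹ * (g : Matrix (Fin n) (Fin n) F) r s := by
      intro r s
      rw [← hj, map_mul, map_inv₀]
      have h2 := hent r s
      have h3 := hent i k
      rw [← ha] at h3
      have hσa : σ a ≠ 0 := (map_ne_zero σ).2 hik
      have hu0 : (u : F) ≠ 0 := u.ne_zero
      rw [h2]
      conv_rhs => rw [h3]
      rw [mul_inv]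
      field_simp
      rw [← h2]
    choose m hm using hfix
    have hmap : (Matrix.of m).map j = a⁻¹ • (g : Matrix (Fin n) (Fin n) F) := by
      ext r s
      rw [Matrix.map_apply, Matrix.of_apply, hm, Matrix.smul_apply, smul_eq_mul]
    have hdet : (Matrix.of m).det ≠ 0 := by
      intro h0
      have h5 : j (Matrix.of m).det = 0 := by rw [h0, map_zero]
      rw [RingHom.map_det, RingHom.mapMatrix_apply, hmap, Matrix.det_smul] at h5
      rcases mul_eq_zero.1 h5 with h6 | h6
      · exact (pow_ne_zero _ (inv_ne_zero hik)) h6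
      · have h7 := (Matrix.GeneralLinearGroup.det g).ne_zero
        rw [Matrix.GeneralLinearGroup.val_det_apply] at h7
        exact h7 h6
    refine ⟨Units.mk0 a hik, Matrix.GeneralLinearGroup.mkOfDetNeZero (Matrix.of m) hdet, ?_⟩
    apply Units.ext
    change (g : Matrix (Fin n) (Fin n) F) = scalar (Fin n) a * (Matrix.of m).map j
    rw [hmap, Matrix.scalar_apply, Matrix.mul_smul, ← Matrix.smul_mul, ← Matrix.diagonal_smul]
    have h8 : (a⁻¹ • fun _ : Fin n => a) = fun _ => 1 := by
      funext i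
      rw [Pi.smul_apply, smul_eq_mul, inv_mul_cancel₀ hik]
    rw [h8, Matrix.diagonal_one, one_mul]
  · rintro ⟨u, h, rfl⟩
    congr 1
    rw [Psi_eq_Psi_iff hn]
    refine ⟨u * (Units.map (σ : F →* F) u)⁻¹, ?_⟩
    apply Units.ext
    have h1 : (mapGL σ (Matrix.GeneralLinearGroup.map j h) : Matrix (Fin n) (Fin n) F)
        = (Matrix.GeneralLinearGroup.map j h : GL (Fin n) F) := by
      ext r s
      rw [coe_mapGL, Matrix.map_apply]
      exact (hj _).2 ⟨_, rfl⟩
    have h2 : mapGL σ (scal n F u) = scal n F (Units.map (σ : F →* F) u) := by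
      apply Units.ext
      rw [coe_mapGL, coe_scal, coe_scal, Matrix.scalar_apply, Matrix.scalar_apply,
        Matrix.diagonal_map (map_zero σ)]
      rfl
    rw [map_mul (mapGL σ), h2, ← mul_assoc, ← map_mul, inv_mul_cancel_right, Units.val_mul,
      Units.val_mul, h1]

/-- `GL_n(F₀) → Aut(PSL_n(F))`. -/
noncomputable def theta (n : ℕ) (j : F₀ →+* F) :
    GL (Fin n) F₀ →* MulAut (Matrix.ProjectiveSpecialLinearGroup (Fin n) F) :=
  (Psi n F).comp (Matrix.GeneralLinearGroup.map j)

theorem theta_ker (hn : 2 ≤ n) (j : F₀ →+* F) :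
    (theta n j).ker = Subgroup.center (GL (Fin n) F₀) := by
  ext g
  rw [MonoidHom.mem_ker, theta, MonoidHom.comp_apply, Psi_eq_one_iff hn,
    Matrix.GeneralLinearGroup.center_eq_range_scalar]
  constructor
  · rintro ⟨u, hu⟩
    have hent : ∀ r s, j ((g : Matrix (Fin n) (Fin n) F₀) r s) =
        (scalar (Fin n) (u : F)) r s := by
      intro r s
      exact congrArg (fun m : GL (Fin n) F => (m : Matrix (Fin n) (Fin n) F) r s) hu
    set b : F₀ := (g : Matrix (Fin n) (Fin n) F₀) ⟨0, by omega⟩ ⟨0, by omega⟩ with hb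
    have hjb : j b = u := by
      rw [hb, hent, Matrix.scalar_apply, Matrix.diagonal_apply_eq]
    have hb0 : b ≠ 0 := by
      intro h0
      rw [h0, map_zero] at hjb
      exact u.ne_zero hjb.symm
    refine ⟨Units.mk0 b hb0, ?_⟩
    apply Units.ext
    ext r s
    apply j.injective
    change j (scalar (Fin n) b r s) = _
    rw [hent, Matrix.scalar_apply, Matrix.scalar_apply, Matrix.diagonal_apply,
      Matrix.diagonal_apply]
    split_ifs
    · exact hjb
    · exact map_zero j
  · rintro ⟨u, rfl⟩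
    refine ⟨Units.map (j : F₀ →* F) u, ?_⟩
    apply Units.ext
    ext r s
    change j (scalar (Fin n) (u : F₀) r s) = scalar (Fin n) (j u) r s
    rw [Matrix.scalar_apply, Matrix.scalar_apply, Matrix.diagonal_apply, Matrix.diagonal_apply]
    split_ifs
    · rfl
    · exact map_zero j

theorem theta_range (hn : 2 ≤ n) {σ : F ≃+* F} {j : F₀ →+* F} (hj : ∀ a, σ a = a ↔ ∃ b, j b = a) :
    (theta n j).range = inndiagPSL n F ⊓ Subgroup.centralizer {phi n F σ} := by
  apply le_antisymm
  · rintro _ ⟨h, rfl⟩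
    exact ⟨Psi_mem _, (comm_phi_iff hn hj _).2 ⟨1, h, by rw [map_one, one_mul]⟩⟩
  · rintro β ⟨hβ, hβ'⟩
    obtain ⟨g, rfl⟩ := mem_inndiag.1 hβ
    obtain ⟨u, h, rfl⟩ := (comm_phi_iff hn hj g).1 hβ'
    refine ⟨h, ?_⟩
    rw [map_mul, Psi_scal, one_mul]
    rfl

/-- The centralizer in `PGL_n(F)` of the field automorphism `σ` is `PGL_n(F₀)`. -/
theorem centralizer_equiv (hn : 2 ≤ n) {σ : F ≃+* F} {j : F₀ →+* F}
    (hj : ∀ a, σ a = a ↔ ∃ b, j b = a) :
    Nonempty (↥(inndiagPSL n F ⊓ Subgroup.centralizer {phi n F σ}) ≃*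
      Matrix.ProjGenLinGroup (Fin n) F₀) := by
  refine ⟨MulEquiv.symm ?_⟩
  exact ((QuotientGroup.quotientMulEquivOfEq (theta_ker hn j).symm).trans
    (QuotientGroup.quotientKerEquivRange (theta n j))).trans
    (MulEquiv.subgroupCongr (theta_range hn hj))

theorem comap_map_det (hn : 2 ≤ n) {σ : F ≃+* F} {j : F₀ →+* F}
    (hj : ∀ a, σ a = a ↔ ∃ b, j b = a) :
    ((Subgroup.centralizer {phi n F σ}).comap (Psi n F)).map Matrix.GeneralLinearGroup.det =
      (Units.map (j : F₀ →* F)).range ⊔ (powMonoidHom n : Fˣ →* Fˣ).range := by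
  apply le_antisymm
  · rintro _ ⟨g, hg, rfl⟩
    obtain ⟨u, h, rfl⟩ := (comm_phi_iff hn hj g).1 hg
    rw [map_mul, mul_comm]
    refine Subgroup.mul_mem_sup ⟨Matrix.GeneralLinearGroup.det h, ?_⟩ ⟨u, ?_⟩
    · apply Units.ext
      change j ((h : Matrix (Fin n) (Fin n) F₀).det) = ((h : Matrix (Fin n) (Fin n) F₀).map j).det
      rw [RingHom.map_det]
      rfl
    · apply Units.ext
      rw [Matrix.GeneralLinearGroup.val_det_apply, coe_scal, Matrix.scalar_apply,
        Matrix.det_diagonal, Finset.prod_const, Finset.card_univ, Fintype.card_fin]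
      rfl
  · refine sup_le ?_ ?_
    · rintro _ ⟨b, rfl⟩
      have : Nonempty (Fin n) := ⟨⟨0, by omega⟩⟩
      obtain ⟨h, hh⟩ := Matrix.GeneralLinearGroup.det_surjective (n := Fin n) (R := F₀) b
      refine ⟨Matrix.GeneralLinearGroup.map j h,
        (comm_phi_iff hn hj _).2 ⟨1, h, by rw [map_one, one_mul]⟩, ?_⟩
      apply Units.ext
      rw [← hh]
      change ((h : Matrix (Fin n) (Fin n) F₀).map j).det = j ((h : Matrix (Fin n) (Fin n) F₀).det)
      rw [RingHom.map_det]
      rfl
    · rintro _ ⟨u, rfl⟩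
      refine ⟨scal n F u, (comm_phi_iff hn hj _).2 ⟨u, 1, by rw [map_one, mul_one]⟩, ?_⟩
      apply Units.ext
      rw [Matrix.GeneralLinearGroup.val_det_apply, coe_scal, Matrix.scalar_apply,
        Matrix.det_diagonal, Finset.prod_const, Finset.card_univ, Fintype.card_fin]
      rfl

/-- The number of `T`-classes in the `PGL`-class of `σ`. -/
theorem splitCount_phi [Fintype F] [Fintype F₀] (hn : 2 ≤ n) {σ : F ≃+* F} {j : F₀ →+* F}
    (hj : ∀ a, σ a = a ↔ ∃ b, j b = a) :
    splitClassCount (inndiagPSL n F) (Inn (Matrix.ProjectiveSpecialLinearGroup (Fin n) F))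
      (phi n F σ) = Nat.gcd n ((Fintype.card F - 1) / (Fintype.card F₀ - 1)) := by
  rw [splitCount hn, comap_map_det hn hj, index_sup_pow, ← Nat.gcd_assoc, Nat.gcd_self]
  congr 1
  have h1 : Nat.card (Units.map (j : F₀ →* F)).range = Fintype.card F₀ - 1 := by
    rw [← Nat.card_congr (MonoidHom.ofInjective (f := Units.map (j : F₀ →* F))
      (Units.map_injective j.injective)).toEquiv, Nat.card_units, Nat.card_eq_fintype_card]
  have h2 := (Units.map (j : F₀ →* F)).range.card_mul_index
  rw [h1, Nat.card_units, Nat.card_eq_fintype_card] at h2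
  have h3 : 0 < Fintype.card F₀ - 1 := Nat.sub_pos_of_lt Fintype.one_lt_card
  rw [← h2, Nat.mul_div_cancel_left _ h3]

end main

end Cfsg.Agent.H199.PslField
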