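import Mathlib
import Cfsg.Prelude.Def_LieTypeDatum
import Cfsg.Agent.H199.PslField
import Cfsg.Agent.ClassicalGeometry.GUBasic
import Cfsg.Agent.ClassicalGeometry.InvolutiveNorm

/-!
# Involutory graph-field automorphisms of `PSL_n(F)` (helper199)

* `eq_pow` : an automorphism of order two of the field with `q²` elements is `x ↦ x ^ q`;
* `comm_iff` : `g` commutes with `σ ι` modulo scalars iff `g` is a scalar times a unitary matrix;
* `isConjUnder_conj_gf` : conjugates of `σ ι` under `Aut(T)` are conjugate under `Inndiag(T)`;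
* `centralizer_equiv_gf`, `splitCount_gf`.
-/

set_option autoImplicit false
set_option linter.unusedSectionVars false

namespace Cfsg.Agent.H199.PslGraphField

open Matrix
open Cfsg.Agent.ClassicalGeometry.AutPSL.Root
open Cfsg.Agent.ClassicalGeometry.AutPSL.Auto
open Cfsg.Agent.H199.PslAut
open Cfsg.Agent.H199.PslField

section field

variable {F : Type*} [Field F] [Fintype F]

/-- The automorphism group of a finite field is cyclic. -/
theorem isCyclic_ringEquiv (F : Type*) [Field F] [Finite F] : IsCyclic (F ≃+* F) := by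
  obtain ⟨p, hp⟩ := CharP.exists F
  have hpp : Fact p.Prime := ⟨CharP.char_is_prime F p⟩
  let _ : Algebra (ZMod p) F := ZMod.algebra F p
  let φ : (F ≃ₐ[ZMod p] F) →* (F ≃+* F) :=
    { toFun := fun σ => σ.toRingEquiv
      map_one' := rfl
      map_mul' := fun _ _ => rfl }
  have hφ : Function.Surjective φ := by
    intro σ
    refine ⟨AlgEquiv.ofRingEquiv (f := σ) ?_, ?_⟩
    · intro x
      have : (σ : F →+* F).comp (algebraMap (ZMod p) F) = algebraMap (ZMod p) F :=
        Subsingleton.elim _ _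
      exact RingHom.congr_fun this x
    · ext x
      rfl
  exact isCyclic_of_surjective φ hφ

/-- Two automorphisms of order two of a finite field are equal. -/
theorem involution_unique {σ τ : F ≃+* F} (hσ : orderOf σ = 2) (hτ : orderOf τ = 2) : σ = τ := by
  classical
  have hcyc : IsCyclic (F ≃+* F) := isCyclic_ringEquiv F
  have hfin : Finite (F ≃+* F) := DFunLike.finite _
  let _ : Fintype (F ≃+* F) := Fintype.ofFinite _
  by_contra hne
  have h1 : (Finset.univ.filter fun a : F ≃+* F => a ^ 2 = 1).card ≤ 2 :=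
    IsCyclic.card_pow_eq_one_le two_pos
  have hσ1 : σ ≠ 1 := by
    rintro rfl
    rw [orderOf_one] at hσ
    omega
  have hτ1 : τ ≠ 1 := by
    rintro rfl
    rw [orderOf_one] at hτ
    omega
  have h2 : ({1, σ, τ} : Finset (F ≃+* F)) ⊆ Finset.univ.filter fun a : F ≃+* F => a ^ 2 = 1 := by
    intro a ha
    rw [Finset.mem_filter]
    refine ⟨Finset.mem_univ _, ?_⟩
    simp only [Finset.mem_insert, Finset.mem_singleton] at ha
    rcases ha with rfl | rfl | rfl
    · exact one_pow 2
    · rw [← hσ, pow_orderOf_eq_one]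
    · rw [← hτ, pow_orderOf_eq_one]
  have h3 := Finset.card_le_card h2
  rw [Finset.card_insert_of_notMem, Finset.card_pair hne] at h3
  · omega
  · simp only [Finset.mem_insert, Finset.mem_singleton, not_or]
    exact ⟨fun h => hσ1 h.symm, fun h => hτ1 h.symm⟩

/-- An automorphism of order two of the field with `q²` elements is `x ↦ x ^ q`. -/
theorem eq_pow {q : ℕ} (hF : Fintype.card F = q ^ 2) {σ : F ≃+* F} (hσ : orderOf σ = 2) (a : F) :
    σ a = a ^ q := by
  obtain ⟨τ, hτ⟩ := Cfsg.Agent.ClassicalGeometry.GUBasic.exists_powHom hF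
  have hq := Cfsg.Agent.ClassicalGeometry.GUBasic.two_le hF
  have hbij : Function.Bijective τ := Finite.injective_iff_bijective.1 τ.injective
  let τ' : F ≃+* F := RingEquiv.ofBijective τ hbij
  have h1 : τ' ^ 2 = 1 := by
    ext x
    change τ (τ x) = x
    rw [hτ, hτ, ← pow_mul, ← pow_two, ← hF, FiniteField.pow_card]
  have h2 : τ' ≠ 1 := by
    intro h
    have h3 : ∀ x : F, x ^ q = x := by
      intro x
      rw [← hτ]
      exact DFunLike.congr_fun h x
    obtain ⟨c, hc, hc1⟩ := Cfsg.Agent.ClassicalGeometry.GUBasic.exists_norm_one hF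
    -- all elements are roots of `X ^ q - X`
    have h4 : Fintype.card F ≤ q := by
      classical
      have h5 : (Polynomial.X ^ q - Polynomial.X : Polynomial F) ≠ 0 :=
        FiniteField.X_pow_card_sub_X_ne_zero F hq
      have h6 : (Finset.univ : Finset F) ⊆ (Polynomial.X ^ q - Polynomial.X : Polynomial F).roots.toFinset := by
        intro x _
        rw [Multiset.mem_toFinset, Polynomial.mem_roots h5, Polynomial.IsRoot.def]
        simp [h3 x]
      calc Fintype.card F = (Finset.univ : Finset F).card := rfl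
        _ ≤ (Polynomial.X ^ q - Polynomial.X : Polynomial F).roots.toFinset.card :=
          Finset.card_le_card h6
        _ ≤ Multiset.card (Polynomial.X ^ q - Polynomial.X : Polynomial F).roots :=
          Multiset.toFinset_card_le _
        _ ≤ (Polynomial.X ^ q - Polynomial.X : Polynomial F).natDegree := Polynomial.card_roots' _
        _ = q := FiniteField.X_pow_card_sub_X_natDegree_eq F hq
    rw [hF] at h4
    nlinarith
  have h3 : orderOf τ' = 2 := orderOf_eq_prime h1 h2
  rw [involution_unique hσ h3]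
  exact hτ a

end field

section gf

variable {F : Type*} [Field F] {n : ℕ}

/-- The standard graph-field automorphism. -/
noncomputable def gf (n : ℕ) {F : Type*} [Field F] (σ : F ≃+* F) :
    MulAut (Matrix.ProjectiveSpecialLinearGroup (Fin n) F) := phi n F σ * iot n F

theorem gf_mul_Psi (σ : F ≃+* F) (g : GL (Fin n) F) :
    gf n σ * Psi n F g = Psi n F (mapGL σ (itGL g)) * gf n σ := by
  rw [gf, mul_assoc, iot_mul_Psi, ← mul_assoc, phi_mul_Psi, mul_assoc]

theorem gf_sq (σ : F ≃+* F) : gf n σ ^ 2 = phi n F (σ ^ 2) := by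
  rw [gf, pow_two, mul_assoc, ← mul_assoc (iot n F), iot_mul_phi, mul_assoc (phi n F σ) (iot n F),
    iot_mul_iot, mul_one, map_pow, pow_two]

theorem orderOf_sigma (hn : 3 ≤ n) {σ : F ≃+* F} (hσ : σ ≠ RingEquiv.refl F)
    (h : orderOf (gf n σ) = 2) : orderOf σ = 2 := by
  refine orderOf_eq_prime ?_ hσ
  apply phi_injective (n := n) (by omega)
  rw [← gf_sq, ← h, pow_orderOf_eq_one, map_one]

variable [Fintype F]

/-- Conjugates of `σ ι` under the automorphism group are conjugate under `Inndiag`, when `Gal` is abelian. -/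
theorem isConjUnder_conj_gf (hn : 2 ≤ n) (σ : F ≃+* F)
    (α : MulAut (Matrix.ProjectiveSpecialLinearGroup (Fin n) F)) :
    IsConjUnder (inndiagPSL n F) (gf n σ) (α * gf n σ * α⁻¹) := by
  have hcyc : IsCyclic (F ≃+* F) := isCyclic_ringEquiv F
  have hphi : ∀ τ : F ≃+* F, phi n F τ * gf n σ = gf n σ * phi n F τ := by
    intro τ
    rw [gf, ← mul_assoc, ← map_mul, mul_assoc, iot_mul_phi, ← mul_assoc, ← map_mul]
    congr 2
    let _ := IsCyclic.commGroup (α := F ≃+* F)
    exact mul_comm τ σ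
  have hiot : iot n F * gf n σ = gf n σ * iot n F := by
    rw [gf, ← mul_assoc, iot_mul_phi]
  rcases exists_form hn α with ⟨g, τ, rfl⟩ | ⟨-, g, τ, rfl⟩
  · refine ⟨Psi n F g, Psi_mem g, ?_⟩
    calc Psi n F g * phi n F τ * gf n σ * (Psi n F g * phi n F τ)⁻¹
        = Psi n F g * (phi n F τ * gf n σ) * (phi n F τ)⁻¹ * (Psi n F g)⁻¹ := by group
      _ = _ := by rw [hphi]; group
  · refine ⟨Psi n F g, Psi_mem g, ?_⟩
    calc Psi n F g * phi n F τ * iot n F * gf n σ * (Psi n F g * phi n F τ * iot n F)⁻¹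
        = Psi n F g * (phi n F τ * (iot n F * gf n σ)) * (iot n F)⁻¹ * (phi n F τ)⁻¹ *
          (Psi n F g)⁻¹ := by group
      _ = Psi n F g * (phi n F τ * gf n σ) * (phi n F τ)⁻¹ * (Psi n F g)⁻¹ := by
          rw [hiot]; group
      _ = _ := by rw [hphi]; group

end gf

section unitary

variable {F : Type*} [Field F] [Fintype F] {n : ℕ} {q : ℕ} {σ : F ≃+* F}

/-- Membership in `GU` as a matrix equation. -/
theorem mem_GU_iff' (hq : q ≠ 0) (hσ : ∀ a, σ a = a ^ q) (g : GL (Fin n) F) :
    g ∈ Cfsg.GU n F q ↔ (g : Matrix (Fin n) (Fin n) F)ᵀ * (g : Matrix (Fin n) (Fin n) F).map σ = 1 := by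
  have hmap : (g : Matrix (Fin n) (Fin n) F).map σ =
      (g : Matrix (Fin n) (Fin n) F).map (fun x => x ^ q) := by
    ext i j
    exact hσ _
  constructor
  · intro h
    rw [hmap]
    exact Cfsg.Agent.ClassicalGeometry.GUBasic.transpose_mul_map hq
      ((Cfsg.Agent.ClassicalGeometry.GUBasic.mem_GU_iff g).1 h)
  · intro h
    rw [Cfsg.Agent.ClassicalGeometry.GUBasic.mem_GU_iff]
    intro u v
    have h1 : ∀ x y : Fin n → F, hermForm n F q x y = x ⬝ᵥ (fun i => σ (y i)) := by
      intro x y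
      rw [Cfsg.Agent.ClassicalGeometry.GUBasic.hermForm_apply]
      exact Finset.sum_congr rfl fun i _ => by
        change _ = x i * σ (y i)
        rw [hσ]
    rw [h1, h1]
    have h2 : (fun i => σ (((g : Matrix (Fin n) (Fin n) F) *ᵥ v) i)) =
        (g : Matrix (Fin n) (Fin n) F).map σ *ᵥ (fun i => σ (v i)) := by
      funext i
      simp [Matrix.mulVec, dotProduct, map_sum, map_mul]
    have h3 : ((g : Matrix (Fin n) (Fin n) F).map σ)ᵀ * (g : Matrix (Fin n) (Fin n) F) = 1 := by
      rw [← Matrix.transpose_transpose (g : Matrix (Fin n) (Fin n) F), ← Matrix.transpose_mul,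
        Matrix.transpose_transpose, h, Matrix.transpose_one]
    rw [h2, Matrix.dotProduct_mulVec, ← Matrix.mulVec_transpose, Matrix.mulVec_mulVec, h3,
      Matrix.one_mulVec]

/-- `g` commutes with `σ ι` modulo scalars iff it is a scalar times a unitary matrix. -/
theorem comm_gf_iff (hn : 2 ≤ n) (hq : q ≠ 0) (hσ : ∀ a, σ a = a ^ q) (hσ2 : orderOf σ = 2)
    (g : GL (Fin n) F) :
    Psi n F g ∈ Subgroup.centralizer {gf n σ} ↔
      ∃ (u : Fˣ) (h : GL (Fin n) F), h ∈ Cfsg.GU n F q ∧ g = scal n F u * h := by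
  have hinv : ∀ a, σ (σ a) = a := by
    intro a
    have h1 : σ ^ 2 = 1 := by rw [← hσ2, pow_orderOf_eq_one]
    exact DFunLike.congr_fun h1 a
  have hne : (σ : F →+* F) ≠ RingHom.id F := by
    intro h
    have h1 : σ = 1 := by
      ext a
      exact DFunLike.congr_fun h a
    rw [h1, orderOf_one] at hσ2
    omega
  rw [Subgroup.mem_centralizer_singleton_iff, gf_mul_Psi]
  constructor
  · intro h
    obtain ⟨u, hu⟩ := (Psi_eq_Psi_iff hn).1 (mul_right_cancel h)
    -- `g = u σ(g⁻ᵀ)`
    have h1 : ((g : Matrix (Fin n) (Fin n) F).map σ)ᵀ * (g : Matrix (Fin n) (Fin n) F) =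
        scalar (Fin n) (u : F) := by
      have h2 : (((mapGL σ (itGL g))⁻¹ : GL (Fin n) F) : Matrix (Fin n) (Fin n) F) =
          ((g : Matrix (Fin n) (Fin n) F).map σ)ᵀ := by
        rw [← map_inv, coe_mapGL, coe_itGL_inv, Matrix.transpose_map]
      have h3 : g * (mapGL σ (itGL g))⁻¹ = scal n F u := by
        rw [mul_inv_eq_iff_eq_mul]
        exact hu
      have h4 : (mapGL σ (itGL g))⁻¹ * g = scal n F u := by
        have h5 : (mapGL σ (itGL g))⁻¹ * g = g⁻¹ * (g * (mapGL σ (itGL g))⁻¹) * g := by group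
        rw [h5, h3]
        apply Units.ext
        rw [Units.val_mul, Units.val_mul, coe_scal,
          ← (scalar_commute (n := Fin n) (u : F) (Commute.all (u : F)) _).eq, mul_assoc,
          ← Units.val_mul, inv_mul_cancel, Units.val_one, mul_one]
      have h6 := congrArg (fun m : GL (Fin n) F => (m : Matrix (Fin n) (Fin n) F)) h4
      rw [← h2]
      exact h6
    -- `u` is fixed by `σ`
    have hu1 : σ (u : F) = u := by
      have h2 := congrArg (fun m : Matrix (Fin n) (Fin n) F => (m.map σ)ᵀ) h1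
      have h3 : ((((g : Matrix (Fin n) (Fin n) F).map σ)ᵀ * (g : Matrix (Fin n) (Fin n) F)).map σ)ᵀ
          = ((g : Matrix (Fin n) (Fin n) F).map σ)ᵀ * (g : Matrix (Fin n) (Fin n) F) := by
        ext i k
        simp only [Matrix.transpose_apply, Matrix.map_apply, Matrix.mul_apply, map_sum, map_mul,
          hinv]
        exact Finset.sum_congr rfl fun l _ => mul_comm _ _
      have h4 : ((scalar (Fin n) (u : F)).map σ)ᵀ = scalar (Fin n) (σ (u : F)) := by
        rw [Matrix.scalar_apply, Matrix.diagonal_map (map_zero σ), Matrix.diagonal_transpose,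
          Matrix.scalar_apply]
      change ((((g : Matrix (Fin n) (Fin n) F).map σ)ᵀ * (g : Matrix (Fin n) (Fin n) F)).map σ)ᵀ =
        ((scalar (Fin n) (u : F)).map σ)ᵀ at h2
      rw [h3, h4, h1] at h2
      have h5 := congrFun (congrFun h2 ⟨0, by omega⟩) ⟨0, by omega⟩
      rw [Matrix.scalar_apply, Matrix.scalar_apply, Matrix.diagonal_apply_eq,
        Matrix.diagonal_apply_eq] at h5
      exact h5.symm
    obtain ⟨v, hv⟩ := Cfsg.Agent.ClassicalGeometry.InvolutiveNorm.exists_mul_sigma_eq hne hinv hu1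
    have hv' : v * σ v = (u : F) := hv
    have hv0 : v ≠ 0 := by
      rintro rfl
      rw [zero_mul] at hv'
      exact u.ne_zero hv'.symm
    refine ⟨Units.mk0 v hv0, (scal n F (Units.mk0 v hv0))⁻¹ * g, ?_, by rw [mul_inv_cancel_left]⟩
    rw [mem_GU_iff' hq hσ]
    have h2 : (((scal n F (Units.mk0 v hv0))⁻¹ * g : GL (Fin n) F) : Matrix (Fin n) (Fin n) F) =
        v⁻¹ • (g : Matrix (Fin n) (Fin n) F) := by
      rw [← map_inv, Units.val_mul, coe_scal, Matrix.scalar_apply]
      ext i k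
      rw [Matrix.diagonal_mul, Matrix.smul_apply, smul_eq_mul, Units.val_inv_eq_inv_val,
        Units.val_mk0]
    have h3 : (g : Matrix (Fin n) (Fin n) F)ᵀ * (g : Matrix (Fin n) (Fin n) F).map σ =
        scalar (Fin n) (u : F) := by
      have h4 := congrArg Matrix.transpose h1
      rw [Matrix.transpose_mul, Matrix.transpose_transpose, Matrix.scalar_apply,
        Matrix.diagonal_transpose] at h4
      rw [h4, Matrix.scalar_apply]
    rw [h2, Matrix.transpose_smul]
    have h5 : (v⁻¹ • (g : Matrix (Fin n) (Fin n) F)).map σ =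
        σ v⁻¹ • (g : Matrix (Fin n) (Fin n) F).map σ := by
      ext i k
      simp
    rw [h5, smul_mul_smul_comm, h3, ← hv', map_inv₀, Matrix.scalar_apply, ← Matrix.diagonal_smul]
    have h6 : ((v⁻¹ * (σ v)⁻¹) • fun _ : Fin n => v * σ v) = fun _ => 1 := by
      funext i
      have hσv : σ v ≠ 0 := (map_ne_zero σ).2 hv0
      rw [Pi.smul_apply, smul_eq_mul]
      field_simp
    rw [h6, Matrix.diagonal_one]
  · rintro ⟨u, h, hh, rfl⟩
    congr 1
    rw [Psi_eq_Psi_iff hn]
    rw [mem_GU_iff' hq hσ] at hh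
    have h1 : mapGL σ (itGL h) = h := by
      have h2 : (mapGL σ (itGL h))⁻¹ * h = 1 := by
        apply Units.ext
        rw [Units.val_mul, ← map_inv, coe_mapGL, coe_itGL_inv, Units.val_one, Matrix.transpose_map]
        have h4 := congrArg Matrix.transpose hh
        rwa [Matrix.transpose_mul, Matrix.transpose_transpose, Matrix.transpose_one] at h4
      exact (inv_mul_eq_one.1 h2)
    have h2 : mapGL σ (itGL (scal n F u)) = scal n F (Units.map (σ : F →* F) u⁻¹) := by
      apply Units.ext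
      rw [coe_mapGL, coe_itGL, ← map_inv, coe_scal, coe_scal, Matrix.scalar_apply,
        Matrix.scalar_apply, Matrix.diagonal_transpose, Matrix.diagonal_map (map_zero σ)]
      rfl
    refine ⟨u * (Units.map (σ : F →* F) u⁻¹)⁻¹, ?_⟩
    rw [map_mul itGL, map_mul (mapGL σ), h1, h2, ← mul_assoc, ← map_mul, inv_mul_cancel_right]

/-- `GU_n → Aut(PSL_n(F))`. -/
noncomputable def thetaU (n : ℕ) (F : Type*) [Field F] (q : ℕ) :
    ↥(Cfsg.GU n F q) →* MulAut (Matrix.ProjectiveSpecialLinearGroup (Fin n) F) :=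
  (Psi n F).comp (Cfsg.GU n F q).subtype

theorem thetaU_ker (hn : 2 ≤ n) :
    (thetaU n F q).ker = (Geo.scalars (Fin n) F).subgroupOf (Cfsg.GU n F q) := by
  ext g
  rw [MonoidHom.mem_ker, thetaU, MonoidHom.comp_apply, Psi_eq_one_iff hn,
    Subgroup.mem_subgroupOf]
  constructor
  · rintro ⟨u, hu⟩
    exact ⟨u, hu.symm⟩
  · rintro ⟨u, hu⟩
    exact ⟨u, hu.symm⟩

theorem thetaU_range (hn : 2 ≤ n) (hq : q ≠ 0) (hσ : ∀ a, σ a = a ^ q) (hσ2 : orderOf σ = 2) :
    (thetaU n F q).range = inndiagPSL n F ⊓ Subgroup.centralizer {gf n σ} := by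
  apply le_antisymm
  · rintro _ ⟨h, rfl⟩
    exact ⟨Psi_mem _, (comm_gf_iff hn hq hσ hσ2 _).2 ⟨1, h, h.2, by rw [map_one, one_mul]; rfl⟩⟩
  · rintro β ⟨hβ, hβ'⟩
    obtain ⟨g, rfl⟩ := mem_inndiag.1 hβ
    obtain ⟨u, h, hh, rfl⟩ := (comm_gf_iff hn hq hσ hσ2 g).1 hβ'
    refine ⟨⟨h, hh⟩, ?_⟩
    rw [map_mul, Psi_scal, one_mul]
    rfl

/-- The centralizer in `PGL_n(F)` of `σ ι` is `PGU_n`. -/
theorem centralizer_equiv_gf (hn : 2 ≤ n) (hq : q ≠ 0) (hσ : ∀ a, σ a = a ^ q)
    (hσ2 : orderOf σ = 2) :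
    Nonempty (↥(inndiagPSL n F ⊓ Subgroup.centralizer {gf n σ}) ≃* Cfsg.PGU n F q) := by
  refine ⟨MulEquiv.symm ?_⟩
  exact ((QuotientGroup.quotientMulEquivOfEq (thetaU_ker hn).symm).trans
    (QuotientGroup.quotientKerEquivRange (thetaU n F q))).trans
    (MulEquiv.subgroupCongr (thetaU_range hn hq hσ hσ2))

/-- The number of `T`-classes in the `PGL`-class of `σ ι`. -/
theorem splitCount_gf (hn : 2 ≤ n) (hF : Fintype.card F = q ^ 2) (hσ : ∀ a, σ a = a ^ q)
    (hσ2 : orderOf σ = 2) :
    splitClassCount (inndiagPSL n F) (Inn (Matrix.ProjectiveSpecialLinearGroup (Fin n) F))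
      (gf n σ) = Nat.gcd n (q - 1) := by
  have hq2 := Cfsg.Agent.ClassicalGeometry.GUBasic.two_le hF
  have hq : q ≠ 0 := by omega
  have h1 : ((Subgroup.centralizer {gf n σ}).comap (Psi n F)).map Matrix.GeneralLinearGroup.det =
      rootsOfUnity (q + 1) F ⊔ (powMonoidHom n : Fˣ →* Fˣ).range := by
    apply le_antisymm
    · rintro _ ⟨g, hg, rfl⟩
      obtain ⟨u, h, hh, rfl⟩ := (comm_gf_iff hn hq hσ hσ2 g).1 hg
      rw [map_mul, mul_comm, det_scal]
      refine Subgroup.mul_mem_sup ?_ ⟨u, rfl⟩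
      rw [mem_rootsOfUnity]
      apply Units.ext
      exact Cfsg.Agent.ClassicalGeometry.GUBasic.det_pow hF
        ((Cfsg.Agent.ClassicalGeometry.GUBasic.mem_GU_iff _).1 hh)
    · refine sup_le ?_ ?_
      · intro z hz
        obtain ⟨A, hA⟩ := Cfsg.Agent.ClassicalGeometry.GUBasic.detHom_surjective
          (n := n) (by omega) hF ⟨z, hz⟩
        refine ⟨A, (comm_gf_iff hn hq hσ hσ2 _).2 ⟨1, A, A.2, by rw [map_one, one_mul]⟩, ?_⟩
        exact congrArg Subtype.val hA
      · rintro _ ⟨u, rfl⟩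
        refine ⟨scal n F u, (comm_gf_iff hn hq hσ hσ2 _).2 ⟨u, 1, Subgroup.one_mem _,
          by rw [mul_one]⟩, ?_⟩
        rw [det_scal]
        rfl
  rw [splitCount hn, h1, index_sup_pow, ← Nat.gcd_assoc, Nat.gcd_self]
  congr 1
  have h2 := (rootsOfUnity (q + 1) F).card_mul_index
  rw [Cfsg.Agent.ClassicalGeometry.GUBasic.card_rootsOfUnity_eq hF, Nat.card_units,
    Nat.card_eq_fintype_card, hF] at h2
  have h3 : q ^ 2 - 1 = (q + 1) * (q - 1) := by
    have := Nat.sq_sub_sq q 1
    simpa using this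
  rw [h3] at h2
  exact Nat.eq_of_mul_eq_mul_left (Nat.succ_pos q) h2

end unitary

end Cfsg.Agent.H199.PslGraphField
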