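import Mathlib
import Cfsg.Prelude.Def_LieTypeDatum
import Cfsg.Agent.H999.PslGraph
import Cfsg.Agent.S0304
import Cfsg.Agent.ClassicalGeometry.SympIso
import Cfsg.Agent.ClassicalGeometry.SymmNormalForm

/-!
# Symmetric bilinear forms in odd dimension over a finite field (helper199)

* `exists_similar_one` : `|F|` odd, odd dimension: every non-degenerate symmetric form is `d` times an orthonormal one;
* `exists_f0` : characteristic two, odd dimension: every non-degenerate symmetric form is `f0` = `x₀ y₀` + symplectic;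
* `simf0_equiv` : the projective similarity group of `f0` is `Sp_{2m}(F)`;
* `quadSim_equiv` : `PGO(Q)` is the isometry group in characteristic two.
-/

set_option autoImplicit false
set_option linter.unusedSectionVars false

namespace Cfsg.Agent.H199.PslOddGraph

open Matrix
open Cfsg.Agent.H999.PslGraph

section oddchar

variable {F : Type*} [Field F] [Finite F]

/-- Every non-degenerate symmetric form in odd dimension is a multiple of an orthonormal one. -/
theorem exists_similar_one (h2 : (2 : F) ≠ 0) {V : Type*} [AddCommGroup V] [Module F V]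
    [FiniteDimensional F V] (B : LinearMap.BilinForm F V) (hS : B.IsSymm) (hB : B.Nondegenerate)
    {m : ℕ} (hn : Module.finrank F V = 2 * m + 1) :
    ∃ (b : Module.Basis (Fin (2 * m + 1)) F V) (d : F), d ≠ 0 ∧
      ∀ i j, B (b i) (b j) = if i = j then d else 0 := by
  obtain ⟨α, hα⟩ : ∃ α : F, ¬ IsSquare α := by
    classical
    obtain ⟨_⟩ := nonempty_fintype F
    exact FiniteField.exists_nonsquare (fun h => h2 (by
      have : CharP F 2 := by rw [← h]; exact ringChar.charP F
      exact CharTwo.two_eq_zero))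
  have hα0 : α ≠ 0 := by rintro rfl; exact hα ⟨0, by simp⟩
  obtain ⟨b, hb1, hb2, hb3⟩ :=
    Cfsg.Agent.ClassicalGeometry.SymmNormalForm.exists_basis_one_or_nonsquare h2 B hS hB hn α hα
  rcases hb3 with hb3 | hb3
  · refine ⟨b, 1, one_ne_zero, fun i j => ?_⟩
    split_ifs with h
    · subst h
      by_cases hi : i = Fin.last (2 * m)
      · rw [hi, hb3]
      · exact hb2 i hi
    · exact hb1 i j h
  · -- consider `α B`
    have hS' : (α • B).IsSymm := by
      refine ⟨fun x y => ?_⟩
      change α * B x y = α * B y x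
      rw [← hS.eq x y]
    have hB' : (α • B).Nondegenerate := by
      constructor
      · intro x hx
        exact hB.1 x fun y => (mul_eq_zero.1 (hx y)).resolve_left hα0
      · intro x hx
        exact hB.2 x fun y => (mul_eq_zero.1 (hx y)).resolve_left hα0
    obtain ⟨c, hc1, hc2, hc3⟩ :=
      Cfsg.Agent.ClassicalGeometry.SymmNormalForm.exists_basis_one_or_nonsquare h2 (α • B) hS' hB'
        hn α hα
    rcases hc3 with hc3 | hc3
    · refine ⟨c, α⁻¹, inv_ne_zero hα0, fun i j => ?_⟩
      split_ifs with h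
      · subst h
        have h1 : α * B (c i) (c i) = 1 := by
          by_cases hi : i = Fin.last (2 * m)
          · rw [hi]; exact hc3
          · exact hc2 i hi
        exact eq_inv_of_mul_eq_one_right h1
      · have h1 : α * B (c i) (c j) = 0 := hc1 i j h
        exact (mul_eq_zero.1 h1).resolve_left hα0
    · -- compare discriminants
      exfalso
      have h1 := LinearMap.BilinForm.toMatrix_mul_basis_toMatrix b c (α • B)
      have h3 : LinearMap.BilinForm.toMatrix c (α • B) =
          diagonal (fun i => if i = Fin.last (2 * m) then α else 1) := by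
        ext i j
        rw [LinearMap.BilinForm.toMatrix_apply, diagonal_apply]
        by_cases hij : i = j
        · subst hij
          rw [if_pos rfl]
          split_ifs with hi
          · rw [hi]; exact hc3
          · exact hc2 i hi
        · rw [if_neg hij]
          exact hc1 i j hij
      have h4 : LinearMap.BilinForm.toMatrix b (α • B) =
          diagonal (fun i => if i = Fin.last (2 * m) then α * α else α) := by
        ext i j
        rw [LinearMap.BilinForm.toMatrix_apply, diagonal_apply]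
        change α * B (b i) (b j) = _
        by_cases hij : i = j
        · subst hij
          rw [if_pos rfl]
          split_ifs with hi
          · rw [hi, hb3]
          · rw [hb2 i hi, mul_one]
        · rw [if_neg hij, hb1 i j hij, mul_zero]
      have h5 := congrArg Matrix.det h1
      rw [h3, h4, det_mul, det_mul, det_transpose, det_diagonal, det_diagonal,
        Fin.prod_univ_castSucc, Fin.prod_univ_castSucc] at h5
      have h6 : ∀ i : Fin (2 * m), ¬ (Fin.castSucc i = Fin.last (2 * m)) := fun i =>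
        (Fin.castSucc_lt_last i).ne
      simp only [h6, if_false, if_true, Finset.prod_const, Finset.card_univ, Fintype.card_fin,
        one_pow, one_mul] at h5
      apply hα
      refine ⟨(b.toMatrix c).det * (α ^ m * α), h5.symm.trans ?_⟩
      ring

/-- Linear form of `exists_similar_one`. -/
theorem exists_equiv_dot (h2 : (2 : F) ≠ 0) {V : Type*} [AddCommGroup V] [Module F V]
    [FiniteDimensional F V] (B : LinearMap.BilinForm F V) (hS : B.IsSymm) (hB : B.Nondegenerate)
    {m : ℕ} (hn : Module.finrank F V = 2 * m + 1) :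
    ∃ (T : (Fin (2 * m + 1) → F) ≃ₗ[F] V) (d : F), d ≠ 0 ∧
      ∀ u v, B (T u) (T v) = d * (u ⬝ᵥ v) := by
  obtain ⟨b, d, hd, hb⟩ := exists_similar_one h2 B hS hB hn
  refine ⟨b.equivFun.symm, d, hd, fun u v => ?_⟩
  rw [Module.Basis.equivFun_symm_apply, Module.Basis.equivFun_symm_apply]
  simp only [map_sum, LinearMap.sum_apply, map_smul, LinearMap.smul_apply, smul_eq_mul, hb,
    mul_ite, mul_zero, Finset.sum_ite_eq', Finset.mem_univ, if_true, dotProduct,
    Finset.mul_sum]
  exact Finset.sum_congr rfl fun i _ => by ring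

end oddchar

section chartwo

variable {F : Type*} [Field F] [Finite F]

/-- Square roots exist in characteristic two. -/
theorem exists_sqrt (h2 : (2 : F) = 0) (a : F) : ∃ b : F, b ^ 2 = a := by
  obtain ⟨_⟩ := nonempty_fintype F
  have hc : ringChar F = 2 := by
    have : CharP F 2 := CharTwo.of_one_ne_zero_of_two_eq_zero one_ne_zero h2
    exact ringChar.eq F 2
  obtain ⟨b, hb⟩ := FiniteField.isSquare_of_char_two hc a
  exact ⟨b, by rw [hb, pow_two]⟩

theorem sq_inj (h2 : (2 : F) = 0) {a b : F} (h : a ^ 2 = b ^ 2) : a = b := by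
  have h1 : (a - b) ^ 2 = 0 := by
    have : (a - b) ^ 2 = a ^ 2 - b ^ 2 + 2 * (b * (b - a)) := by ring
    rw [this, h, h2]; ring
  exact sub_eq_zero.1 (pow_eq_zero_iff two_ne_zero |>.1 h1)

/-- The model form in characteristic two. -/
def f0 (m : ℕ) (F : Type*) [Field F] (u v : Unit ⊕ (Fin m ⊕ Fin m) → F) : F :=
  u (.inl ()) * v (.inl ()) + sympForm m F (u ∘ Sum.inr) (v ∘ Sum.inr)

/-- Odd-dimensional non-degenerate symmetric forms in characteristic two. -/
theorem exists_f0 (h2 : (2 : F) = 0) {V : Type*} [AddCommGroup V] [Module F V]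
    [FiniteDimensional F V] (B : LinearMap.BilinForm F V) (hS : ∀ u v, B u v = B v u)
    (hB : ∀ u, (∀ v, B u v = 0) → u = 0)
    {m : ℕ} (hn : Module.finrank F V = 2 * m + 1) :
    ∃ T : (Unit ⊕ (Fin m ⊕ Fin m) → F) ≃ₗ[F] V, ∀ u v, B (T u) (T v) = f0 m F u v := by
  choose s hs using exists_sqrt h2
  have hneg : ∀ a : F, -a = a := fun a => by
    have : a + a = 0 := by rw [← two_mul, h2, zero_mul]
    exact neg_eq_of_add_eq_zero_left this
  let lam : V →ₗ[F] F :=
    { toFun := fun v => s (B v v)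
      map_add' := fun u v => by
        apply sq_inj h2
        have h1 : (s (B u u) + s (B v v)) ^ 2 =
            s (B u u) ^ 2 + s (B v v) ^ 2 + 2 * (s (B u u) * s (B v v)) := by ring
        rw [hs, h1, hs, hs, h2, zero_mul, add_zero]
        simp only [map_add, LinearMap.add_apply]
        rw [hS v u]
        have h3 : B u v + B u v = 0 := by rw [← two_mul, h2, zero_mul]
        linear_combination h3
      map_smul' := fun c v => by
        apply sq_inj h2
        rw [RingHom.id_apply, smul_eq_mul, mul_pow, hs, hs]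
        simp only [map_smul, LinearMap.smul_apply, smul_eq_mul]
        ring }
  have hlam : ∀ v, lam v ^ 2 = B v v := fun v => hs _
  -- the alternating form `B + λ ⊗ λ`
  let B' : LinearMap.BilinForm F V := B + LinearMap.mk₂ F (fun u v => lam u * lam v)
    (fun u u' v => by simp only [map_add]; ring) (fun c u v => by
      simp only [map_smul, smul_eq_mul]; ring)
    (fun u v v' => by simp only [map_add]; ring) (fun c u v => by
      simp only [map_smul, smul_eq_mul]; ring)
  have hB' : ∀ u v, B' u v = B u v + lam u * lam v := fun u v => rfl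
  have hA : B'.IsAlt := by
    intro v
    rw [hB', ← hlam, ← pow_two, ← two_mul, h2, zero_mul]
  obtain ⟨k, l, b, -, -, -, h4⟩ := Cfsg.Agent.S0752.result B' hA
  have hl : 0 < l := by
    have := Module.finrank_eq_card_basis b
    simp at this
    omega
  set r : V := b (.inr ⟨0, hl⟩) with hr
  have hr0 : r ≠ 0 := b.ne_zero _
  have hrB : ∀ v, B r v = lam r * lam v := by
    intro v
    have h5 := h4 ⟨0, hl⟩ v
    rw [← hr, hB'] at h5
    rw [← hneg (lam r * lam v)]
    linear_combination h5
  have hlr : lam r ≠ 0 := by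
    intro h0
    apply hr0
    apply hB
    intro v
    rw [hrB, h0, zero_mul]
  obtain ⟨e, he⟩ : ∃ e : V, ∀ v, B e v = lam v := by
    refine ⟨(lam r)⁻¹ • r, fun v => ?_⟩
    rw [map_smul, LinearMap.smul_apply, hrB, smul_eq_mul, inv_mul_cancel_left₀ hlr]
  have hle : lam e = 1 := by
    have h5 : lam e ^ 2 = lam e := by rw [hlam, he]
    have h6 : lam e ≠ 0 := by
      intro h0
      have h7 : lam r = 0 := by
        rw [← he r, hS, hrB, h0, mul_zero]
      exact hlr h7
    have h7 : lam e * lam e = lam e * 1 := by rw [← pow_two, h5, mul_one]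
    exact mul_left_cancel₀ h6 h7
  -- the hyperplane
  let W : Submodule F V := LinearMap.ker lam
  have hWr : Module.finrank F W = 2 * m := by
    have h5 := LinearMap.finrank_range_add_finrank_ker lam
    have h6 : LinearMap.range lam = ⊤ := by
      rw [LinearMap.range_eq_top]
      intro c
      exact ⟨c • e, by rw [map_smul, hle, smul_eq_mul, mul_one]⟩
    rw [h6, finrank_top, Module.finrank_self, hn] at h5
    change Module.finrank F (LinearMap.ker lam) = _
    omega
  have hWA : (B.restrict W).IsAlt := by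
    intro w
    change B w w = 0
    rw [← hlam, LinearMap.mem_ker.1 w.2]
    ring
  have hWn : ∀ u : W, (∀ v : W, (B.restrict W) u v = 0) → u = 0 := by
    intro u hu
    apply Subtype.ext
    apply hB
    intro v
    have h5 : v - lam v • e ∈ W := by
      rw [LinearMap.mem_ker, map_sub, map_smul, hle, smul_eq_mul, mul_one, sub_self]
    have h6 := hu ⟨_, h5⟩
    change B u (v - lam v • e) = 0 at h6
    rw [map_sub, map_smul, hS u e, he, LinearMap.mem_ker.1 u.2, smul_zero, sub_zero] at h6
    exact h6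
  obtain ⟨eW, heW⟩ := Cfsg.Agent.ClassicalGeometry.SympIso.exists_linearEquiv_sympForm
    (B.restrict W) hWA hWn hWr
  let T : (Unit ⊕ (Fin m ⊕ Fin m) → F) →ₗ[F] V :=
    { toFun := fun u => u (.inl ()) • e + (eW (u ∘ Sum.inr) : V)
      map_add' := fun u v => by
        have h5 : (u + v) ∘ (Sum.inr : Fin m ⊕ Fin m → _) = u ∘ Sum.inr + v ∘ Sum.inr := rfl
        rw [h5, map_add, Submodule.coe_add, Pi.add_apply, add_smul]
        abel
      map_smul' := fun c u => by
        have h5 : (c • u) ∘ (Sum.inr : Fin m ⊕ Fin m → _) = c • (u ∘ Sum.inr) := rfl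
        rw [h5, map_smul, Submodule.coe_smul, Pi.smul_apply, RingHom.id_apply, smul_add, smul_smul,
          smul_eq_mul] }
  have hT : ∀ u, T u = u (.inl ()) • e + (eW (u ∘ Sum.inr) : V) := fun u => rfl
  have hlT : ∀ u, lam (T u) = u (.inl ()) := by
    intro u
    rw [hT, map_add, map_smul, hle, LinearMap.mem_ker.1 (eW (u ∘ Sum.inr)).2, add_zero,
      smul_eq_mul, mul_one]
  have hinj : Function.Injective T := by
    rw [injective_iff_map_eq_zero]
    intro u hu
    have h5 : u (.inl ()) = 0 := (hlT u).symm.trans (by rw [hu, map_zero])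
    rw [hT, h5, zero_smul, zero_add] at hu
    have h6 : eW (u ∘ Sum.inr) = 0 := Subtype.ext hu
    have h7 := (LinearEquiv.map_eq_zero_iff eW).1 h6
    funext i
    rcases i with i | i
    · exact h5
    · exact congrFun h7 i
  have hfin : Module.finrank F (Unit ⊕ (Fin m ⊕ Fin m) → F) = Module.finrank F V := by
    rw [hn, Module.finrank_fintype_fun_eq_card]
    simp
    omega
  refine ⟨LinearEquiv.ofInjectiveOfFinrankEq T hinj hfin, fun u v => ?_⟩
  change B (T u) (T v) = _
  have h5 := heW (u ∘ Sum.inr) (v ∘ Sum.inr)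
  change B (eW (u ∘ Sum.inr)) (eW (v ∘ Sum.inr)) = _ at h5
  rw [hT, hT]
  simp only [map_add, LinearMap.add_apply, map_smul, LinearMap.smul_apply, smul_eq_mul]
  rw [h5, he, he, hS _ e, he, hle, LinearMap.mem_ker.1 (eW (u ∘ Sum.inr)).2,
    LinearMap.mem_ker.1 (eW (v ∘ Sum.inr)).2, f0]
  ring

/-- Block embedding of `Sp`. -/
def blk (m : ℕ) (F : Type*) [Field F] : ↥(Matrix.symplecticGroup (Fin m) F) →*
    GL (Unit ⊕ (Fin m ⊕ Fin m)) F where
  toFun s :=
    { val := fromBlocks 1 0 0 s.1
      inv := fromBlocks 1 0 0 (s⁻¹).1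
      val_inv := by
        rw [fromBlocks_multiply]
        have h1 : s.1 * (s⁻¹).1 = 1 := congrArg Subtype.val (mul_inv_cancel s)
        simp [h1]
      inv_val := by
        rw [fromBlocks_multiply]
        have h1 : (s⁻¹).1 * s.1 = 1 := congrArg Subtype.val (inv_mul_cancel s)
        simp [h1] }
  map_one' := by
    apply Units.ext
    change fromBlocks 1 0 0 1 = (1 : Matrix (Unit ⊕ (Fin m ⊕ Fin m)) (Unit ⊕ (Fin m ⊕ Fin m)) F)
    exact fromBlocks_one
  map_mul' s t := by
    apply Units.ext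
    change fromBlocks 1 0 0 (s.1 * t.1) = fromBlocks 1 0 0 s.1 * fromBlocks 1 0 0 t.1
    rw [fromBlocks_multiply]
    simp

theorem coe_blk {m : ℕ} (s : ↥(Matrix.symplecticGroup (Fin m) F)) :
    (blk m F s : Matrix (Unit ⊕ (Fin m ⊕ Fin m)) (Unit ⊕ (Fin m ⊕ Fin m)) F) =
      fromBlocks 1 0 0 s.1 := rfl

theorem blk_mulVec {m : ℕ} (s : ↥(Matrix.symplecticGroup (Fin m) F))
    (u : Unit ⊕ (Fin m ⊕ Fin m) → F) :
    (blk m F s : Matrix (Unit ⊕ (Fin m ⊕ Fin m)) (Unit ⊕ (Fin m ⊕ Fin m)) F) *ᵥ u =
      Sum.elim (u ∘ Sum.inl) (s.1 *ᵥ (u ∘ Sum.inr)) := by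
  rw [coe_blk, fromBlocks_mulVec]
  simp

theorem f0_blk {m : ℕ} (s : ↥(Matrix.symplecticGroup (Fin m) F))
    (u v : Unit ⊕ (Fin m ⊕ Fin m) → F) :
    f0 m F ((blk m F s : Matrix _ _ F) *ᵥ u) ((blk m F s : Matrix _ _ F) *ᵥ v) = f0 m F u v := by
  rw [blk_mulVec, blk_mulVec, f0, f0]
  have h1 := Cfsg.Agent.ClassicalGeometry.SympBasic.sympForm_mulVec s.2 (u ∘ Sum.inr) (v ∘ Sum.inr)
  rw [← h1]
  rfl

/-- An isometry of `f0` is symplectic on the blocks. -/
theorem exists_blk_of_isometry (h2 : (2 : F) = 0) {m : ℕ} (g : GL (Unit ⊕ (Fin m ⊕ Fin m)) F)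
    (hg : ∀ u v, f0 m F (g.1 *ᵥ u) (g.1 *ᵥ v) = f0 m F u v) :
    ∃ s, blk m F s = g := by
  have hself : ∀ u, f0 m F u u = u (.inl ()) ^ 2 := by
    intro u
    rw [f0, Cfsg.Agent.ClassicalGeometry.SympBasic.sympForm_self, add_zero, pow_two]
  have h1 : ∀ u : Unit ⊕ (Fin m ⊕ Fin m) → F, (g.1 *ᵥ u) (.inl ()) = u (.inl ()) := by
    intro u
    apply sq_inj h2
    rw [← hself, ← hself, hg]
  set e0 : Unit ⊕ (Fin m ⊕ Fin m) → F := Pi.single (.inl ()) 1 with he0
  have he : ∀ u, f0 m F u e0 = u (.inl ()) := by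
    intro u
    have h3 : e0 ∘ (Sum.inr : Fin m ⊕ Fin m → _) = 0 := by
      funext i
      simp [he0]
    have h4 : e0 (.inl ()) = 1 := by simp [he0]
    rw [f0, h3, h4, Cfsg.Agent.ClassicalGeometry.SympBasic.sympForm_zero_right, mul_one, add_zero]
  have hnd : ∀ w, (∀ u, f0 m F u w = 0) → w = 0 := by
    intro w hw
    have h5 : w (.inl ()) = 0 := by
      have := hw e0
      have h3 : e0 ∘ (Sum.inr : Fin m ⊕ Fin m → _) = 0 := by
        funext i
        simp [he0]
      have h4 : e0 (.inl ()) = 1 := by simp [he0]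
      rw [f0, h3, h4, Cfsg.Agent.ClassicalGeometry.SympBasic.sympForm_zero_left, one_mul,
        add_zero] at this
      exact this
    have h6 : w ∘ (Sum.inr : Fin m ⊕ Fin m → _) = 0 := by
      apply Cfsg.Agent.ClassicalGeometry.SympBasic.eq_zero_of_forall_sympForm_left
      intro x
      have := hw (Sum.elim 0 x)
      rw [f0] at this
      simpa using this
    funext i
    rcases i with i | i
    · exact h5
    · exact congrFun h6 i
  have hge : g.1 *ᵥ e0 = e0 := by
    have h7 : g.1 *ᵥ e0 - e0 = 0 := by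
      apply hnd
      intro u
      -- write `u = g u'`
      have h8 : u = g.1 *ᵥ ((g⁻¹).1 *ᵥ u) := by
        rw [mulVec_mulVec, ← Units.val_mul, mul_inv_cancel, Units.val_one, one_mulVec]
      generalize hu' : (g⁻¹).1 *ᵥ u = u' at h8
      have h9 : ∀ a b c : Unit ⊕ (Fin m ⊕ Fin m) → F, f0 m F a (b - c) = f0 m F a b - f0 m F a c := by
        intro a b c
        have h10 : (b - c) ∘ (Sum.inr : Fin m ⊕ Fin m → _) = b ∘ Sum.inr - c ∘ Sum.inr := rfl
        rw [f0, f0, f0, h10, Cfsg.Agent.ClassicalGeometry.SympBasic.sympForm_sub_right,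
          Pi.sub_apply]
        ring
      rw [h9, he, h8, hg, he, h1, sub_self]
    exact sub_eq_zero.1 h7
  -- blocks
  have hb11 : g.1.toBlocks₁₁ = 1 := by
    ext i j
    have h7 := congrFun hge (.inl i)
    rw [he0, mulVec_single_one] at h7
    simpa [toBlocks₁₁, Matrix.one_apply] using h7
  have hb21 : g.1.toBlocks₂₁ = 0 := by
    ext i j
    have h7 := congrFun hge (.inr i)
    rw [he0, mulVec_single_one] at h7
    simpa [toBlocks₂₁] using h7
  have hb12 : g.1.toBlocks₁₂ = 0 := by
    ext i j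
    have h7 := h1 (Pi.single (.inr j) 1)
    rw [mulVec_single_one] at h7
    simpa [toBlocks₁₂] using h7
  have hgb : g.1 = fromBlocks 1 0 0 g.1.toBlocks₂₂ := by
    conv_lhs => rw [← fromBlocks_toBlocks g.1]
    rw [hb11, hb12, hb21]
  have hsp : g.1.toBlocks₂₂ ∈ Matrix.symplecticGroup (Fin m) F := by
    rw [Cfsg.Agent.ClassicalGeometry.SympBasic.mem_symplecticGroup_iff]
    intro x y
    have h7 := hg (Sum.elim 0 x) (Sum.elim 0 y)
    rw [hgb, fromBlocks_mulVec, fromBlocks_mulVec, f0, f0] at h7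
    simpa using h7
  refine ⟨⟨_, hsp⟩, ?_⟩
  apply Units.ext
  rw [coe_blk]
  exact hgb.symm

/-- The projective similarity group of `f0` is `Sp_{2m}(F)`. -/
theorem simf0_equiv (h2 : (2 : F) = 0) (m : ℕ) :
    Nonempty (projQuot (Geo.similarityGroup (f0 m F)) ≃* ↥(Matrix.symplecticGroup (Fin m) F)) := by
  let φ : ↥(Matrix.symplecticGroup (Fin m) F) →* projQuot (Geo.similarityGroup (f0 m F)) :=
    (QuotientGroup.mk' _).comp ((blk m F).codRestrict _ (fun s => ⟨1, fun u v => by
      rw [f0_blk, Units.val_one, one_mul]⟩))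
  have hinj : Function.Injective φ := by
    rw [injective_iff_map_eq_one]
    intro s hs
    have h1 := (QuotientGroup.eq_one_iff _).1 hs
    rw [Subgroup.mem_subgroupOf] at h1
    obtain ⟨c, hc⟩ := (Geo.mem_scalars_iff _).1 h1
    change fromBlocks 1 0 0 s.1 = (c : F) • (1 : Matrix _ _ F) at hc
    have h3 : (c : F) = 1 := by
      have := congrFun (congrFun hc (.inl ())) (.inl ())
      simpa using this.symm
    apply Subtype.ext
    have h4 := congrArg Matrix.toBlocks₂₂ hc
    rw [toBlocks_fromBlocks₂₂, h3, one_smul] at h4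
    rw [h4]
    ext i j
    simp [toBlocks₂₂, Matrix.one_apply]
  have hsurj : Function.Surjective φ := by
    intro x
    obtain ⟨⟨g, c, hc⟩, rfl⟩ := QuotientGroup.mk'_surjective _ x
    obtain ⟨d, hd⟩ := exists_sqrt h2 (c : F)
    have hd0 : d ≠ 0 := by
      rintro rfl
      exact c.ne_zero (by rw [← hd]; ring)
    let D : GL (Unit ⊕ (Fin m ⊕ Fin m)) F := Matrix.GeneralLinearGroup.scalar _ (Units.mk0 d hd0)
    have hD : ∀ u : Unit ⊕ (Fin m ⊕ Fin m) → F, (D⁻¹ * g).1 *ᵥ u = d⁻¹ • (g.1 *ᵥ u) := by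
      intro u
      rw [Units.val_mul, ← mulVec_mulVec]
      have h3 : (D⁻¹).1 = d⁻¹ • (1 : Matrix _ _ F) := by
        have h4 : D⁻¹ = Matrix.GeneralLinearGroup.scalar _ (Units.mk0 d hd0)⁻¹ := by
          rw [map_inv]
        rw [h4]
        change Matrix.scalar _ (((Units.mk0 d hd0)⁻¹ : Fˣ) : F) = _
        rw [Matrix.scalar_apply, smul_one_eq_diagonal]
        simp
      rw [h3, smul_mulVec, one_mulVec]
    have hf : ∀ (a : F) (u v : Unit ⊕ (Fin m ⊕ Fin m) → F),
        f0 m F (a • u) (a • v) = a ^ 2 * f0 m F u v := by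
      intro a u v
      have h5 : ∀ w : Unit ⊕ (Fin m ⊕ Fin m) → F, (a • w) ∘ (Sum.inr : Fin m ⊕ Fin m → _) =
        a • (w ∘ Sum.inr) := fun w => rfl
      rw [f0, f0, h5, h5, Cfsg.Agent.ClassicalGeometry.SympBasic.sympForm_smul_left,
        Cfsg.Agent.ClassicalGeometry.SympBasic.sympForm_smul_right, Pi.smul_apply, Pi.smul_apply,
        smul_eq_mul, smul_eq_mul]
      ring
    obtain ⟨s, hs⟩ := exists_blk_of_isometry h2 (D⁻¹ * g) (fun u v => by
      rw [hD, hD, hf, hc, ← hd, ← mul_assoc, ← mul_pow, inv_mul_cancel₀ hd0, one_pow, one_mul])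
    refine ⟨s, ?_⟩
    refine (QuotientGroup.eq).2 ?_
    rw [Subgroup.mem_subgroupOf]
    refine ⟨Units.mk0 d hd0, ?_⟩
    change D = (blk m F s)⁻¹ * g
    rw [hs, _root_.mul_inv_rev, inv_inv]
    apply Units.ext
    rw [Units.val_mul, Units.val_mul]
    have h6 : D.1 = d • (1 : Matrix _ _ F) := by
      change Matrix.scalar _ d = _
      rw [Matrix.scalar_apply, smul_one_eq_diagonal]
    rw [h6, Matrix.mul_smul, Matrix.mul_one, Matrix.smul_mul, ← Units.val_mul, inv_mul_cancel,
      Units.val_one]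
  exact ⟨(MulEquiv.ofBijective φ ⟨hinj, hsurj⟩).symm⟩

/-- In characteristic two `PGO(Q)` is the isometry group. -/
theorem quadSim_equiv (h2 : (2 : F) = 0) {κ : Type} [Fintype κ] [DecidableEq κ] (Q : (κ → F) → F)
    (hQ : ∀ (a : F) u, Q (a • u) = a ^ 2 * Q u) {w : κ → F} (hw : Q w ≠ 0) :
    Nonempty (↥(isometryGroup F Q) ≃* PGO F Q) := by
  let φ : ↥(isometryGroup F Q) →* PGO F Q :=
    (QuotientGroup.mk' _).comp ((isometryGroup F Q).subtype.codRestrict
      (Geo.quadSimilarityGroup (F := F) Q) (fun s => ⟨1, fun v => by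
        rw [Units.val_one, one_mul]
        exact s.2 v v⟩))
  have hinj : Function.Injective φ := by
    rw [injective_iff_map_eq_one]
    intro s hs
    have h1 := (QuotientGroup.eq_one_iff _).1 hs
    rw [Subgroup.mem_subgroupOf] at h1
    obtain ⟨c, hc⟩ := (Geo.mem_scalars_iff _).1 h1
    change ((s : GL κ F) : Matrix κ κ F) = (c : F) • (1 : Matrix _ _ F) at hc
    have h3 : (c : F) = 1 := by
      have h4 : Q (((s : GL κ F) : Matrix κ κ F) *ᵥ w) = Q w := s.2 w w
      rw [hc, smul_mulVec, one_mulVec, hQ] at h4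
      apply sq_inj h2
      have h5 : (c : F) ^ 2 * Q w = 1 * Q w := by rw [h4, one_mul]
      rw [mul_right_cancel₀ hw h5, one_pow]
    apply Subtype.ext
    apply Units.ext
    rw [hc, h3, one_smul]
    rfl
  have hsurj : Function.Surjective φ := by
    intro x
    obtain ⟨⟨g, c, hc⟩, rfl⟩ := QuotientGroup.mk'_surjective _ x
    obtain ⟨d, hd⟩ := exists_sqrt h2 (c : F)
    have hd0 : d ≠ 0 := by
      rintro rfl
      exact c.ne_zero (by rw [← hd]; ring)
    let D : GL κ F := Matrix.GeneralLinearGroup.scalar _ (Units.mk0 d hd0)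
    have hD : ∀ u : κ → F, (D⁻¹ * g).1 *ᵥ u = d⁻¹ • (g.1 *ᵥ u) := by
      intro u
      rw [Units.val_mul, ← mulVec_mulVec]
      have h3 : (D⁻¹).1 = d⁻¹ • (1 : Matrix _ _ F) := by
        have h4 : D⁻¹ = Matrix.GeneralLinearGroup.scalar _ (Units.mk0 d hd0)⁻¹ := by
          rw [map_inv]
        rw [h4]
        change Matrix.scalar _ (((Units.mk0 d hd0)⁻¹ : Fˣ) : F) = _
        rw [Matrix.scalar_apply, smul_one_eq_diagonal]
        simp
      rw [h3, smul_mulVec, one_mulVec]
    have hmem : D⁻¹ * g ∈ isometryGroup F Q := by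
      intro u v
      change Q ((D⁻¹ * g).1 *ᵥ u) = Q u
      rw [hD, hQ, hc, ← hd, ← mul_assoc, ← mul_pow, inv_mul_cancel₀ hd0, one_pow, one_mul]
    refine ⟨⟨_, hmem⟩, ?_⟩
    refine (QuotientGroup.eq).2 ?_
    rw [Subgroup.mem_subgroupOf]
    refine ⟨Units.mk0 d hd0, ?_⟩
    change D = (D⁻¹ * g)⁻¹ * g
    rw [_root_.mul_inv_rev, inv_inv]
    apply Units.ext
    rw [Units.val_mul, Units.val_mul]
    have h6 : D.1 = d • (1 : Matrix _ _ F) := by
      change Matrix.scalar _ d = _
      rw [Matrix.scalar_apply, smul_one_eq_diagonal]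
    rw [h6, Matrix.mul_smul, Matrix.mul_one, Matrix.smul_mul, ← Units.val_mul, inv_mul_cancel,
      Units.val_one]
  exact ⟨MulEquiv.ofBijective φ ⟨hinj, hsurj⟩⟩

end chartwo

end Cfsg.Agent.H199.PslOddGraph
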