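import Cfsg.Agent.H199.NSmAbs
import Cfsg.Agent.BpSpor.MBigEleven
import Cfsg.Agent.BpSpor.MFiveHA
import Cfsg.Agent.PreUniq.FinalInputs
import Cfsg.Agent.CpAutBFive.Final
import Cfsg.Agent.LThreeMB.CoOneFin
import Cfsg.Agent.LThreeB.Asm

/-!
# The Monster: orders of the centralizers of the elements of order 3 and 5 (helper199)

* `three` : `x` of order 3 with `|C(x)|` even: `|C(x)| = 3 |Th|`, `3 |Fi24'|` or no prime `≥ 17` divides it
* `five` : `x` of order 5: `|C(x)| = 5 |HN|`, no prime `≥ 17` divides it, or `C(x)` is solvable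
-/

set_option autoImplicit false
set_option maxRecDepth 100000

namespace Cfsg.Agent.H199.NSmMon

open Cfsg Cfsg.Agent.MonsterX Cfsg.Agent.MonsterX.InstData Cfsg.Agent.MonsterX.MainPack Cfsg.Agent.MonsterU
open Cfsg.Agent.MonsterP Cfsg.Agent.MonsterN Cfsg.Agent.LThreeMB
open Cfsg.Agent.MonsterX.MainBasic Cfsg.Agent.MonsterX.MainSimple Cfsg.Agent.MonsterX.Model
open Cfsg.Agent.MonsterU.Lam2 Cfsg.Agent.MonsterU.TwoCls
open Cfsg.Agent.BpSpor.MBigModel
open Cfsg.Spor (Co1)
open Subgroup (centralizer zpowers mem_centralizer_singleton_iff)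

theorem card_XX {G : Type*} [Group G] [Finite G] (x : G) :
    Nat.card ↥(centralizer ({x} : Set G)) = orderOf x * Nat.card (XX x) := by
  rw [Subgroup.card_eq_card_quotient_mul_card_subgroup (Zx x), mul_comm]
  congr 1
  rw [Zx, Nat.card_zpowers, self, Subgroup.orderOf_mk]

/-- the large primes -/
def Big (r : ℕ) : Prop :=
  r = 17 ∨ r = 19 ∨ r = 23 ∨ r = 29 ∨ r = 31 ∨ r = 41 ∨ r = 47 ∨ r = 59 ∨ r = 71

theorem Big.prime {r : ℕ} (h : Big r) : r.Prime := by
  rcases h with rfl | rfl | rfl | rfl | rfl | rfl | rfl | rfl | rfl <;> norm_num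

/-- no square of a large prime divides the order -/
theorem not_sq {r : ℕ} (h : Big r) : ¬ r ^ 2 ∣ Nat.card MG := by
  rw [card_M]
  rcases h with rfl | rfl | rfl | rfl | rfl | rfl | rfl | rfl | rfl <;> norm_num

/-- `Suz`, `J₂` -/
theorem not_dvd_suz {r : ℕ} (h : Big r) : ¬ r ∣ 448345497600 := by
  rcases h with rfl | rfl | rfl | rfl | rfl | rfl | rfl | rfl | rfl <;> norm_num

theorem not_dvd_j2 {r : ℕ} (h : Big r) : ¬ r ∣ 604800 := by
  rcases h with rfl | rfl | rfl | rfl | rfl | rfl | rfl | rfl | rfl <;> norm_num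

theorem Big.ne {r : ℕ} (h : Big r) : r ≠ 2 ∧ r ≠ 3 ∧ r ≠ 5 := by
  rcases h with rfl | rfl | rfl | rfl | rfl | rfl | rfl | rfl | rfl <;> norm_num

theorem not_solvable {A : Type*} [Group A] (hA : IsSimpleGroup A) {n : ℕ} (hn : Nat.card A = n) (h2 : 2 ∣ n)
    (h4 : n ≠ 2) : ¬ Group.IsSolvable A := by
  intro hs
  let _ : CommGroup A := { (inferInstance : Group A) with
    mul_comm := (IsSimpleGroup.comm_iff_isSolvable (G := A)).2 hs }
  have h3 : (Nat.card A).Prime := IsSimpleGroup.prime_card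
  rw [hn] at h3
  exact h4 ((Nat.prime_dvd_prime_iff_eq Nat.prime_two h3).1 h2).symm

/-- **fixed rank 0, order 3** -/
theorem three_zero {x : centralizer ({zz} : Set MG)} (hx : orderOf x = 3) (hfr : fr (pi x) = 1) {r : ℕ} (hr : Big r) :
    ¬ r ∣ Nat.card ↥(centralizer ({(x : MG)} : Set MG)) := by
  have := finite
  have hp : Fact (Nat.Prime 3) := ⟨Nat.prime_three⟩
  have htr := KPair.trNe KDone.lft LThreeB.Row.cent (LThreeMBTr.traceNe KDone.lft LThreeMBTr.TensK.tens)
  have hsuz := CoOneFin.coOne.suz (pi x) (orderOf_pi chart hx) hfr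
  obtain ⟨e⟩ := hsuz
  have hs : IsSimpleGroup (XX (pi x)) := (MulEquiv.isSimpleGroup_congr e).2 Cfsg.Agent.S1694.result.1
  have hc : Nat.card (XX (pi x)) = 448345497600 := by rw [Nat.card_congr e.toEquiv, Cfsg.Agent.S1694.result.2]
  have hns : ¬ Group.IsSolvable (XX (pi x)) := not_solvable hs hc (by norm_num) (by norm_num)
  obtain ⟨N, hN⟩ := BpSpor.M5.exists_rad chart (by norm_num) hx hfr (fun d hd hc => isolated chart htr hx hfr d hd hc)
    hs (by rw [hc]; decide)
  obtain ⟨k, hk, hkk⟩ := PreUniq.MonRow.exists_kk Nat.prime_three (by decide) PreUniq.MonThreeRow.neg_three x hx hfr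
  have hkk' : k * k = zz := hkk
  have hkz : k * zz = zz * k := by rw [← hkk', mul_assoc]
  refine NSmAbs.not_dvd_of_rad hN hns (by norm_num) (k := ⟨⟨k, mem_centralizer_singleton_iff.2 hk⟩,
    mem_centralizer_singleton_iff.2 (Subtype.ext hkz)⟩) (Subtype.ext hkk') hr.prime hr.ne.2.1 hr.ne.1
    (by rw [hc]; exact not_dvd_suz hr) ?_
  exact fun h => not_sq hr (h.trans (Subgroup.card_subgroup_dvd_card _))

/-- **The elements of order 3 commuting with `z`.** -/
theorem three_in {x : centralizer ({zz} : Set MG)} (hx : orderOf x = 3) :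
    Nat.card ↥(centralizer ({(x : MG)} : Set MG)) = 3 * 90745943887872000 ∨
    Nat.card ↥(centralizer ({(x : MG)} : Set MG)) = 3 * 1255205709190661721292800 ∨
      ∀ r, Big r → ¬ r ∣ Nat.card ↥(centralizer ({(x : MG)} : Set MG)) := by
  have := finite
  have := simple
  have I := CoOneFin.coOne
  have htr := KPair.trNe KDone.lft LThreeB.Row.cent (LThreeMBTr.traceNe KDone.lft LThreeMBTr.TensK.tens)
  have hxo : orderOf (x : MG) = 3 := by rw [Subgroup.orderOf_coe, hx]
  rcases I.ranks (pi x) (orderOf_pi chart hx) with h1 | h1 | h1 | h1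
  · exact Or.inr (Or.inr fun r hr => three_zero hx h1 hr)
  · right; right
    intro r hr
    obtain ⟨x₀, u, g, hx₀, hfr₀, huz, hux, hne, hg⟩ :=
      KPair.hasPair KDone.lft LThreeB.Row.cent PreUniq.MonRow.second COct.octPair
    obtain ⟨k, hk⟩ := conj_six chart htr I.ranks I.six
      (fun x hx h2 => ⟨(good_of_inputs chart I hx h2 : Good.{0} _).simple, (good_of_inputs chart I hx h2 : Good.{0} _).nc⟩)
      hx₀ hfr₀ huz hux hne hg hx h1
    rw [← BpSpor.card_cent_of_conj hk]
    exact three_zero hx₀ hfr₀ hr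
  · left
    obtain ⟨e⟩ := LThreeB.isoTh_of_inputs chart I hx h1
    rw [card_XX, hxo, Nat.card_congr e.toEquiv, Cfsg.Agent.S1700.result.2]
  · right; left
    obtain ⟨e⟩ := LThreeB.isoFi_of_inputs chart I hx h1
    rw [card_XX, hxo, Nat.card_congr e.toEquiv, Cfsg.Agent.S1698.result.2]

/-- conjugating into `C(z)` -/
theorem exists_in {x : MG} {p : ℕ} (hx : orderOf x = p)
    (h : ∃ g : MG, (g * zz * g⁻¹) * x = x * (g * zz * g⁻¹)) :
    ∃ x' : centralizer ({zz} : Set MG), orderOf x' = p ∧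
      Nat.card ↥(centralizer ({(x' : MG)} : Set MG)) = Nat.card ↥(centralizer ({x} : Set MG)) := by
  obtain ⟨g, hg⟩ := h
  have h1 : (g⁻¹ * x * g) * zz = zz * (g⁻¹ * x * g) := by
    calc (g⁻¹ * x * g) * zz = g⁻¹ * (x * (g * zz * g⁻¹)) * g := by group
      _ = g⁻¹ * ((g * zz * g⁻¹) * x) * g := by rw [hg]
      _ = zz * (g⁻¹ * x * g) := by group
  refine ⟨⟨g⁻¹ * x * g, mem_centralizer_singleton_iff.2 h1⟩, ?_, ?_⟩
  · rw [Subgroup.orderOf_mk, ← hx]
    have := MulEquiv.orderOf_eq (MulAut.conj g⁻¹) x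
    rw [MulAut.conj_apply, inv_inv] at this
    exact this
  · exact BpSpor.card_cent_of_conj (c := g⁻¹) (by rw [inv_inv])

/-- commuting with a conjugate of `z` -/
def Ev (x : MG) : Prop := ∃ g : MG, (g * zz * g⁻¹) * x = x * (g * zz * g⁻¹)

theorem Ev.conj {x : MG} (h : Ev x) (c : MG) : Ev (c * x * c⁻¹) := by
  obtain ⟨g, hg⟩ := h
  refine ⟨c * g, ?_⟩
  calc c * g * zz * (c * g)⁻¹ * (c * x * c⁻¹) = c * ((g * zz * g⁻¹) * x) * c⁻¹ := by group
    _ = c * (x * (g * zz * g⁻¹)) * c⁻¹ := by rw [hg]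
    _ = _ := by group

/-- there are elements of order `p` commuting with `z` -/
theorem exists_ev {p : ℕ} (hp : p.Prime) (hd : p ∣ 2 ^ 25 * 4157776806543360000) : ∃ x : MG, orderOf x = p ∧ Ev x := by
  have := finite
  have : Fact p.Prime := ⟨hp⟩
  rw [← card_cent_z] at hd
  obtain ⟨x, hx⟩ := exists_prime_orderOf_dvd_card' p hd
  refine ⟨x, by rw [Subgroup.orderOf_coe, hx], 1, ?_⟩
  rw [one_mul, inv_one, mul_one]
  exact (mem_centralizer_singleton_iff.1 x.2).symm

theorem ev_of_even {x : MG} (hx : orderOf x = 3) (he : ¬ Odd (Nat.card ↥(centralizer ({x} : Set MG)))) : Ev x :=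
  LThreeM.FiRow.exists_z_of_even hx he

/-- **The elements of order 3 commuting with a conjugate of `z`.** -/
theorem three {x : MG} (hx : orderOf x = 3) (he : Ev x) :
    Nat.card ↥(centralizer ({x} : Set MG)) = 3 * 90745943887872000 ∨
    Nat.card ↥(centralizer ({x} : Set MG)) = 3 * 1255205709190661721292800 ∨
      ∀ r, Big r → ¬ r ∣ Nat.card ↥(centralizer ({x} : Set MG)) := by
  obtain ⟨x', hx', hc⟩ := exists_in hx he
  rw [← hc]
  exact three_in hx'

/-- **No element of order 3 commutes with an element of order 47, 59, 71.** -/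
theorem three_not_dvd {r : ℕ} (hr : r = 47 ∨ r = 59 ∨ r = 71) {x : MG} (hx : orderOf x = 3) :
    ¬ r ∣ Nat.card ↥(centralizer ({x} : Set MG)) := by
  have := finite
  have hb : Big r := by
    rcases hr with rfl | rfl | rfl <;> unfold Big <;> simp
  refine NSmAbs.not_dvd_cent Nat.prime_three hb.prime (by rcases hr with rfl | rfl | rfl <;> norm_num) (not_sq hb)
    (n := 20) (by rw [card_M]; norm_num) (by rcases hr with rfl | rfl | rfl <;> norm_num) ?_ Ev ?_ ?_
    (fun x g h => h.conj g) (exists_ev Nat.prime_three (by norm_num)) hx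
  · intro j h0 hj
    rcases hr with rfl | rfl | rfl <;> interval_cases j <;> norm_num
  · intro x hx he
    rcases three hx he with h | h | h
    · rw [h]
      rcases hr with rfl | rfl | rfl <;> norm_num
    · rw [h]
      rcases hr with rfl | rfl | rfl <;> norm_num
    · exact h r hb
  · intro x hx he
    by_contra hcon
    exact he (ev_of_even hx fun ho => hcon (S0205.result ho))

/-- **fixed rank 0, order 5** -/
theorem five_zero {x : centralizer ({zz} : Set MG)} (hx : orderOf x = 5) (hfr : fr (pi x) = 1) {r : ℕ} (hr : Big r) :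
    ¬ r ∣ Nat.card ↥(centralizer ({(x : MG)} : Set MG)) := by
  have := finite
  have hp : Fact (Nat.Prime 5) := ⟨Nat.prime_five⟩
  have hj := CpAutBFive.Final.hJ (pi x) (MFive.orderOf_pi chart Nat.prime_five (by decide) hx) hfr
  obtain ⟨e⟩ := hj
  have hs : IsSimpleGroup (XX (pi x)) := (MulEquiv.isSimpleGroup_congr e).2 Cfsg.Agent.S1620.result.1
  have hc : Nat.card (XX (pi x)) = 604800 := by
    rw [Nat.card_congr e.toEquiv, Cfsg.Agent.J2Sylow.SporSylow.card_J2]
  have hns : ¬ Group.IsSolvable (XX (pi x)) := not_solvable hs hc (by norm_num) (by norm_num)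
  obtain ⟨N, hN⟩ := BpSpor.M5.exists_rad chart (by norm_num) hx hfr
    (fun d hd hc => MFive.isolated chart BpSpor.M5.trNe hx hfr d hd hc) hs (by rw [hc]; decide)
  obtain ⟨k, hk, hkk⟩ := PreUniq.MonRow.exists_kk Nat.prime_five (by decide) PreUniq.MonFiveRow.neg_five x hx hfr
  have hkk' : k * k = zz := hkk
  have hkz : k * zz = zz * k := by rw [← hkk', mul_assoc]
  refine NSmAbs.not_dvd_of_rad hN hns (by norm_num) (k := ⟨⟨k, mem_centralizer_singleton_iff.2 hk⟩,
    mem_centralizer_singleton_iff.2 (Subtype.ext hkz)⟩) (Subtype.ext hkk') hr.prime hr.ne.2.2 hr.ne.1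
    (by rw [hc]; exact not_dvd_j2 hr) ?_
  exact fun h => not_sq hr (h.trans (Subgroup.card_subgroup_dvd_card _))

/-- **The elements of order 5 commuting with a conjugate of `z`.** -/
theorem five {x : MG} (hx : orderOf x = 5) (he : Ev x) :
    Nat.card ↥(centralizer ({x} : Set MG)) = 5 * 273030912000000 ∨
      ∀ r, Big r → ¬ r ∣ Nat.card ↥(centralizer ({x} : Set MG)) := by
  have := finite
  have := simple
  obtain ⟨x', hx', hc⟩ := exists_in hx he
  rw [← hc]
  have hxo : orderOf (x' : MG) = 5 := by rw [Subgroup.orderOf_coe, hx']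
  rcases MFive.cases_five chart BpSpor.M5.trNe (CpAutBFive.Closed.coFive CpAutBFive.Final.hJ)
    CpAutBFive.Closed.hnEight BpSpor.M5.hasPair hx' with ⟨⟨e⟩⟩ | ⟨x₀, k, i, hx₀, hfr, hk⟩
  · left
    rw [card_XX, hxo, Nat.card_congr e.toEquiv, Cfsg.Agent.S1701.result.2]
  · right
    intro r hr
    obtain ⟨e⟩ := MFive.exists_cent_equiv Nat.prime_five (x := (x' : MG)) (y := (x₀ : MG)) hxo
      (by rw [Subgroup.orderOf_coe, hx₀]) hk
    rw [← Nat.card_congr e.toEquiv]
    exact five_zero hx₀ hfr hr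

/-- **No element of order 5 commutes with an element of order 17, 23, 29.** -/
theorem five_not_dvd {r : ℕ} (hr : r = 17 ∨ r = 23 ∨ r = 29) {x : MG} (hx : orderOf x = 5) :
    ¬ r ∣ Nat.card ↥(centralizer ({x} : Set MG)) := by
  have := finite
  have hb : Big r := by
    rcases hr with rfl | rfl | rfl <;> unfold Big <;> simp
  refine NSmAbs.not_dvd_cent Nat.prime_five hb.prime (by rcases hr with rfl | rfl | rfl <;> norm_num) (not_sq hb)
    (n := 9) (by rw [card_M]; norm_num) (by rcases hr with rfl | rfl | rfl <;> norm_num) ?_ Ev ?_ ?_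
    (fun x g h => h.conj g) (exists_ev Nat.prime_five (by norm_num)) hx
  · intro j h0 hj
    rcases hr with rfl | rfl | rfl <;> interval_cases j <;> norm_num
  · intro x hx he
    rcases five hx he with h | h
    · rw [h]
      rcases hr with rfl | rfl | rfl <;> norm_num
    · exact h r hb
  · intro x hx he
    exact (CpAutBFive.EvenRow.cases_solvable hx).resolve_left he

end Cfsg.Agent.H199.NSmMon
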