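import Cfsg.Agent.H199.AbTool

/-!
# Abelian subgroups of extraspecial 2-groups (helper199)

* `ext_bound` : `|B| ^ 2 ≤ 2 |R|` if `|Z(R)| = 2 = |R'|`
* `card_le_of_inf` : `|A| = |A ∩ N| k` with `k` dividing the index of the normal subgroup `N`
-/

set_option autoImplicit false

namespace Cfsg.Agent.H199.AbExt

open Subgroup

section

variable {R : Type*} [Group R] {z : R} (zz : z * z = 1) (hz : ∀ r, r * z = z * r)
  (hcom : ∀ r s : R, r * s = s * r ∨ r * s = z * (s * r))

open Classical in
/-- the character of `b` -/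
noncomputable def chi (b : R) : R →* ℚ where
  toFun r := if r * b = b * r then 1 else -1
  map_one' := by simp
  map_mul' r s := by
    by_cases h1 : z = 1
    · have hc : ∀ r s : R, r * s = s * r := fun r s => by
        rcases hcom r s with h | h
        · exact h
        · rw [h, h1, one_mul]
      rw [if_pos (hc _ _), if_pos (hc _ _), if_pos (hc _ _), one_mul]
    by_cases hr : r * b = b * r <;> by_cases hs : s * b = b * s
    · have h : r * s * b = b * (r * s) := by rw [mul_assoc, hs, ← mul_assoc, hr, mul_assoc]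
      rw [if_pos h, if_pos hr, if_pos hs, one_mul]
    · have h2 : s * b = z * (b * s) := (hcom s b).resolve_left hs
      have h : ¬ r * s * b = b * (r * s) := by
        intro h
        have h3 : r * s * b = z * (b * (r * s)) := by
          calc r * s * b = r * (s * b) := by group
            _ = r * z * (b * s) := by rw [h2]; group
            _ = z * (r * b) * s := by rw [hz]; group
            _ = _ := by rw [hr]; group
        rw [h] at h3
        exact h1 (mul_eq_right.1 h3.symm)
      rw [if_neg h, if_pos hr, if_neg hs, one_mul]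
    · have h2 : r * b = z * (b * r) := (hcom r b).resolve_left hr
      have h : ¬ r * s * b = b * (r * s) := by
        intro h
        have h3 : r * s * b = z * (b * (r * s)) := by
          calc r * s * b = r * (s * b) := by group
            _ = (r * b) * s := by rw [hs]; group
            _ = _ := by rw [h2]; group
        rw [h] at h3
        exact h1 (mul_eq_right.1 h3.symm)
      rw [if_neg h, if_neg hr, if_pos hs, mul_one]
    · have h2 : r * b = z * (b * r) := (hcom r b).resolve_left hr
      have h3 : s * b = z * (b * s) := (hcom s b).resolve_left hs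
      have h : r * s * b = b * (r * s) := by
        calc r * s * b = r * (s * b) := by group
          _ = r * z * (b * s) := by rw [h3]; group
          _ = z * (r * b) * s := by rw [hz]; group
          _ = (z * z) * (b * r) * s := by rw [h2]; group
          _ = _ := by rw [zz]; group
      rw [if_pos h, if_neg hr, if_neg hs]
      norm_num

include zz hz hcom in
theorem comm_of_chi {b c : R} (h : chi zz hz hcom b = chi zz hz hcom c) (r : R) : r * (b⁻¹ * c) = b⁻¹ * c * r := by
  classical
  have h1 : (if r * b = b * r then (1 : ℚ) else -1) = if r * c = c * r then 1 else -1 :=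
    congrArg (fun f : R →* ℚ => f r) h
  by_cases hb : r * b = b * r <;> by_cases hc : r * c = c * r
  · have hb' : r * b⁻¹ = b⁻¹ * r := by
      rw [mul_inv_eq_iff_eq_mul, mul_assoc, hb, inv_mul_cancel_left]
    calc r * (b⁻¹ * c) = (r * b⁻¹) * c := by group
      _ = b⁻¹ * (r * c) := by rw [hb']; group
      _ = _ := by rw [hc]; group
  · rw [if_pos hb, if_neg hc] at h1
    norm_num at h1
  · rw [if_neg hb, if_pos hc] at h1
    norm_num at h1
  · have h2 : r * b = z * (b * r) := (hcom r b).resolve_left hb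
    have h3 : r * c = z * (c * r) := (hcom r c).resolve_left hc
    have h4 : r * b⁻¹ = z * (b⁻¹ * r) := by
      rw [mul_inv_eq_iff_eq_mul]
      have h5 : b⁻¹ * z = z * b⁻¹ := hz b⁻¹
      calc r = (z * z) * r := by rw [zz, one_mul]
        _ = z * (b⁻¹ * b) * (z * r) := by group
        _ = z * b⁻¹ * (b * z) * r := by group
        _ = z * b⁻¹ * (z * b) * r := by rw [hz]
        _ = z * b⁻¹ * (z * (b * r)) := by group
        _ = _ := by rw [← h2]; group
    calc r * (b⁻¹ * c) = (r * b⁻¹) * c := by group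
      _ = z * b⁻¹ * (r * c) := by rw [h4]; group
      _ = z * (b⁻¹ * z) * (c * r) := by rw [h3]; group
      _ = (z * z) * b⁻¹ * (c * r) := by rw [hz]; group
      _ = _ := by rw [zz]; group

include zz hz hcom in
theorem bound_type [Finite R] (hZ : ∀ r : R, (∀ s, r * s = s * r) → r = 1 ∨ r = z) (B : Subgroup R)
    (hB : ∀ a ∈ B, ∀ b ∈ B, a * b = b * a) : Nat.card B ^ 2 ≤ 2 * Nat.card R := by
  classical
  have hfin : Finite (R →* ℚ) := (linearIndependent_monoidHom R ℚ).finite
  let X : Set (R →* ℚ) := Set.range fun b : B => chi zz hz hcom (b : R)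
  have hX : ∀ χ ∈ X, ∀ c ∈ B, χ c = 1 := by
    rintro _ ⟨b, rfl⟩ c hc
    show (if c * (b : R) = (b : R) * c then (1 : ℚ) else -1) = 1
    rw [if_pos (hB c hc b b.2)]
  -- the characters as functions on the cosets
  let g : X → (R ⧸ B → ℚ) := fun χ => Quotient.lift (fun r : R => (χ : R →* ℚ) r) (by
    intro r s hrs
    have h1 : r⁻¹ * s ∈ B := QuotientGroup.leftRel_apply.1 hrs
    have h2 := hX χ χ.2 _ h1
    have h3 : (χ : R →* ℚ) s = (χ : R →* ℚ) r * (χ : R →* ℚ) (r⁻¹ * s) := by
      rw [← map_mul, mul_inv_cancel_left]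
    show (χ : R →* ℚ) r = (χ : R →* ℚ) s
    rw [h3, h2, mul_one])
  have hli : LinearIndependent ℚ g := by
    refine LinearIndependent.of_comp (LinearMap.funLeft ℚ ℚ (fun r : R => (r : R ⧸ B))) ?_
    have h1 := (linearIndependent_monoidHom R ℚ).comp (fun χ : X => (χ : R →* ℚ)) Subtype.val_injective
    exact h1
  have : Fintype X := Fintype.ofFinite X
  have : Fintype (R ⧸ B) := Fintype.ofFinite _
  have h1 := hli.fintype_card_le_finrank
  rw [Module.finrank_fintype_fun_eq_card, ← Nat.card_eq_fintype_card, ← Nat.card_eq_fintype_card] at h1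
  -- the fibres have at most two elements
  have h2 : Nat.card B ≤ 2 * Nat.card X := by
    choose s hs using fun χ : X => χ.2
    let f : B → X × Bool := fun b => (⟨chi zz hz hcom (b : R), ⟨b, rfl⟩⟩,
      decide (b = s ⟨chi zz hz hcom (b : R), ⟨b, rfl⟩⟩))
    have hf : Function.Injective f := by
      intro b c hbc
      have e1 : (⟨chi zz hz hcom (b : R), ⟨b, rfl⟩⟩ : X) = ⟨chi zz hz hcom (c : R), ⟨c, rfl⟩⟩ := congrArg Prod.fst hbc
      have e2 : decide (b = s ⟨chi zz hz hcom (b : R), ⟨b, rfl⟩⟩) =
          decide (c = s ⟨chi zz hz hcom (c : R), ⟨c, rfl⟩⟩) := congrArg Prod.snd hbc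
      rw [decide_eq_decide, ← e1] at e2
      set x : X := ⟨chi zz hz hcom (b : R), ⟨b, rfl⟩⟩ with hx
      by_cases hb : b = s x
      · rw [hb, ← e2.1 hb]
      · have hc : c ≠ s x := fun h => hb (e2.2 h)
        have k1 : chi zz hz hcom (s x : R) = chi zz hz hcom (b : R) := hs x
        have k2 : chi zz hz hcom (s x : R) = chi zz hz hcom (c : R) := (hs x).trans (congrArg Subtype.val e1)
        have key : ∀ d : B, d ≠ s x → chi zz hz hcom (s x : R) = chi zz hz hcom (d : R) → (d : R) = s x * z := by
          intro d hd k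
          rcases hZ ((s x : R)⁻¹ * d) (fun r => (comm_of_chi zz hz hcom k r).symm) with h | h
          · exact absurd (Subtype.ext (inv_mul_eq_one.1 h)).symm hd
          · rw [← h, mul_inv_cancel_left]
        exact Subtype.ext ((key b hb k1).trans (key c hc k2).symm)
    have h3 := Nat.card_le_card_of_injective f hf
    rwa [Nat.card_prod, Nat.card_eq_fintype_card (α := Bool), Fintype.card_bool, mul_comm] at h3
  have h3 : Nat.card B * B.index = Nat.card R := B.card_mul_index
  have h4 : Nat.card (R ⧸ B) = B.index := rfl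
  rw [h4] at h1
  calc Nat.card B ^ 2 = Nat.card B * Nat.card B := by ring
    _ ≤ Nat.card B * (2 * B.index) := Nat.mul_le_mul_left _ (h2.trans (Nat.mul_le_mul_left _ h1))
    _ = 2 * (Nat.card B * B.index) := by ring
    _ = _ := by rw [h3]

end

/-- **`|B| ^ 2 ≤ 2 |R|`** -/
theorem ext_bound {G : Type*} [Group G] [Finite G] {z : G} {R : Subgroup G} (zz : z * z = 1) (hzR : z ∈ R)
    (hz : ∀ r ∈ R, r * z = z * r) (hcom : ∀ r ∈ R, ∀ s ∈ R, r * s = s * r ∨ r * s = z * (s * r))
    (hZ : ∀ r ∈ R, (∀ s ∈ R, r * s = s * r) → r = 1 ∨ r = z) {B : Subgroup G} (hBR : B ≤ R)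
    (hB : ∀ a ∈ B, ∀ b ∈ B, a * b = b * a) : Nat.card B ^ 2 ≤ 2 * Nat.card R := by
  have h := bound_type (R := ↥R) (z := ⟨z, hzR⟩) (Subtype.ext zz) (fun r => Subtype.ext (hz r r.2))
    (fun r s => by
      rcases hcom r r.2 s s.2 with h | h
      · exact Or.inl (Subtype.ext h)
      · exact Or.inr (Subtype.ext h))
    (fun r h => by
      rcases hZ r r.2 (fun s hs => congrArg Subtype.val (h ⟨s, hs⟩)) with h | h
      · exact Or.inl (Subtype.ext h)
      · exact Or.inr (Subtype.ext h)) (B.subgroupOf R)
    (fun a ha b hb => Subtype.ext (hB a (mem_subgroupOf.1 ha) b (mem_subgroupOf.1 hb)))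
  rwa [Nat.card_congr (subgroupOfEquivOfLe hBR).toEquiv] at h

/-- `A ≤ C`, `N` normalized by `C`: `|A| = |A ∩ N| k`, `k` divides `|C : N|`. -/
theorem exists_mul {G : Type*} [Group G] [Finite G] {A C N : Subgroup G} (hAC : A ≤ C) (hNC : N ≤ C)
    (hn : ∀ c ∈ C, ∀ n ∈ N, c * n * c⁻¹ ∈ N) :
    ∃ k : ℕ, Nat.card A = Nat.card ↥(A ⊓ N : Subgroup G) * k ∧ k * Nat.card N ∣ Nat.card C := by
  have hN : (N.subgroupOf C).Normal := ⟨fun n hn' g => mem_subgroupOf.2 (hn g g.2 n (mem_subgroupOf.1 hn'))⟩
  refine ⟨(N.subgroupOf C).relIndex (A.subgroupOf C), ?_, ?_⟩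
  · have h1 : (N.subgroupOf C).relIndex (A.subgroupOf C) = N.relIndex A := relIndex_subgroupOf hAC
    rw [h1, ← inf_relIndex_left]
    have h3 := card_mul_index ((A ⊓ N).subgroupOf A)
    rw [Nat.card_congr (subgroupOfEquivOfLe inf_le_left).toEquiv] at h3
    exact h3.symm
  · have h1 := relIndex_dvd_index_of_normal (N.subgroupOf C) (A.subgroupOf C)
    have h2 : (N.subgroupOf C).index * Nat.card N = Nat.card C := by
      rw [← Nat.card_congr (subgroupOfEquivOfLe hNC).toEquiv]
      exact (N.subgroupOf C).index_mul_card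
    rw [← h2]
    exact Nat.mul_dvd_mul_right h1 _

end Cfsg.Agent.H199.AbExt
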