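import Cfsg.Agent.H498.Ab.Def
import Cfsg.Agent.H956.CDelgado

/-!
# Tools for abelian subgroups (helper199; sporadic rows of S2501)

* `of_orbit`, `of_pair`, `of_two` : a subgroup moving `a` inside a small set
* `conj`, `center_quot`
* `of_simple` : abelian subgroups of simple groups, `|A| ^ 2 < |G|`
* `card_le_of_odd`, `dvd_of_not_dvd`, `dvd_of_not_pow` : arithmetic
* `sylow_mod` : Sylow's congruence for a subgroup of prime order
-/

set_option autoImplicit false

namespace Cfsg.Agent.H199.AbTool

open Subgroup Cfsg.Agent.H498.Ab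

section

variable {G H : Type*} [Group G] [Group H]

theorem of_le {b : ℕ} {A B : Subgroup G} [Finite B] (h : AbLE b ↥B) (hAB : A ≤ B) : AbLE b ↥A :=
  h.of_injective (inclusion hAB) (inclusion_injective hAB)

theorem of_hom' [Finite G] [Finite H] {b c : ℕ} (f : G →* H) (hH : AbLE b H) (hK : Nat.card ↥f.ker ≤ c) :
    AbLE (b * c) G :=
  AbLE.of_hom f (hH.of_injective f.range.subtype (Subgroup.subtype_injective _)) (abLE_of_card_le hK)

/-- an abelian subgroup contained in `C` -/
theorem apply {b : ℕ} {C : Subgroup G} (h : AbLE b ↥C) {A : Subgroup G} (hA : IsMulCommutative A) (hAC : A ≤ C) :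
    Nat.card A ≤ b := by
  have h2 := h (A.subgroupOf C) (comm_comap_of_injective (f := C.subtype) (Subgroup.subtype_injective _) hA)
  rwa [Nat.card_congr (Subgroup.subgroupOfEquivOfLe hAC).toEquiv] at h2

/-- an abelian subgroup of even order etc. lies in the centralizer of one of its elements of order `p` -/
theorem exists_le_centralizer [Finite G] {A : Subgroup G} (hA : IsMulCommutative A) {p : ℕ} (hp : p.Prime)
    (hd : p ∣ Nat.card A) : ∃ x : G, orderOf x = p ∧ x ∈ A ∧ A ≤ centralizer ({x} : Set G) := by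
  have : Fact p.Prime := ⟨hp⟩
  obtain ⟨x, hx⟩ := exists_prime_orderOf_dvd_card' p hd
  refine ⟨x.1, by rw [Subgroup.orderOf_coe]; exact hx, x.2, fun a ha => ?_⟩
  rw [mem_centralizer_singleton_iff]
  exact comm_iff.1 hA a ha x x.2

theorem nilpotent {A : Subgroup G} (hA : IsMulCommutative A) : Group.IsNilpotent ↥A := by
  let _ : CommGroup ↥A := { (inferInstance : Group ↥A) with mul_comm := fun a b => hA.is_comm.comm a b }
  exact CommGroup.isNilpotent

end

section simple

variable {G : Type*} [Group G] [Finite G]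

theorem of_simple (hs : IsSimpleGroup G) (hG : ¬ IsMulCommutative G) {b : ℕ} (hb : Nat.card G ≤ (b + 1) ^ 2) :
    AbLE b G := by
  intro A hA
  have h1 := Cfsg.Agent.H956.CDelgado.card_sq_lt_of_comm hG A (comm_iff.1 hA)
  by_contra h2
  have h3 : (b + 1) ^ 2 ≤ Nat.card A ^ 2 := Nat.pow_le_pow_left (by omega) 2
  omega

omit [Finite G] in
theorem not_comm_of_card (hs : IsSimpleGroup G) {n : ℕ} (hn : Nat.card G = n) (hp : ¬ n.Prime) :
    ¬ IsMulCommutative G := by
  intro hc
  let cg : CommGroup G := { (inferInstance : Group G) with mul_comm := fun a b => hc.is_comm.comm a b }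
  have h := IsSimpleGroup.prime_card (α := G)
  rw [hn] at h
  exact hp h

end simple

variable {G : Type*} [Group G] [Finite G]

/-- `C` moves `a` inside a set with at most `k` elements -/
theorem of_orbit {C : Subgroup G} {a : G} {S : Set G} {k b : ℕ} (hS : ∀ x ∈ C, x * a * x⁻¹ ∈ S)
    (hk : S.ncard ≤ k) (h : AbLE b ↥(centralizer ({a} : Set G))) : AbLE (k * b) ↥C := by
  have h1 : AbLE b ↥((centralizer ({a} : Set G)).subgroupOf C) := by
    have h2 : AbLE b ↥(centralizer ({a} : Set G) ⊓ C : Subgroup G) := of_le h inf_le_left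
    rw [← Subgroup.inf_subgroupOf_right]
    exact h2.congr (Subgroup.subgroupOfEquivOfLe inf_le_right).symm
  refine (AbLE.of_index _ h1).mono ?_
  rw [mul_comm k]
  refine Nat.mul_le_mul_left _ ?_
  refine le_trans ?_ hk
  -- the index is the size of the orbit
  let f : (↥C ⧸ (centralizer ({a} : Set G)).subgroupOf C) → ↥S :=
    Quotient.lift (fun x : ↥C => (⟨(x : G) * a * (x : G)⁻¹, hS x x.2⟩ : ↥S)) (by
      intro x y hxy
      have hxy' : x⁻¹ * y ∈ (centralizer ({a} : Set G)).subgroupOf C := QuotientGroup.leftRel_apply.1 hxy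
      rw [Subgroup.mem_subgroupOf, mem_centralizer_singleton_iff] at hxy'
      apply Subtype.ext
      show (x : G) * a * (x : G)⁻¹ = (y : G) * a * (y : G)⁻¹
      have h3 : ((x⁻¹ * y : ↥C) : G) = (x : G)⁻¹ * (y : G) := rfl
      rw [h3] at hxy'
      calc (x : G) * a * (x : G)⁻¹ = (x : G) * (a * ((x : G)⁻¹ * (y : G))) * (y : G)⁻¹ := by group
        _ = (x : G) * (((x : G)⁻¹ * (y : G)) * a) * (y : G)⁻¹ := by rw [hxy']
        _ = _ := by group)
  have hf : Function.Injective f := by
    intro x y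
    induction x using QuotientGroup.induction_on with
    | H x =>
      induction y using QuotientGroup.induction_on with
      | H y =>
        intro hxy
        have hxy' : (x : G) * a * (x : G)⁻¹ = (y : G) * a * (y : G)⁻¹ := congrArg Subtype.val hxy
        rw [QuotientGroup.eq, Subgroup.mem_subgroupOf, mem_centralizer_singleton_iff]
        show (x : G)⁻¹ * (y : G) * a = a * ((x : G)⁻¹ * (y : G))
        calc (x : G)⁻¹ * (y : G) * a = (x : G)⁻¹ * ((y : G) * a * (y : G)⁻¹) * (y : G) := by group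
          _ = (x : G)⁻¹ * ((x : G) * a * (x : G)⁻¹) * (y : G) := by rw [hxy']
          _ = _ := by group
  exact Nat.card_le_card_of_injective f hf

/-- `C` fixes or interchanges `a`, `b` -/
theorem of_pair {C : Subgroup G} {a a' : G} {b : ℕ} (hS : ∀ x ∈ C, x * a = a * x ∨ x * a * x⁻¹ = a')
    (h : AbLE b ↥(centralizer ({a} : Set G))) : AbLE (2 * b) ↥C := by
  refine of_orbit (S := {a, a'}) (fun x hx => ?_) ?_ h
  · rcases hS x hx with h1 | h1
    · left
      rw [h1, mul_inv_cancel_right]
    · exact Or.inr h1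
  · exact (Set.ncard_insert_le _ _).trans (by rw [Set.ncard_singleton])

/-- conjugate elements have the same bounds -/
theorem conj {s t : G} (hc : IsConj t s) {b : ℕ} (h : AbLE b ↥(centralizer ({s} : Set G))) :
    AbLE b ↥(centralizer ({t} : Set G)) := by
  obtain ⟨g, rfl⟩ := isConj_iff.1 hc
  let f : ↥(centralizer ({t} : Set G)) →* ↥(centralizer ({g * t * g⁻¹} : Set G)) :=
    ((MulAut.conj g).toMonoidHom.comp (centralizer ({t} : Set G)).subtype).codRestrict _ (by
      rintro ⟨x, hx⟩
      rw [mem_centralizer_singleton_iff] at hx ⊢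
      show g * x * g⁻¹ * (g * t * g⁻¹) = g * t * g⁻¹ * (g * x * g⁻¹)
      calc g * x * g⁻¹ * (g * t * g⁻¹) = g * (x * t) * g⁻¹ := by group
        _ = g * (t * x) * g⁻¹ := by rw [hx]
        _ = _ := by group)
  refine h.of_injective f ?_
  intro x y hxy
  have h1 : g * (x : G) * g⁻¹ = g * (y : G) * g⁻¹ := congrArg Subtype.val hxy
  exact Subtype.ext (mul_left_cancel (mul_right_cancel h1))

/-- `D` has index at most two in `C` -/
theorem of_two {C D : Subgroup G} (h : ∀ x ∈ C, ∀ y ∈ C, x ∉ D → y ∉ D → x⁻¹ * y ∈ D) {b : ℕ}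
    (hD : AbLE b ↥D) : AbLE (2 * b) ↥C := by
  classical
  have h1 : AbLE b ↥(D.subgroupOf C) := by
    have h2 : AbLE b ↥(D ⊓ C : Subgroup G) := of_le hD inf_le_left
    rw [← Subgroup.inf_subgroupOf_right]
    exact h2.congr (Subgroup.subgroupOfEquivOfLe inf_le_right).symm
  refine (AbLE.of_index _ h1).mono ?_
  rw [mul_comm 2]
  refine Nat.mul_le_mul_left _ ?_
  let f : (↥C ⧸ D.subgroupOf C) → Bool :=
    Quotient.lift (fun x : ↥C => decide ((x : G) ∈ D)) (by
      intro x y hxy
      have hxy' : x⁻¹ * y ∈ D.subgroupOf C := QuotientGroup.leftRel_apply.1 hxy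
      rw [Subgroup.mem_subgroupOf] at hxy'
      have h3 : ((x⁻¹ * y : ↥C) : G) = (x : G)⁻¹ * (y : G) := rfl
      rw [h3] at hxy'
      show decide ((x : G) ∈ D) = decide ((y : G) ∈ D)
      rw [decide_eq_decide]
      constructor
      · intro hx
        have h4 := D.mul_mem hx hxy'
        rwa [mul_inv_cancel_left] at h4
      · intro hy
        have h4 := D.mul_mem hy (D.inv_mem hxy')
        rwa [mul_inv_rev, inv_inv, mul_inv_cancel_left] at h4)
  have hf : Function.Injective f := by
    intro x y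
    induction x using QuotientGroup.induction_on with
    | H x =>
      induction y using QuotientGroup.induction_on with
      | H y =>
        intro hxy
        have hxy' : decide ((x : G) ∈ D) = decide ((y : G) ∈ D) := hxy
        rw [decide_eq_decide] at hxy'
        rw [QuotientGroup.eq, Subgroup.mem_subgroupOf]
        show (x : G)⁻¹ * (y : G) ∈ D
        by_cases hx : (x : G) ∈ D
        · exact D.mul_mem (D.inv_mem hx) (hxy'.1 hx)
        · exact h x x.2 y y.2 hx fun hy => hx (hxy'.2 hy)
  have h4 := Nat.card_le_card_of_injective f hf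
  rw [Nat.card_eq_fintype_card (α := Bool), Fintype.card_bool] at h4
  exact h4

/-- a central quotient -/
theorem center_quot {H : Type*} [Group H] [Finite H] {b r : ℕ} (hZ : Nat.card ↥(center H) = r)
    (h : AbLE b (H ⧸ center H)) : AbLE (r * b) H := by
  have h1 := AbLE.of_quotient (center H) h (abLE_of_card_le hZ.le)
  rwa [mul_comm] at h1

omit [Finite G] in
/-- the odd part: `|A|` is odd and divides `2 ^ a * m` -/
theorem card_le_of_odd {A : Subgroup G} (h2 : ¬ 2 ∣ Nat.card ↥A) {a m : ℕ} (hm : 0 < m)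
    (h : Nat.card ↥A ∣ 2 ^ a * m) : Nat.card ↥A ≤ m := by
  have h1 : (Nat.card ↥A).Coprime (2 ^ a) := (((Nat.Prime.coprime_iff_not_dvd Nat.prime_two).2 h2).symm).pow_right a
  exact Nat.le_of_dvd hm (h1.dvd_of_dvd_mul_left h)

/-- `n` is prime to `r` and divides `r ^ a * m` -/
theorem dvd_of_not_dvd {n r : ℕ} (hr : r.Prime) (h2 : ¬ r ∣ n) {a m : ℕ} (h : n ∣ r ^ a * m) : n ∣ m := by
  have h1 : n.Coprime (r ^ a) := (((Nat.Prime.coprime_iff_not_dvd hr).2 h2).symm).pow_right a
  exact h1.dvd_of_dvd_mul_left h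

/-- removing part of a prime power -/
theorem dvd_of_not_pow {p n j k m : ℕ} (hp : p.Prime) (hn : n ≠ 0) (h : ¬ p ^ (k + 1) ∣ n) (h' : n ∣ p ^ j * m) :
    n ∣ p ^ k * m := by
  obtain ⟨a, n', hn', rfl⟩ := Nat.exists_eq_pow_mul_and_not_dvd hn p hp.ne_one
  have ha : a ≤ k := by
    by_contra hcon
    exact h ((pow_dvd_pow p (not_le.1 hcon)).trans (dvd_mul_right _ _))
  have h1 : n' ∣ m := by
    have h2 : n' ∣ p ^ j * m := (dvd_mul_left _ _).trans h'
    exact (((hp.coprime_iff_not_dvd).2 hn').symm.pow_right j).dvd_of_dvd_mul_left h2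
  exact mul_dvd_mul (pow_dvd_pow p ha) h1

omit [Finite G] in
/-- the order of an abelian subgroup `A` divides the orders of the centralizers of its elements -/
theorem dvd_cent {A : Subgroup G} (hA : IsMulCommutative A) {x : G} (hx : x ∈ A) :
    Nat.card ↥A ∣ Nat.card ↥(centralizer ({x} : Set G)) := by
  refine Subgroup.card_dvd_of_le fun a ha => ?_
  rw [mem_centralizer_singleton_iff]
  exact comm_iff.1 hA a ha x hx

omit [Finite G] in
/-- `x`, `y` commute: the order of `y` divides `|C(x)|` -/
theorem order_dvd {x y : G} (h : x * y = y * x) : orderOf y ∣ Nat.card ↥(centralizer ({x} : Set G)) := by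
  have h1 : y ∈ centralizer ({x} : Set G) := mem_centralizer_singleton_iff.2 h.symm
  rw [← Subgroup.orderOf_mk y h1]
  exact orderOf_dvd_natCard _

omit [Finite G] in
/-- an element of prime order `r` acting on fewer than `r` elements -/
theorem comm_of_small {y a : G} {r : ℕ} (hr : r.Prime) (hy : orderOf y = r) {S : Set G} (hS : S.Finite)
    (hk : S.ncard < r) (h : ∀ n : ℕ, y ^ n * a * (y ^ n)⁻¹ ∈ S) : y * a = a * y := by
  classical
  have hp := hr.pos
  -- two of the conjugates coincide
  obtain ⟨i, j, hij, hjr, he⟩ : ∃ i j : ℕ, i < j ∧ j < r ∧ y ^ i * a * (y ^ i)⁻¹ = y ^ j * a * (y ^ j)⁻¹ := by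
    by_contra hcon
    push Not at hcon
    have h1 : Set.InjOn (fun n : ℕ => y ^ n * a * (y ^ n)⁻¹) (Set.Iio r) := by
      intro i hi j hj hij
      rcases lt_trichotomy i j with h2 | h2 | h2
      · exact absurd hij (hcon i j h2 hj)
      · exact h2
      · exact absurd hij.symm (hcon j i h2 hi)
    have h2 := Set.ncard_le_ncard_of_injOn (fun n : ℕ => y ^ n * a * (y ^ n)⁻¹) (s := Set.Iio r) (t := S)
      (fun n _ => h n) h1 hS
    have h3 : (Set.Iio r).ncard = r := by
      rw [← Finset.coe_Iio, Set.ncard_coe_finset, Nat.card_Iio]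
    omega
  have h1 : Commute (y ^ (j - i)) a := by
    have h2 : y ^ j = y ^ i * y ^ (j - i) := by rw [← pow_add, Nat.add_sub_cancel' hij.le]
    rw [h2] at he
    have h3 : y ^ i * a * (y ^ i)⁻¹ = y ^ i * (y ^ (j - i) * a * (y ^ (j - i))⁻¹) * (y ^ i)⁻¹ := by
      rw [he]; group
    have h4 := mul_left_cancel (mul_right_cancel h3)
    exact (mul_inv_eq_iff_eq_mul.1 h4.symm)
  have hco : Nat.Coprime (j - i) (orderOf y) := by
    rw [hy]
    exact ((Nat.Prime.coprime_iff_not_dvd hr).2 fun h2 => by
      have := Nat.le_of_dvd (by omega) h2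
      omega).symm
  obtain ⟨m, hm⟩ := exists_pow_eq_self_of_coprime (G := G) hco
  have h5 := h1.pow_left m
  rw [hm] at h5
  exact h5

end Cfsg.Agent.H199.AbTool
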