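import Cfsg.Agent.H199.NSmFi22
import Cfsg.Agent.H199.AbTool
import Cfsg.Agent.H498.Ab.RowU
import Cfsg.Agent.H149.Sp.Engine

/-!
# S2501, the row `Fi22` (helper199)

* `le_inv` : bounds for the abelian subgroups of the centralizers of involutions
* `thirteen` : `3 ^ 8` does not divide the order of the centralizer of an element of order 13
* `ab3_Fi22`
-/

set_option autoImplicit false

namespace Cfsg.Agent.H199.AbFi22

open Subgroup Cfsg Cfsg.Agent.H199.AbTool Cfsg.Agent.H498.Ab
open Cfsg.Agent.R01.FiFusion Cfsg.Agent.R01.FiFacts Cfsg.Agent.StdFi22.TLev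
open Cfsg.Agent.OddHalf.D4.Spor.Fi22 (inv_cases exists_ncomm comm_tri comm_w)
open Cfsg.Agent.StdFi22.MainFi22 (bas)
open Cfsg.Agent.R08.AutT (T)
open Cfsg.Agent.H199.NSmFi22 (card_Fi22 card_three)

/-- the centralizer of a transposition -/
theorem le_a {d b : Spor.Fi22} {R : Subgroup Spor.Fi22} (F : KFacts.FiTT.Facts Spor.Fi22 d b R) :
    AbLE (2 * 2096) ↥(centralizer ({d} : Set Spor.Fi22)) := by
  have := CTwoTab.Fi22.finite
  refine center_quot (CTwoTab.Fi22.card_center F) ?_
  have hq := CTwoTab.Fi22.card_quo F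
  obtain ⟨K, i1, i2, hK, ⟨e⟩⟩ := F.quo
  have h1 : Ab3 (PSU 6 K 2) := RowU.ab3_PSU (by rw [hK]; norm_num) (by norm_num) (by norm_num)
  exact (h1.congr e.symm).abLE (by rw [hq]; norm_num)

theorem le_T {d : Spor.Fi22} (hd : d ∈ T) : AbLE (2 * 2096) ↥(centralizer ({d} : Set Spor.Fi22)) := by
  obtain ⟨b, c, ht⟩ := bas.exists_tri hd
  obtain ⟨R, F⟩ := CTwoTab.Fi22.facts hd ht.my ht.xy ht.cxy
  exact le_a F

/-- The centralizer of an involution moves a transposition inside a set with at most six elements. -/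
theorem exists_set {t : Spor.Fi22} (ht : orderOf t = 2) : ∃ a ∈ T, ∃ S : Set Spor.Fi22, S.ncard ≤ 6 ∧
    ∀ x ∈ centralizer ({t} : Set Spor.Fi22), x * a * x⁻¹ ∈ S := by
  have := CTwoTab.Fi22.finite
  have tt : t * t = 1 := by rw [← pow_two, ← ht, pow_orderOf_eq_one]
  have t1 : t ≠ 1 := by
    rintro rfl
    rw [orderOf_one] at ht
    omega
  rcases inv_cases tt t1 with h1 | ⟨a, ha, b, hb, hab, cab, rfl⟩ | ⟨a, b, c, h1, rfl⟩
  · refine ⟨t, h1, {t}, by rw [Set.ncard_singleton]; norm_num, fun x hx => ?_⟩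
    rw [mem_centralizer_singleton_iff.1 hx, mul_inv_cancel_right]
    rfl
  · obtain ⟨R, F⟩ := CTwoTab.Fi22.facts ha hb hab cab
    refine ⟨a, ha, {a, b}, (Set.ncard_insert_le _ _).trans (by rw [Set.ncard_singleton]; norm_num), fun x hx => ?_⟩
    rcases F.cz x (mem_centralizer_singleton_iff.1 hx) with h2 | h2
    · left
      rw [h2.1, mul_inv_cancel_right]
    · exact Or.inr h2.1
  · obtain ⟨a', b', c', H⟩ := bas.tf.hex a b c h1
    refine ⟨a, h1.mx, {a, b, c, a', b', c'}, ?_, fun x hx => ?_⟩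
    · refine (Set.ncard_insert_le _ _).trans (Nat.succ_le_succ ?_)
      refine (Set.ncard_insert_le _ _).trans (Nat.succ_le_succ ?_)
      refine (Set.ncard_insert_le _ _).trans (Nat.succ_le_succ ?_)
      refine (Set.ncard_insert_le _ _).trans (Nat.succ_le_succ ?_)
      refine (Set.ncard_insert_le _ _).trans (Nat.succ_le_succ ?_)
      rw [Set.ncard_singleton]
    · have aw : a * (a * b * c) = a * b * c * a := comm_w bas h1 rfl h1.cxy h1.cxw
      have comm := fun (t : Spor.Fi22) => comm_w bas h1 (t := t)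
      have tri := fun (t : Spor.Fi22) (htT : t ∈ T) => comm_tri bas h1 htT
      have ncomm := fun (n : Spor.Fi22) (hn : n ∈ T) => exists_ncomm bas H hn
      have haT := h1.mx
      have hx' : x * (a * b * c) = a * b * c * x := mem_centralizer_singleton_iff.1 hx
      clear h1 H tt t1 ht hx
      generalize a * b * c = w at aw hx' comm tri
      by_contra hcon
      simp only [Set.mem_insert_iff, Set.mem_singleton_iff, not_or] at hcon
      obtain ⟨n1, n2, n3, n4, n5, n6⟩ := hcon
      have hc' : x⁻¹ * w = w * x⁻¹ := by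
        rw [inv_mul_eq_iff_eq_mul, ← mul_assoc, hx', mul_assoc, mul_inv_cancel, mul_one]
      -- `a ^ x` commutes with the transpositions commuting with `w`
      have key : ∀ t ∈ T, t * w = w * t → t * (x * a * x⁻¹) = x * a * x⁻¹ * t := by
        intro t htT htw
        have k1 : x⁻¹ * t * x ∈ T := by
          have := bas.conjT x⁻¹ htT
          rwa [inv_inv] at this
        have k2 : x⁻¹ * t * x * w = w * (x⁻¹ * t * x) := by
          calc x⁻¹ * t * x * w = x⁻¹ * t * (x * w) := by group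
            _ = x⁻¹ * (t * w) * x := by rw [hx']; group
            _ = (x⁻¹ * w) * t * x := by rw [htw]; group
            _ = w * (x⁻¹ * t * x) := by rw [hc']; group
        have k3 := (tri _ k1 k2).1
        calc t * (x * a * x⁻¹) = x * ((x⁻¹ * t * x) * a) * x⁻¹ := by group
          _ = x * (a * (x⁻¹ * t * x)) * x⁻¹ := by rw [k3]
          _ = _ := by group
      have xT : x * a * x⁻¹ ∈ T := bas.conjT x haT
      have xw : x * a * x⁻¹ * w = w * (x * a * x⁻¹) := by
        calc x * a * x⁻¹ * w = x * a * (x⁻¹ * w) := by group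
          _ = x * (a * w) * x⁻¹ := by rw [hc']; group
          _ = x * w * a * x⁻¹ := by rw [aw]; group
          _ = w * (x * a * x⁻¹) := by rw [hx']; group
      obtain ⟨xa, xb, xc⟩ := tri _ xT xw
      obtain ⟨t, htT, ta, tb, tc, tn⟩ := ncomm _ xT xa xb xc n1 n2 n3 n4 n5 n6
      exact tn (key t htT (comm t ta tb tc))

/-- bounds for the abelian subgroups of the centralizers of involutions -/
theorem le_inv {t : Spor.Fi22} (ht : orderOf t = 2) : AbLE 25152 ↥(centralizer ({t} : Set Spor.Fi22)) := by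
  have := CTwoTab.Fi22.finite
  obtain ⟨a, ha, S, hS, h⟩ := exists_set ht
  exact (of_orbit h hS (le_T ha)).mono (by norm_num)

/-! ### Elements of order 13 -/

open Cfsg.Agent.LThreeFi22

local notation "TT" => KFacts.FiTT.TK (MulEquiv.refl Spor.Fi22)

theorem ctx : Ctx Spor.Fi22 TT := Inst.ctx (MulEquiv.refl Spor.Fi22)

/-- no element of order 13 commutes with a transposition -/
theorem not_thirteen {a : Spor.Fi22} (ha : a ∈ TT) {y : Spor.Fi22} (hy : orderOf y = 13) : y * a ≠ a * y := by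
  intro h
  have h1 := order_dvd h.symm
  rw [hy, ctx.card_cent ha] at h1
  revert h1
  norm_num

/-- an element of order 13 does not act on a small set of transpositions -/
theorem not_small {y : Spor.Fi22} (hy : orderOf y = 13) {S : Set Spor.Fi22} (hk : S.ncard < 13) {a : Spor.Fi22}
    (ha : a ∈ TT) (h : ∀ n : ℕ, y ^ n * a * (y ^ n)⁻¹ ∈ S) : False := by
  have := ctx.finite
  exact not_thirteen ha hy (comm_of_small (by norm_num) hy (Set.toFinite _) hk h)

theorem not_fx {y u : Spor.Fi22} (hy : orderOf y = 13) (huy : u * y = y * u) (hk : (Fx TT u).ncard < 13)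
    (h0 : (Fx TT u).ncard ≠ 0) : False := by
  obtain ⟨d, hd⟩ := ctx.exists_mem h0
  refine not_small hy hk hd.1 fun n => ?_
  exact ctx.fx_conj (show y ^ n * u = u * y ^ n from ((show Commute y u from huy.symm).pow_left n).eq) hd

theorem card_eleven {y : Spor.Fi22} (hy : y ^ 11 = 1) (hy1 : y ≠ 1) : (Fx TT y).ncard = 1 := by
  have C := ctx
  have := C.finite
  have h1 := C.fx_mod (by norm_num : Nat.Prime 11) hy
  obtain ⟨d, hd⟩ := C.exists_mem (y := y) (by intro h; rw [h] at h1; revert h1; decide)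
  have huniq : ∀ e ∈ Fx TT y, e = d := by
    intro e he
    by_contra hne
    by_cases hc : d * e = e * d
    · exact C.iso7 11 (Or.inr rfl) y hy hy1 d hd.1 hd.2 e he.1 hne hc he.2
    · have h2 := (C.mu hd.1 he.1 hc).2
      apply h2
      have h3 := fix_modEq (r := 11) (by norm_num) hy (S := {c | c ∈ TT ∧ d * c = c * d ∧ e * c = c * e}) (by
        rintro s ⟨hs, hs1, hs2⟩
        exact ⟨C.conj s hs y, conj_of_comm hd.2 hs1, conj_of_comm he.2 hs2⟩)
      have h4 : {s | s ∈ {c | c ∈ TT ∧ d * c = c * d ∧ e * c = c * e} ∧ y * s = s * y} = ∅ := by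
        rw [Set.eq_empty_iff_forall_notMem]
        rintro s ⟨⟨hs, hs1, hs2⟩, hs3⟩
        refine C.iso7 11 (Or.inr rfl) y hy hy1 d hd.1 hd.2 s hs ?_ hs1 hs3
        rintro rfl
        exact hc hs2.symm
      rw [h4, Set.ncard_empty] at h3
      exact (Nat.modEq_zero_iff_dvd).1 h3
  have h5 : Fx TT y = {d} := Set.Subset.antisymm (fun e he => huniq e he) (Set.singleton_subset_iff.2 hd)
  rw [h5, Set.ncard_singleton]

/-- the primes dividing the order of the centralizer of an element of order 13 -/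
theorem prime_thirteen {y : Spor.Fi22} (hy : orderOf y = 13) {r : ℕ} (hr : r.Prime)
    (hd : r ∣ Nat.card ↥(centralizer ({y} : Set Spor.Fi22))) : r = 3 ∨ r = 13 := by
  have C := ctx
  have := C.finite
  have : Fact r.Prime := ⟨hr⟩
  obtain ⟨⟨u, huy⟩, hu⟩ := exists_prime_orderOf_dvd_card' r hd
  rw [Subgroup.orderOf_mk] at hu
  have huy' : u * y = y * u := mem_centralizer_singleton_iff.1 huy
  have hur : u ^ r = 1 := by rw [← hu, pow_orderOf_eq_one]
  have hu1 : u ≠ 1 := by
    rintro rfl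
    rw [orderOf_one] at hu
    exact hr.one_lt.ne hu
  have h1 : r ∣ 2 ^ 17 * 3 ^ 9 * 5 ^ 2 * 7 * 11 * 13 := by
    have h2 := hd.trans (Subgroup.card_subgroup_dvd_card _)
    rw [card_Fi22] at h2
    exact h2.trans (by norm_num)
  have hp : ∀ q k : ℕ, q.Prime → r ∣ q ^ k → r = q := fun q k hq h => (Nat.prime_dvd_prime_iff_eq hr hq).1 (hr.dvd_of_dvd_pow h)
  have h2 : r = 2 ∨ r = 3 ∨ r = 5 ∨ r = 7 ∨ r = 11 ∨ r = 13 := by
    rcases hr.dvd_mul.1 h1 with h | h
    · rcases hr.dvd_mul.1 h with h | h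
      · rcases hr.dvd_mul.1 h with h | h
        · rcases hr.dvd_mul.1 h with h | h
          · rcases hr.dvd_mul.1 h with h | h
            · exact Or.inl (hp 2 17 Nat.prime_two h)
            · exact Or.inr (Or.inl (hp 3 9 Nat.prime_three h))
          · exact Or.inr (Or.inr (Or.inl (hp 5 2 Nat.prime_five h)))
        · exact Or.inr (Or.inr (Or.inr (Or.inl ((Nat.prime_dvd_prime_iff_eq hr (by norm_num)).1 h))))
      · exact Or.inr (Or.inr (Or.inr (Or.inr (Or.inl ((Nat.prime_dvd_prime_iff_eq hr (by norm_num)).1 h)))))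
    · exact Or.inr (Or.inr (Or.inr (Or.inr (Or.inr ((Nat.prime_dvd_prime_iff_eq hr (by norm_num)).1 h)))))
  rcases h2 with rfl | rfl | rfl | rfl | rfl | rfl
  · exfalso
    obtain ⟨a, ha, S, hS, h⟩ := exists_set hu
    have haT : a ∈ TT := by
      rw [Inst.mem_TK]
      exact ha
    refine not_small hy (S := S) (by omega) haT fun n => h _ ?_
    rw [mem_centralizer_singleton_iff]
    exact ((show Commute y u from huy'.symm).pow_left n).eq
  · exact Or.inl rfl
  · exfalso
    obtain ⟨d, hd, hud⟩ := C.ex5 u hur hu1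
    have h3 := (C.five_far hur hu1 (d := d) ⟨hd, hud⟩).1
    exact not_fx hy huy' (by omega) (by omega)
  · exfalso
    have h3 := C.seven_card hur hu1
    exact not_fx hy huy' (by omega) (by omega)
  · exfalso
    have h3 := card_eleven hur hu1
    exact not_fx hy huy' (by omega) (by omega)
  · exact Or.inr rfl

/-- **`3 ^ 8` does not divide the order of the centralizer of an element of order 13.** -/
theorem thirteen {y : Spor.Fi22} (hy : orderOf y = 13) :
    ¬ 3 ^ 8 ∣ Nat.card ↥(centralizer ({y} : Set Spor.Fi22)) := by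
  have C := ctx
  have := C.finite
  intro h8
  set c := Nat.card ↥(centralizer ({y} : Set Spor.Fi22)) with hc
  have nd : ∀ r : ℕ, r.Prime → r ≠ 3 → r ≠ 13 → ¬ r ∣ c := fun r hr h3 h13 hd => by
    rcases prime_thirteen hy hr hd with h | h
    · exact h3 h
    · exact h13 h
  have h1 : c ∣ 2 ^ 17 * (5 ^ 2 * (7 ^ 1 * (11 ^ 1 * (3 ^ 9 * 13)))) := by
    have := Subgroup.card_subgroup_dvd_card (centralizer ({y} : Set Spor.Fi22))
    rwa [card_Fi22] at this
  have h2 := dvd_of_not_dvd Nat.prime_two (nd 2 (by norm_num) (by norm_num) (by norm_num)) h1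
  have h3 := dvd_of_not_dvd Nat.prime_five (nd 5 (by norm_num) (by norm_num) (by norm_num)) h2
  have h4 := dvd_of_not_dvd (by norm_num) (nd 7 (by norm_num) (by norm_num) (by norm_num)) h3
  have h5 := dvd_of_not_dvd (by norm_num) (nd 11 (by norm_num) (by norm_num) (by norm_num)) h4
  obtain ⟨m, hm⟩ : 13 ∣ c := by
    have := order_dvd (x := y) (y := y) rfl
    rwa [hy] at this
  have h6 : m ∣ 3 ^ 9 := by
    have : 13 * m ∣ 13 * 3 ^ 9 := by rw [← hm]; exact h5.trans (by norm_num)
    exact Nat.dvd_of_mul_dvd_mul_left (by norm_num) this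
  obtain ⟨a, ha, rfl⟩ := (Nat.dvd_prime_pow Nat.prime_three).1 h6
  have ha8 : 8 ≤ a := by
    rw [hm] at h8
    have : 3 ^ 8 ∣ 3 ^ a := (Nat.Coprime.dvd_of_dvd_mul_left (by norm_num) h8)
    exact (Nat.pow_dvd_pow_iff_le_right (by norm_num)).1 this
  have hs2 : ¬ 13 ^ 2 ∣ Nat.card Spor.Fi22 := by rw [card_Fi22]; norm_num
  obtain ⟨k, hk, hN⟩ := H149.Sp.Eng.card_nm (by norm_num : Nat.Prime 13) hy
  have hi := H149.Sp.Eng.index_nm_mod (by norm_num : Nat.Prime 13) hs2 hy
  have hG := (H149.Sp.Eng.Nm y).card_mul_index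
  rw [hN, show Nat.card (H149.Sp.Eng.Cm y) = 13 * 3 ^ a from hm, card_Fi22] at hG
  have hG' : 3 ^ a * k * (H149.Sp.Eng.Nm y).index = 4966288588800 := by
    have h7 : 13 * (3 ^ a * k * (H149.Sp.Eng.Nm y).index) = 13 * 4966288588800 := by
      rw [← show (64561751654400 : ℕ) = 13 * 4966288588800 by norm_num, ← hG]; ring
    exact Nat.eq_of_mul_eq_mul_left (by norm_num) h7
  have hmod : (3 ^ a * k) % 13 = 6 := by
    have h7 : (3 ^ a * k * (H149.Sp.Eng.Nm y).index) % 13 = 6 := by rw [hG']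
    rwa [Nat.mul_mod, hi, mul_one, Nat.mod_mod] at h7
  have hk12 : k ≤ 12 := Nat.le_of_dvd (by norm_num) hk
  have hk0 : k ≠ 0 := by
    rintro rfl
    norm_num at hk
  have ha9 : a = 8 ∨ a = 9 := by omega
  rcases ha9 with rfl | rfl
  · interval_cases k <;> revert hmod hk <;> decide
  · have h10 : ¬ 3 ∣ k := by
      rintro ⟨k', rfl⟩
      have h7 : 3 ^ 10 ∣ 4966288588800 := ⟨k' * (H149.Sp.Eng.Nm y).index, by rw [← hG']; ring⟩
      revert h7
      norm_num
    interval_cases k <;> revert hmod hk h10 <;> decide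

/-! ### The row -/

theorem odd {A : Subgroup Spor.Fi22} (hA : IsMulCommutative A) (h2 : ¬ 2 ∣ Nat.card ↥A) : Nat.card ↥A ≤ 28431 := by
  have C := ctx
  have := C.finite
  have hne : Nat.card ↥A ≠ 0 := Nat.card_pos.ne'
  have h4 : Nat.card ↥A ∣ 2 ^ 17 * (3 ^ 9 * (5 ^ 2 * (7 ^ 1 * (11 ^ 1 * 13)))) := by
    have := Subgroup.card_subgroup_dvd_card A
    rwa [card_Fi22] at this
  have h5 := dvd_of_not_dvd Nat.prime_two h2 h4
  by_cases h3 : 3 ∣ Nat.card ↥A
  · obtain ⟨x, hx, hxA, -⟩ := exists_le_centralizer hA Nat.prime_three h3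
    have hx3 : x ^ 3 = 1 := by rw [← hx, pow_orderOf_eq_one]
    have hx1 : x ≠ 1 := by
      rintro rfl
      rw [orderOf_one] at hx
      norm_num at hx
    by_cases h57 : 5 ∣ Nat.card ↥A ∨ 7 ∣ Nat.card ↥A
    · -- then `9` does not divide `|A|` and `x` is of type 3A
      have key : ¬ 9 ∣ Nat.card ↥A ∧ Is3A TT x := by
        rcases h57 with h | h
        · obtain ⟨u, hu, huA, -⟩ := exists_le_centralizer hA Nat.prime_five h
          have hur : u ^ 5 = 1 := by rw [← hu, pow_orderOf_eq_one]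
          have hu1 : u ≠ 1 := by
            rintro rfl
            rw [orderOf_one] at hu
            norm_num at hu
          exact ⟨fun h9 => C.nine_five hur hu1 (h9.trans (dvd_cent hA huA)), C.five hur hu1 hx3 hx1
            (comm_iff.1 hA x hxA u huA)⟩
        · obtain ⟨u, hu, huA, -⟩ := exists_le_centralizer hA (by norm_num : Nat.Prime 7) h
          have hur : u ^ 7 = 1 := by rw [← hu, pow_orderOf_eq_one]
          have hu1 : u ≠ 1 := by
            rintro rfl
            rw [orderOf_one] at hu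
            norm_num at hu
          exact ⟨fun h9 => C.nine_seven hur hu1 (h9.trans (dvd_cent hA huA)), C.seven hur hu1 hx3 hx1
            (comm_iff.1 hA x hxA u huA)⟩
      obtain ⟨h9, h3A⟩ := key
      obtain ⟨a, ha, b, hb, hab, rfl⟩ := h3A
      have h6 := dvd_cent hA hxA
      rw [C.card_three ha hb hab] at h6
      have h7 : Nat.card ↥A ∣ 3 ^ 7 * (2 ^ 8 * 35) := h6.trans (by norm_num)
      have h8 := dvd_of_not_pow (k := 1) Nat.prime_three hne (by norm_num; exact h9) h7
      have h10 : Nat.card ↥A ∣ 2 ^ 8 * (3 * 35) := h8.trans (by norm_num)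
      exact (Nat.le_of_dvd (by norm_num) (dvd_of_not_dvd Nat.prime_two h2 h10)).trans (by norm_num)
    · have h6 : Nat.card ↥A ∣ 5 ^ 2 * (7 ^ 1 * (11 ^ 1 * (3 ^ 9 * 13))) := h5.trans (by norm_num)
      have h7 := dvd_of_not_dvd Nat.prime_five (fun h => h57 (Or.inl h)) h6
      have h8 := dvd_of_not_dvd (by norm_num) (fun h => h57 (Or.inr h)) h7
      have h9 : ¬ 11 ∣ Nat.card ↥A := by
        intro h
        obtain ⟨u, hu, huA, -⟩ := exists_le_centralizer hA (by norm_num : Nat.Prime 11) h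
        have hur : u ^ 11 = 1 := by rw [← hu, pow_orderOf_eq_one]
        have hu1 : u ≠ 1 := by
          rintro rfl
          rw [orderOf_one] at hu
          norm_num at hu
        exact hx1 (C.eleven hur hu1 hx3 (comm_iff.1 hA x hxA u huA))
      have h10 := dvd_of_not_dvd (by norm_num) h9 h8
      by_cases h13 : 13 ∣ Nat.card ↥A
      · obtain ⟨u, hu, huA, -⟩ := exists_le_centralizer hA (by norm_num : Nat.Prime 13) h13
        have h11 : ¬ 3 ^ (7 + 1) ∣ Nat.card ↥A := fun h => thirteen hu (h.trans (dvd_cent hA huA))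
        exact (Nat.le_of_dvd (by norm_num) (dvd_of_not_pow Nat.prime_three hne h11 h10)).trans (by norm_num)
      · have h11 : Nat.card ↥A ∣ 13 ^ 1 * 3 ^ 9 := h10.trans (by norm_num)
        exact (Nat.le_of_dvd (by norm_num) (dvd_of_not_dvd (by norm_num) h13 h11)).trans (by norm_num)
  · exact (Nat.le_of_dvd (by norm_num) (dvd_of_not_dvd Nat.prime_three h3 h5)).trans (by norm_num)

/-- **The row `Fi22` of S2501.** -/
theorem ab3 : Ab3 Spor.Fi22 := by
  have := ctx.finite
  intro A hA
  rw [card_Fi22]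
  by_cases h2 : 2 ∣ Nat.card ↥A
  · obtain ⟨t, ht, -, hle⟩ := exists_le_centralizer hA Nat.prime_two h2
    calc Nat.card ↥A ^ 3 ≤ 25152 ^ 3 := Nat.pow_le_pow_left (apply (le_inv ht) hA hle) 3
      _ < _ := by norm_num
  · calc Nat.card ↥A ^ 3 ≤ 28431 ^ 3 := Nat.pow_le_pow_left (odd hA h2) 3
      _ < _ := by norm_num

theorem ab3_Fi22 {G : Type*} [Group G] [Finite G] [IsSimpleGroup G] (h : Cfsg.Spor.IsoFi22 G) : Ab3 G := by
  obtain ⟨e⟩ := h
  exact ab3.congr e.symm

end Cfsg.Agent.H199.AbFi22
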