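import Cfsg.Agent.H199.NSmFi24
import Cfsg.Agent.H199.AbFi22
import Cfsg.Agent.H199.AbExt
import Cfsg.Agent.H837.Fi24Odd

/-!
# S2501, the row `Fi24'` (helper199)
-/

set_option autoImplicit false
set_option maxRecDepth 100000

namespace Cfsg.Agent.H199.AbFi24

open Subgroup Cfsg Cfsg.Agent.H199.AbTool Cfsg.Agent.H498.Ab Cfsg.Agent.H199.AbExt
open Cfsg.Spor Cfsg.Agent.R01 Cfsg.Agent.R08 Cfsg.Agent.R08.FiTwentyFour
open Cfsg.Agent.R08.TetTwo Cfsg.Agent.R08.TetThree Cfsg.Agent.R08.TetBasic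
open Cfsg.Agent.CTwoTab.FiTF
open Cfsg.Agent.H199.NSmFi24 (finite' card_Fi24p)

local notation "Pr" => Cfsg.Agent.R08.TetFi24A.At

theorem le_N {a b : Fi24} (P : Pr a b) : AbLE (2 * 40117) ↥(N a b) := by
  have := finite_Fi24
  have hc := OddHalf.D4.Spor.FiTF.card_Cab P
  have e := quoEquivFi P
  have hZ : Nat.card ↥(center ↥(Cab a b)) = 2 := by
    have h1 := Subgroup.card_eq_card_quotient_mul_card_subgroup (center ↥(Cab a b))
    rw [Nat.card_congr e.toEquiv, S1696.result.2, hc] at h1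
    omega
  refine AbLE.congr (eN a b).symm (center_quot hZ ?_)
  exact (AbFi22.ab3.congr e.symm).abLE (by rw [Nat.card_congr e.toEquiv, S1696.result.2]; norm_num)

/-- elements of prime order `≥ 5` -/
theorem five {A : Subgroup Spor.Fi24'} (hA : IsMulCommutative A) {r : ℕ} (hr : r.Prime) (h5 : 5 ≤ r)
    (hd : r ∣ Nat.card ↥A) : Nat.card ↥A ≤ 1814400 := by
  have := finite_Fi24
  have := finite'
  obtain ⟨x, hx, hxA, -⟩ := exists_le_centralizer hA hr hd
  have hx' : orderOf (x : Fi24) = r := by rw [Subgroup.orderOf_coe, hx]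
  have h1 := Cfsg.Agent.H187.FiOdd.card_cent_le hr h5 hx'
  refine le_trans ?_ h1
  have h2 : Nat.card ↥(A.map (commutator Fi24).subtype) = Nat.card ↥A :=
    card_map_of_injective (commutator Fi24).subtype_injective
  rw [← h2]
  refine Subgroup.card_le_of_le ?_
  rintro _ ⟨y, hy, rfl⟩
  rw [mem_centralizer_singleton_iff]
  exact congrArg Subtype.val (comm_iff.1 hA y hy x hxA)

theorem card_cent_z0 : Nat.card ↥(centralizer ({z0} : Set Spor.Fi24')) ∣ 321052999680 := by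
  have := finite_Fi24
  rw [← Cfsg.Agent.KFacts.FiTF.Order.card]
  let f : ↥(centralizer ({z0} : Set Spor.Fi24')) →* ↥(centralizer ({KFacts.FiTF.Defs.z} : Set Spor.Fi24)) :=
    ((commutator Fi24).subtype.comp (centralizer ({z0} : Set Spor.Fi24')).subtype).codRestrict _ (by
      intro x
      rw [mem_centralizer_singleton_iff]
      exact congrArg Subtype.val (mem_centralizer_singleton_iff.1 x.2))
  refine Subgroup.card_dvd_of_injective f ?_
  intro x y h
  have h1 := (Subtype.mk.injEq _ _ _ _).mp h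
  exact Subtype.ext (Subtype.ext h1)

theorem card_Fi24p_dvd : (2 : ℕ) ^ 22 ∣ Nat.card ↥(centralizer ({z0} : Set Spor.Fi24')) → False := by
  intro h
  have := (h.trans (Subgroup.card_subgroup_dvd_card _))
  rw [card_Fi24p] at this
  revert this
  norm_num

/-- abelian subgroups of `C(z)` -/
theorem le_z0 {A : Subgroup Spor.Fi24'} (hA : IsMulCommutative A) (hle : A ≤ centralizer ({z0} : Set Spor.Fi24')) :
    Nat.card ↥A ≤ 107000000 := by
  have := finite_Fi24
  have := finite'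
  by_cases h : ∃ r : ℕ, r.Prime ∧ 5 ≤ r ∧ r ∣ Nat.card ↥A
  · obtain ⟨r, hr, h5, hd⟩ := h
    exact (five hA hr h5 hd).trans (by norm_num)
  have nd : ∀ r : ℕ, r.Prime → 5 ≤ r → ¬ r ∣ Nat.card ↥A := fun r hr h5 hd => h ⟨r, hr, h5, hd⟩
  obtain ⟨k, hk, hkd⟩ := exists_mul hle R0_le R0_norm
  have hF := KFacts.FiTF.frame
  have hB : Nat.card ↥(A ⊓ R0 : Subgroup Spor.Fi24') ^ 2 ≤ 2 * Nat.card ↥R0 := by
    refine ext_bound (z := z0) (Subtype.ext hF.zz) z0_mem ?_ ?_ ?_ inf_le_right ?_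
    · exact fun r hr => mem_centralizer_singleton_iff.1 (R0_le hr)
    · intro r hr s hs
      rcases hF.com _ (mem_subgroupOf.1 hr) _ (mem_subgroupOf.1 hs) with h1 | h1
      · exact Or.inl (Subtype.ext h1)
      · exact Or.inr (Subtype.ext h1)
    · intro r _ h1
      exact R0_cent r h1
    · exact fun a ha b hb => comm_iff.1 hA a ha.1 b hb.1
  rw [R0_card] at hB hkd
  have hB' : Nat.card ↥(A ⊓ R0 : Subgroup Spor.Fi24') ≤ 128 := by
    by_contra hcon
    have := Nat.pow_le_pow_left (show 129 ≤ _ from not_le.1 hcon) 2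
    omega
  -- the order of `k`
  have hk0 : k ≠ 0 := by
    rintro rfl
    rw [mul_zero] at hk
    exact Nat.card_pos.ne' hk
  have hkA : k ∣ Nat.card ↥A := ⟨_, by rw [hk, mul_comm]⟩
  have h1 : k ∣ 2 ^ 9 * (5 ^ 1 * (7 ^ 1 * 3 ^ 7)) := by
    have h2 := hkd.trans card_cent_z0
    rw [show (321052999680 : ℕ) = 2 ^ 9 * (5 ^ 1 * (7 ^ 1 * 3 ^ 7)) * 2 ^ 13 by norm_num] at h2
    exact Nat.dvd_of_mul_dvd_mul_right (by norm_num) h2
  have h3 : ¬ 2 ^ (8 + 1) ∣ k := by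
    intro h2
    apply card_Fi24p_dvd
    refine dvd_trans ?_ hkd
    rw [show (2 : ℕ) ^ 22 = 2 ^ (8 + 1) * 2 ^ 13 by norm_num]
    exact Nat.mul_dvd_mul_right h2 _
  have h4 := dvd_of_not_pow Nat.prime_two hk0 h3 h1
  have h5 : k ∣ 5 ^ 1 * (7 ^ 1 * (2 ^ 8 * 3 ^ 7)) := h4.trans (by norm_num)
  have h6 := dvd_of_not_dvd Nat.prime_five (fun h => nd 5 (by norm_num) (by norm_num) (h.trans hkA)) h5
  have h7 := dvd_of_not_dvd (by norm_num) (fun h => nd 7 (by norm_num) (by norm_num) (h.trans hkA)) h6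
  have h8 := Nat.le_of_dvd (by norm_num) h7
  rw [hk]
  exact (Nat.mul_le_mul hB' h8).trans (by norm_num)

/-- abelian subgroups of the centralizers of the involutions -/
theorem even {t : Spor.Fi24'} (ht : orderOf t = 2) {A : Subgroup Spor.Fi24'} (hA : IsMulCommutative A)
    (hle : A ≤ centralizer ({t} : Set Spor.Fi24')) : Nat.card ↥A ≤ 107000000 := by
  have := finite_Fi24
  have := finite'
  rcases classes t ht with ⟨a, b, P, h1⟩ | ⟨g, rfl⟩
  · refine le_trans (apply (of_two (D := N a b) ?_ (le_N P)) hA hle) (by norm_num)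
    intro x hx y hy nx ny
    have key : ∀ w ∈ centralizer ({t} : Set Spor.Fi24'), w ∉ N a b →
        (w : Fi24) * a * (w : Fi24)⁻¹ = b ∧ (w : Fi24) * b * (w : Fi24)⁻¹ = a := by
      intro w hw nw
      rcases fix_or_swap P h1 hw with h2 | h2
      · exfalso
        apply nw
        rw [mem_N, mem_Cab]
        exact ⟨mem_commutator_iff.1 w.2, mul_inv_eq_iff_eq_mul.1 h2.1, mul_inv_eq_iff_eq_mul.1 h2.2⟩
      · exact h2
    obtain ⟨x1, x2⟩ := key x hx nx
    obtain ⟨y1, y2⟩ := key y hy ny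
    have e1 : (x : Fi24)⁻¹ * b * (x : Fi24) = a := by rw [← x1]; group
    have e2 : (x : Fi24)⁻¹ * a * (x : Fi24) = b := by rw [← x2]; group
    rw [mem_N, mem_Cab]
    refine ⟨mem_commutator_iff.1 (x⁻¹ * y : Spor.Fi24').2, ?_, ?_⟩
    · show (x : Fi24)⁻¹ * (y : Fi24) * a = a * ((x : Fi24)⁻¹ * (y : Fi24))
      calc (x : Fi24)⁻¹ * (y : Fi24) * a = (x : Fi24)⁻¹ * ((y : Fi24) * a * (y : Fi24)⁻¹) * (y : Fi24) := by group
        _ = ((x : Fi24)⁻¹ * b * (x : Fi24)) * ((x : Fi24)⁻¹ * (y : Fi24)) := by rw [y1]; group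
        _ = _ := by rw [e1]
    · show (x : Fi24)⁻¹ * (y : Fi24) * b = b * ((x : Fi24)⁻¹ * (y : Fi24))
      calc (x : Fi24)⁻¹ * (y : Fi24) * b = (x : Fi24)⁻¹ * ((y : Fi24) * b * (y : Fi24)⁻¹) * (y : Fi24) := by group
        _ = ((x : Fi24)⁻¹ * a * (x : Fi24)) * ((x : Fi24)⁻¹ * (y : Fi24)) := by rw [y2]; group
        _ = _ := by rw [e2]
  · -- conjugate into `C(z)`
    have h1 : Nat.card ↥(A.map (MulAut.conj g⁻¹).toMonoidHom) = Nat.card ↥A :=
      card_map_of_injective (MulAut.conj g⁻¹).injective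
    rw [← h1]
    refine le_z0 ?_ ?_
    · rw [comm_iff]
      rintro _ ⟨x, hx, rfl⟩ _ ⟨y, hy, rfl⟩
      rw [← map_mul, comm_iff.1 hA x hx y hy, map_mul]
    · rintro _ ⟨x, hx, rfl⟩
      rw [mem_centralizer_singleton_iff]
      have h2 := mem_centralizer_singleton_iff.1 (hle hx)
      show g⁻¹ * x * g⁻¹⁻¹ * z0 = z0 * (g⁻¹ * x * g⁻¹⁻¹)
      calc g⁻¹ * x * g⁻¹⁻¹ * z0 = g⁻¹ * (x * (g * z0 * g⁻¹)) * g := by group
        _ = g⁻¹ * ((g * z0 * g⁻¹) * x) * g := by rw [h2]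
        _ = _ := by group

/-- **The row `Fi24'` of S2501.** -/
theorem ab3 : Ab3 Spor.Fi24' := by
  have := finite_Fi24
  have := finite'
  intro A hA
  rw [card_Fi24p]
  have h : Nat.card ↥A ≤ 107000000 := by
    by_cases h2 : 2 ∣ Nat.card ↥A
    · obtain ⟨t, ht, -, hle⟩ := exists_le_centralizer hA Nat.prime_two h2
      exact even ht hA hle
    · exact H837.Fi24Odd.odd hA h2
  calc Nat.card ↥A ^ 3 ≤ 107000000 ^ 3 := Nat.pow_le_pow_left h 3
    _ < _ := by norm_num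

theorem ab3_Fi24p {G : Type*} [Group G] [Finite G] [IsSimpleGroup G] (h : Cfsg.Spor.IsoFi24' G) : Ab3 G := by
  obtain ⟨e⟩ := h
  exact ab3.congr e.symm

end Cfsg.Agent.H199.AbFi24
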