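import Cfsg.Agent.H199.AbM
import Cfsg.Agent.H199.AbFi24
import Cfsg.Agent.H341.Ab.CoOne
import Cfsg.Agent.R01.Lifts

/-!
# The row `B` of S2501: subgroups of `C(z) ∩ C(v)` in the Monster, commutators in `⟨v⟩` (helper199)

* `card_zt` : such a subgroup has order at most `160563200000`
* `three''` : elements of order 3 of the Monster
* `exists_lift` : abelian groups of odd order and central extensions by a group of order two
-/

set_option autoImplicit false
set_option maxRecDepth 100000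

namespace Cfsg.Agent.H199.AbBOne

open Cfsg Cfsg.Agent.MonsterX Cfsg.Agent.MonsterX.InstData Cfsg.Agent.MonsterX.MainPack Cfsg.Agent.MonsterU
open Cfsg.Agent.MonsterP Cfsg.Agent.MonsterN Cfsg.Agent.LThreeMB
open Cfsg.Agent.MonsterX.MainBasic Cfsg.Agent.MonsterX.MainSimple Cfsg.Agent.MonsterX.Model
open Cfsg.Agent.MonsterU.Lam2 Cfsg.Agent.MonsterU.TwoCls
open Cfsg.Agent.BpSpor.MBigModel Cfsg.Agent.H199.NSmMon Cfsg.Agent.H199.AbMon
open Cfsg.Agent.H498.Ab Cfsg.Agent.H199.AbTool Cfsg.Agent.H199.AbExt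
open Subgroup

/-- `Q = O₂(C(z))` -/
noncomputable abbrev Q : Subgroup MG := Cfsg.Agent.MonsterX.KDone.K.ι.range

theorem Q_le : Q ≤ centralizer ({zz} : Set MG) := fun x hx => mem_centralizer_singleton_iff.2 (chart.large.comm_z x hx)

theorem card_ker : Nat.card ↥pi.ker = 2 ^ 25 := by
  have := finite
  have h3 := Subgroup.card_eq_card_quotient_mul_card_subgroup pi.ker
  rw [Nat.card_congr (QuotientGroup.quotientKerEquivOfSurjective pi chart.pi_surj).toEquiv, card_cent_z,
    Cfsg.Agent.S0399.result.2] at h3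
  have h4 : (2 ^ 25 : ℕ) * 4157776806543360000 = Nat.card ↥pi.ker * 4157776806543360000 := by
    rw [h3, mul_comm]
  exact (Nat.eq_of_mul_eq_mul_right (by norm_num) h4).symm

theorem card_Q : Nat.card ↥Q = 2 ^ 25 := by
  rw [← card_ker]
  refine Nat.card_congr
    { toFun := fun x => ⟨⟨x, Q_le x.2⟩, (chart.pi_eq_one _).2 x.2⟩
      invFun := fun x => ⟨((x : ↥(centralizer ({zz} : Set MG))) : MG), (chart.pi_eq_one _).1 x.2⟩
      left_inv := fun x => rfl
      right_inv := fun x => rfl }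

/-- an abelian subgroup of `Q` -/
theorem card_le_Q {B : Subgroup MG} (hB : B ≤ Q) (hc : ∀ a ∈ B, ∀ b ∈ B, a * b = b * a) : Nat.card ↥B ≤ 2 ^ 13 := by
  have := finite
  have h1 : Nat.card ↥B ^ 2 ≤ 2 * Nat.card ↥Q := by
    refine ext_bound (z := zz) zz_sq chart.large.z_mem (fun r hr => chart.large.comm_z r hr) ?_ ?_ hB hc
    · intro r hr s hs
      have h2 : KChart.eta Cfsg.Agent.MonsterX.KDone.lft (r * s) = KChart.eta Cfsg.Agent.MonsterX.KDone.lft (s * r) := by
        rw [chart.eta_mul r hr s hs, chart.eta_mul s hs r hr, add_comm]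
      rcases (chart.eta_eq (Q.mul_mem hr hs) (Q.mul_mem hs hr)).1 h2 with h3 | h3
      · exact Or.inl h3
      · exact Or.inr (h3.trans (chart.large.comm_z _ (Q.mul_mem hs hr)))
    · intro r hr h2
      exact chart.large.cent r hr h2
  rw [card_Q] at h1
  by_contra hcon
  have h2 := Nat.pow_le_pow_left (show 2 ^ 13 + 1 ≤ Nat.card ↥B by omega) 2
  norm_num at h1 h2
  omega

/-- **Subgroups of `C(z) ∩ C(v)` with commutators in `⟨v⟩`.** -/
theorem card_zt' (hC : Ab3 Spor.Co1) {v : MG} (hv : v ≠ 1) (hvz : v ≠ zz) (hvv : v * v = 1) {P : Subgroup MG}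
    (hPz : P ≤ centralizer ({zz} : Set MG)) (hPv : P ≤ centralizer ({v} : Set MG)) (hvP : v ∈ P)
    (hcomm : ∀ a ∈ P, ∀ b ∈ P, a * b = b * a ∨ a * b = b * a * v) : Nat.card ↥P ≤ 160563200000 := by
  have := finite
  have hcCo : Nat.card Spor.Co1 = 4157776806543360000 := Cfsg.Agent.S0399.result.2
  have hfCo : Finite Spor.Co1 := Nat.finite_of_card_ne_zero (by rw [hcCo]; norm_num)
  let f : ↥P →* Spor.Co1 := pi.comp (inclusion hPz)
  have h1 : Nat.card ↥P = Nat.card ↥f.range * Nat.card ↥f.ker := by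
    rw [Subgroup.card_eq_card_quotient_mul_card_subgroup f.ker]
    congr 1
    exact Nat.card_congr (QuotientGroup.quotientKerEquivRange f).toEquiv
  have h2 : Nat.card ↥f.ker ≤ 2 ^ 13 := by
    have h3 : Nat.card ↥f.ker ≤ Nat.card ↥(P ⊓ Q : Subgroup MG) := by
      refine Nat.card_le_card_of_injective (fun y : ↥f.ker => (⟨((y : ↥P) : MG), (y : ↥P).2, ?_⟩ : ↥(P ⊓ Q : Subgroup MG))) ?_
      · exact (chart.pi_eq_one _).1 (MonoidHom.mem_ker.1 y.2)
      · intro a b hab
        have h5 : ((a : ↥P) : MG) = ((b : ↥P) : MG) := congrArg (fun t : ↥(P ⊓ Q : Subgroup MG) => (t : MG)) hab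
        exact Subtype.ext (Subtype.ext h5)
    refine h3.trans (card_le_Q inf_le_right ?_)
    intro a ha b hb
    rcases hcomm a ha.1 b hb.1 with h | h
    · exact h
    · exfalso
      have h2 : KChart.eta Cfsg.Agent.MonsterX.KDone.lft (a * b) = KChart.eta Cfsg.Agent.MonsterX.KDone.lft (b * a) := by
        rw [chart.eta_mul a ha.2 b hb.2, chart.eta_mul b hb.2 a ha.2, add_comm]
      rcases (chart.eta_eq (Q.mul_mem ha.2 hb.2) (Q.mul_mem hb.2 ha.2)).1 h2 with h3 | h3
      · rw [h3] at h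
        exact hv (mul_eq_left.1 h.symm)
      · rw [h3] at h
        exact hvz (mul_left_cancel h).symm
  have hvz' : v ∈ centralizer ({zz} : Set MG) := hPz hvP
  have h3 : Nat.card ↥f.range ≤ 19600000 := by
    have hc : ∀ a ∈ f.range, ∀ b ∈ f.range, a * b = b * a ∨ a * b = b * a * pi ⟨v, hvz'⟩ := by
      rintro _ ⟨a, rfl⟩ _ ⟨b, rfl⟩
      rcases hcomm a a.2 b b.2 with h | h
      · left
        rw [← map_mul, ← map_mul]
        congr 1
        exact Subtype.ext h
      · right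
        have h4 : a * b = b * a * ⟨v, hvP⟩ := Subtype.ext h
        rw [← map_mul, h4, map_mul, map_mul]
        rfl
    by_cases hs : pi ⟨v, hvz'⟩ = 1
    · have h4 : IsMulCommutative ↥f.range := by
        rw [comm_iff]
        intro a ha b hb
        rcases hc a ha b hb with h | h
        · exact h
        · rw [h, hs, mul_one]
      exact ((hC.abLE (b := 1610000) (by rw [hcCo]; norm_num)) _ h4).trans (by norm_num)
    · refine H341.AbCo.co1_quot (s := pi ⟨v, hvz'⟩) ?_ ?_ hc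
      · have : Fact (Nat.Prime 2) := ⟨Nat.prime_two⟩
        refine orderOf_eq_prime ?_ hs
        rw [pow_two, ← map_mul]
        have h5 : (⟨v, hvz'⟩ : ↥(centralizer ({zz} : Set MG))) * ⟨v, hvz'⟩ = 1 := Subtype.ext hvv
        rw [h5, map_one]
      · rintro _ ⟨a, rfl⟩
        have h5 : inclusion hPz a * ⟨v, hvz'⟩ = ⟨v, hvz'⟩ * inclusion hPz a :=
          Subtype.ext (mem_centralizer_singleton_iff.1 (hPv a.2))
        show pi (inclusion hPz a) * pi ⟨v, hvz'⟩ = pi ⟨v, hvz'⟩ * pi (inclusion hPz a)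
        rw [← map_mul, h5, map_mul]
  rw [h1]
  exact (Nat.mul_le_mul h3 h2).trans (by norm_num)

/-- the same for a conjugate of `z` -/
theorem card_zt (hC : Ab3 Spor.Co1) {w v : MG} (hw : IsConj zz w) (hv : v ≠ 1) (hvw : v ≠ w) (hvv : v * v = 1)
    {P : Subgroup MG} (hPw : P ≤ centralizer ({w} : Set MG)) (hPv : P ≤ centralizer ({v} : Set MG)) (hvP : v ∈ P)
    (hcomm : ∀ a ∈ P, ∀ b ∈ P, a * b = b * a ∨ a * b = b * a * v) : Nat.card ↥P ≤ 160563200000 := by
  have := finite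
  obtain ⟨g, rfl⟩ := isConj_iff.1 hw
  have hc : Nat.card ↥(P.map (MulAut.conj g⁻¹).toMonoidHom) = Nat.card ↥P :=
    card_map_of_injective (MulAut.conj g⁻¹).injective
  rw [← hc]
  have e : ∀ y : MG, (MulAut.conj g⁻¹).toMonoidHom y = g⁻¹ * y * g := by
    intro y
    show g⁻¹ * y * g⁻¹⁻¹ = _
    rw [inv_inv]
  refine card_zt' hC (v := g⁻¹ * v * g) ?_ ?_ ?_ ?_ ?_ ?_ ?_
  · intro h2
    apply hv
    calc v = g * (g⁻¹ * v * g) * g⁻¹ := by group
      _ = 1 := by rw [h2]; group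
  · intro h2
    apply hvw
    rw [← h2]
    group
  · calc g⁻¹ * v * g * (g⁻¹ * v * g) = g⁻¹ * (v * v) * g := by group
      _ = 1 := by rw [hvv]; group
  · rintro _ ⟨a, ha, rfl⟩
    have h2 := mem_centralizer_singleton_iff.1 (hPw ha)
    rw [e, mem_centralizer_singleton_iff]
    calc g⁻¹ * a * g * zz = g⁻¹ * (a * (g * zz * g⁻¹)) * g := by group
      _ = g⁻¹ * ((g * zz * g⁻¹) * a) * g := by rw [h2]
      _ = _ := by group
  · rintro _ ⟨a, ha, rfl⟩
    have h2 := mem_centralizer_singleton_iff.1 (hPv ha)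
    rw [e, mem_centralizer_singleton_iff]
    calc g⁻¹ * a * g * (g⁻¹ * v * g) = g⁻¹ * (a * v) * g := by group
      _ = g⁻¹ * (v * a) * g := by rw [h2]
      _ = _ := by group
  · exact ⟨v, hvP, e v⟩
  · rintro _ ⟨a, ha, rfl⟩ _ ⟨b, hb, rfl⟩
    rw [e, e]
    rcases hcomm a ha b hb with h | h
    · left
      calc g⁻¹ * a * g * (g⁻¹ * b * g) = g⁻¹ * (a * b) * g := by group
        _ = g⁻¹ * (b * a) * g := by rw [h]
        _ = _ := by group
    · right
      calc g⁻¹ * a * g * (g⁻¹ * b * g) = g⁻¹ * (a * b) * g := by group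
        _ = g⁻¹ * (b * a * v) * g := by rw [h]
        _ = _ := by group

/-! ### Elements of order three, again -/

/-- **The elements of order 3 commuting with `z`.** -/
theorem three_in'' {x : centralizer ({zz} : Set MG)} (hx : orderOf x = 3) :
    AbLE 1000000000 ↥(centralizer ({(x : MG)} : Set MG)) ∨
      Nat.card ↥(centralizer ({(x : MG)} : Set MG)) ∣ 3 ^ 13 * (448345497600 * 2) := by
  have := finite
  have := simple
  have I := CoOneFin.coOne
  have htr := KPair.trNe Cfsg.Agent.MonsterX.KDone.lft LThreeB.Row.cent (LThreeMBTr.traceNe Cfsg.Agent.MonsterX.KDone.lft LThreeMBTr.TensK.tens)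
  have hxo : orderOf (x : MG) = 3 := by rw [Subgroup.orderOf_coe, hx]
  rcases I.ranks (pi x) (orderOf_pi chart hx) with h1 | h1 | h1 | h1
  · exact Or.inr (three_zero' hx h1)
  · right
    obtain ⟨x₀, u, g, hx₀, hfr₀, huz, hux, hne, hg⟩ :=
      KPair.hasPair Cfsg.Agent.MonsterX.KDone.lft LThreeB.Row.cent PreUniq.MonRow.second COct.octPair
    obtain ⟨k, hk⟩ := conj_six chart htr I.ranks I.six
      (fun x hx h2 => ⟨(good_of_inputs chart I hx h2 : Good.{0} _).simple, (good_of_inputs chart I hx h2 : Good.{0} _).nc⟩)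
      hx₀ hfr₀ huz hux hne hg hx h1
    rw [← BpSpor.card_cent_of_conj hk]
    exact three_zero' hx₀ hfr₀
  · left
    obtain ⟨e⟩ := LThreeB.isoTh_of_inputs chart I hx h1
    have hc : Nat.card (XX (x : MG)) = 90745943887872000 := by rw [Nat.card_congr e.toEquiv, Cfsg.Agent.S1700.result.2]
    have hs : IsSimpleGroup (XX (x : MG)) := (MulEquiv.isSimpleGroup_congr e).2 Cfsg.Agent.S1700.result.1
    have h2 : AbLE 302000000 (XX (x : MG)) := of_simple hs
      (not_comm_of_card hs hc (by norm_num)) (by rw [hc]; norm_num)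
    refine (abLE_XX h2).mono ?_
    rw [hxo]
    norm_num
  · left
    obtain ⟨e⟩ := LThreeB.isoFi_of_inputs chart I hx h1
    have h2 : AbLE 108000000 Spor.Fi24' := H199.AbFi24.ab3.abLE (by rw [Cfsg.Agent.S1698.result.2]; norm_num)
    refine (abLE_XX (h2.congr e.symm)).mono ?_
    rw [hxo]
    norm_num

/-- **The elements of order 3 commuting with a conjugate of `z`.** -/
theorem three'' {x : MG} (hx : orderOf x = 3) (he : Ev x) {A : Subgroup MG} (hA : IsMulCommutative A)
    (hle : A ≤ centralizer ({x} : Set MG)) :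
    Nat.card ↥A ≤ 1000000000 ∨ Nat.card ↥A ∣ 3 ^ 13 * (448345497600 * 2) := by
  have := finite
  obtain ⟨g, hg⟩ := he
  have h1 : (g⁻¹ * x * g) * zz = zz * (g⁻¹ * x * g) := by
    calc (g⁻¹ * x * g) * zz = g⁻¹ * (x * (g * zz * g⁻¹)) * g := by group
      _ = g⁻¹ * ((g * zz * g⁻¹) * x) * g := by rw [hg]
      _ = zz * (g⁻¹ * x * g) := by group
  have hx' : orderOf (⟨g⁻¹ * x * g, mem_centralizer_singleton_iff.2 h1⟩ : ↥(centralizer ({zz} : Set MG))) = 3 := by
    rw [Subgroup.orderOf_mk, ← hx]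
    have := MulEquiv.orderOf_eq (MulAut.conj g⁻¹) x
    rw [MulAut.conj_apply, inv_inv] at this
    exact this
  have hc : Nat.card ↥(A.map (MulAut.conj g⁻¹).toMonoidHom) = Nat.card ↥A :=
    Subgroup.card_map_of_injective (MulAut.conj g⁻¹).injective
  have hle' : A.map (MulAut.conj g⁻¹).toMonoidHom ≤ centralizer ({g⁻¹ * x * g} : Set MG) := by
    rintro _ ⟨a, ha, rfl⟩
    rw [mem_centralizer_singleton_iff]
    have h2 := mem_centralizer_singleton_iff.1 (hle ha)
    show g⁻¹ * a * g⁻¹⁻¹ * (g⁻¹ * x * g) = g⁻¹ * x * g * (g⁻¹ * a * g⁻¹⁻¹)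
    calc g⁻¹ * a * g⁻¹⁻¹ * (g⁻¹ * x * g) = g⁻¹ * (a * x) * g := by group
      _ = g⁻¹ * (x * a) * g := by rw [h2]
      _ = _ := by group
  rw [← hc]
  rcases three_in'' hx' with h | h
  · exact Or.inl (apply h (comm_map _ hA) hle')
  · exact Or.inr ((Subgroup.card_dvd_of_le hle').trans h)

/-! ### Lifting -/

/-- **Abelian groups of odd order lift.** -/
theorem exists_lift {H K : Type*} [Group H] [Finite H] [Group K] {q : H →* K} {τ : H} (hq : R01.Lifts.Ext q τ)
    {A : Subgroup K} (hA : IsMulCommutative A) (h2 : ¬ 2 ∣ Nat.card ↥A) :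
    ∃ B : Subgroup H, IsMulCommutative B ∧ Nat.card ↥B = Nat.card ↥A := by
  have hfK : Finite K := Finite.of_surjective q hq.surj
  let f : ↥(A.comap q) →* ↥A := q.subgroupComap A
  have hf : Function.Surjective f := by
    rintro ⟨y, hy⟩
    obtain ⟨x, rfl⟩ := hq.surj y
    exact ⟨⟨x, hy⟩, rfl⟩
  have hker : ∀ x : ↥(A.comap q), f x = 1 ↔ (x : H) = 1 ∨ (x : H) = τ := by
    intro x
    rw [← hq.ker]
    constructor
    · intro h1
      exact congrArg Subtype.val h1
    · intro h1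
      exact Subtype.ext h1
  have hidx : f.ker.index = Nat.card ↥A := by
    rw [index_ker, MonoidHom.range_eq_top.2 hf]
    exact Nat.card_congr Subgroup.topEquiv.toEquiv
  have hk2 : IsPGroup 2 ↥f.ker := by
    intro x
    refine ⟨1, ?_⟩
    apply Subtype.ext
    apply Subtype.ext
    rcases (hker x).1 x.2 with h1 | h1
    · show (((x : ↥(A.comap q)) : H)) ^ 2 ^ 1 = 1
      rw [h1, one_pow]
    · show (((x : ↥(A.comap q)) : H)) ^ 2 ^ 1 = 1
      rw [h1, pow_one, pow_two, hq.zz]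
  have hcop : Nat.Coprime (Nat.card ↥f.ker) f.ker.index := by
    have : Fact (Nat.Prime 2) := ⟨Nat.prime_two⟩
    obtain ⟨k, hk⟩ := IsPGroup.iff_card.1 hk2
    rw [hidx, hk]
    exact ((Nat.Prime.coprime_iff_not_dvd Nat.prime_two).2 h2).pow_left k
  obtain ⟨S, hS⟩ := exists_right_complement'_of_coprime hcop
  have hSc : Nat.card ↥S = Nat.card ↥A := by rw [← hidx]; exact hS.symm.index_eq_card.symm
  refine ⟨S.map (A.comap q).subtype, ?_, ?_⟩
  · rw [comm_iff]
    rintro _ ⟨a, ha, rfl⟩ _ ⟨b, hb, rfl⟩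
    have h3 : f ((b * a)⁻¹ * (a * b)) = 1 := by
      rw [map_mul, map_inv, map_mul, map_mul, inv_mul_eq_one]
      exact hA.is_comm.comm _ _
    have h4 : (b * a)⁻¹ * (a * b) ∈ f.ker ⊓ S := ⟨h3, S.mul_mem (S.inv_mem (S.mul_mem hb ha)) (S.mul_mem ha hb)⟩
    rw [hS.disjoint.eq_bot, mem_bot, inv_mul_eq_one] at h4
    exact congrArg Subtype.val h4.symm
  · rw [card_map_of_injective (Subgroup.subtype_injective _), hSc]

end Cfsg.Agent.H199.AbBOne
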