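import Cfsg.Agent.H199.NSmB
import Cfsg.Agent.H199.AbBOne
import Cfsg.Agent.H332.Ab.RowTwE6

/-!
# S2501, the row `B` (helper199)
-/

set_option autoImplicit false
set_option maxRecDepth 100000

namespace Cfsg.Agent.H199.AbB

open Subgroup
open Cfsg Cfsg.Lie Cfsg.Agent.Bimonster Cfsg.Agent.BabyU Cfsg.Agent.TwoESix.Cover
open Cfsg.Agent.MonsterX.KSide Cfsg.Agent.MonsterX.KLift Cfsg.Agent.MonsterX.KModel
open Cfsg.Agent.MonsterX.Model Cfsg.Agent.MonsterX.MainPack Cfsg.Agent.MonsterX.MainSimple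
open Cfsg.Agent.MonsterX.MainBasic Cfsg.Agent.MonsterU.Assembly Cfsg.Agent.MonsterN Cfsg.Agent.MonsterN.Lit
open Cfsg.Agent.MonsterN.LitInst Cfsg.Agent.MonsterU.Lam2 Cfsg.Agent.MonsterU.TwoCls
open Cfsg.Agent.BabyComp Cfsg.Agent.BabyComp.Main Cfsg.Agent.BabyComp.BaseTwo Cfsg.Agent.R01.Lifts
open Cfsg.Agent.BpSpor.MBigModel Cfsg.Agent.H199.NSmMon Cfsg.Agent.H199.AbMon
open Cfsg.Agent.H498.Ab Cfsg.Agent.H199.AbTool Cfsg.Agent.H199.AbBOne

/-- `C` moves `a` inside a small set -/
theorem card_le_mul {G : Type*} [Group G] [Finite G] {C : Subgroup G} {a : G} {S : Set G} {k : ℕ}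
    (hS : ∀ x ∈ C, x * a * x⁻¹ ∈ S) (hk : S.ncard ≤ k) :
    Nat.card ↥C ≤ k * Nat.card ↥(C ⊓ centralizer ({a} : Set G) : Subgroup G) := by
  let f : (↥C ⧸ (centralizer ({a} : Set G)).subgroupOf C) → ↥S :=
    Quotient.lift (fun x : ↥C => (⟨(x : G) * a * (x : G)⁻¹, hS x x.2⟩ : ↥S)) (by
      intro x y hxy
      have hxy' : x⁻¹ * y ∈ (centralizer ({a} : Set G)).subgroupOf C := QuotientGroup.leftRel_apply.1 hxy
      rw [Subgroup.mem_subgroupOf, mem_centralizer_singleton_iff] at hxy'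
      apply Subtype.ext
      show (x : G) * a * (x : G)⁻¹ = (y : G) * a * (y : G)⁻¹
      have h3 : ((x⁻¹ * y : ↥C) : G) = (x : G)⁻¹ * (y : G) := rfl
      rw [h3] at hxy'
      calc (x : G) * a * (x : G)⁻¹ = (x : G) * (a * ((x : G)⁻¹ * (y : G))) * (y : G)⁻¹ := by group
        _ = (x : G) * (((x : G)⁻¹ * (y : G)) * a) * (y : G)⁻¹ := by rw [hxy']
        _ = _ := by group)
  have hf : Function.Injective f := by
    intro x y
    induction x using QuotientGroup.induction_on with
    | H x =>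
      induction y using QuotientGroup.induction_on with
      | H y =>
        intro hxy
        have hxy' : (x : G) * a * (x : G)⁻¹ = (y : G) * a * (y : G)⁻¹ := congrArg Subtype.val hxy
        rw [QuotientGroup.eq, Subgroup.mem_subgroupOf, mem_centralizer_singleton_iff]
        show (x : G)⁻¹ * (y : G) * a = a * ((x : G)⁻¹ * (y : G))
        calc (x : G)⁻¹ * (y : G) * a = (x : G)⁻¹ * ((y : G) * a * (y : G)⁻¹) * (y : G) := by group
          _ = (x : G)⁻¹ * ((x : G) * a * (x : G)⁻¹) * (y : G) := by rw [hxy']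
          _ = _ := by group
  have h1 : ((centralizer ({a} : Set G)).subgroupOf C).index ≤ k := (Nat.card_le_card_of_injective f hf).trans hk
  have h2 := ((centralizer ({a} : Set G)).subgroupOf C).index_mul_card
  have h3 : Nat.card ↥((centralizer ({a} : Set G)).subgroupOf C) =
      Nat.card ↥(C ⊓ centralizer ({a} : Set G) : Subgroup G) := by
    rw [← Subgroup.inf_subgroupOf_right, inf_comm]
    exact Nat.card_congr (Subgroup.subgroupOfEquivOfLe inf_le_left).toEquiv
  rw [← h2, h3]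
  exact Nat.mul_le_mul_right _ h1

/-- the preimage of a subgroup -/
theorem two_mul_card_le {H K : Type*} [Group H] [Finite H] [Group K] {q : H →* K} {τ : H} (hq : Ext q τ)
    (A : Subgroup K) : 2 * Nat.card ↥A ≤ Nat.card ↥(A.comap q) := by
  have hfK : Finite K := Finite.of_surjective q hq.surj
  let f : ↥(A.comap q) →* ↥A := q.subgroupComap A
  have hf : Function.Surjective f := by
    rintro ⟨y, hy⟩
    obtain ⟨x, rfl⟩ := hq.surj y
    exact ⟨⟨x, hy⟩, rfl⟩
  have hker : ∀ x : ↥(A.comap q), f x = 1 ↔ (x : H) = 1 ∨ (x : H) = τ := by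
    intro x
    rw [← hq.ker]
    constructor
    · intro h1
      exact congrArg Subtype.val h1
    · intro h1
      exact Subtype.ext h1
  rw [← Nat.card_congr (QuotientGroup.quotientKerEquivOfSurjective f hf).toEquiv,
    Subgroup.card_eq_card_quotient_mul_card_subgroup f.ker, mul_comm]
  refine Nat.mul_le_mul_left _ ?_
  have hτ : τ ∈ A.comap q := by
    rw [mem_comap, hq.mapz]
    exact one_mem _
  let g : Bool → ↥f.ker := fun b => if b then ⟨⟨τ, hτ⟩, (hker _).2 (Or.inr rfl)⟩ else 1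
  have hg : Function.Injective g := by
    have h1 : g true ≠ g false := by
      intro h1
      have h2 : ((g true : ↥(A.comap q)) : H) = (((g false : ↥f.ker) : ↥(A.comap q)) : H) := by rw [h1]
      exact hq.zne h2
    intro a b hab
    rcases a with _ | _ <;> rcases b with _ | _
    · rfl
    · exact absurd hab.symm h1
    · exact absurd hab h1
    · rfl
  have h3 := Nat.card_le_card_of_injective g hg
  rwa [Nat.card_eq_fintype_card (α := Bool), Fintype.card_bool] at h3

/-- **The centralizer of a transposition.** -/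
theorem le_t {s : Spor.BabyMonster} (hs : IsConj s (PresentedGroup.of Spor.BabyMonster.Gen.t1 : Spor.BabyMonster)) :
    AbLE 170000000 ↥(centralizer ({s} : Set Spor.BabyMonster)) := by
  have := CTwoTab.BInst.finite_B
  obtain ⟨K, iK, iF, hK, t, X₀, σ, H, ht, hc⟩ := CTwoTab.BInst.exists_sec
  refine AbTool.conj (s := t) (hs.trans ht.symm) ?_
  have hcE := Cfsg.Agent.BM.HBFinal.card_E K hK
  have hfE : Finite (twistedE6 K 2) := Nat.finite_of_card_ne_zero (by rw [hcE]; norm_num)
  have hE3 : Ab3 (twistedE6 K 2) :=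
    H332.Ab.RowTwE6.twE6 K 2 ⟨2, 1, Nat.prime_two.prime, one_pos, pow_one 2⟩ (by rw [hK]; norm_num)
  have hE0 : AbLE 42500000 (twistedE6 K 2) := hE3.abLE (by rw [hcE]; norm_num)
  have hker : Nat.card ↥σ.ker ≤ 2 := by
    classical
    let f : ↥σ.ker → Bool := fun x => decide (((x : ↥X₀) : Spor.BabyMonster) = 1)
    have hf : Function.Injective f := by
      intro x y hxy
      have h1 : (((x : ↥X₀) : Spor.BabyMonster) = 1) ↔ (((y : ↥X₀) : Spor.BabyMonster) = 1) := by
        simpa only [f, decide_eq_decide] using hxy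
      apply Subtype.ext
      apply Subtype.ext
      rcases (H.ker _).1 x.2 with hx | hx
      · rw [hx, h1.1 hx]
      · rcases (H.ker _).1 y.2 with hy | hy
        · rw [hy, h1.2 hy]
        · rw [hx, hy]
    have h3 := Nat.card_le_card_of_injective f hf
    rwa [Nat.card_eq_fintype_card (α := Bool), Fintype.card_bool] at h3
  have hX : AbLE 85000000 ↥X₀ := (of_hom' σ hE0 hker).mono (by norm_num)
  have hle : X₀ ≤ centralizer ({t} : Set Spor.BabyMonster) := fun m hm =>
    mem_centralizer_singleton_iff.2 (H.comm m hm)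
  have hX' : AbLE 85000000 ↥(X₀.subgroupOf (centralizer ({t} : Set Spor.BabyMonster))) :=
    hX.congr (subgroupOfEquivOfLe hle).symm
  refine (AbLE.of_index _ hX').mono ?_
  have h1 : (X₀.subgroupOf (centralizer ({t} : Set Spor.BabyMonster))).index ≤ 2 := by
    have h2 := (X₀.subgroupOf (centralizer ({t} : Set Spor.BabyMonster))).card_mul_index
    rw [hc, Nat.card_congr (subgroupOfEquivOfLe hle).toEquiv] at h2
    have h3 := Subgroup.card_eq_card_quotient_mul_card_subgroup σ.ker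
    rw [Nat.card_congr (QuotientGroup.quotientKerEquivOfSurjective σ H.surj).toEquiv, hcE] at h3
    have h4 : 2 ≤ Nat.card ↥σ.ker := by
      have h5 : Nontrivial ↥σ.ker := by
        refine ⟨⟨⟨t, H.mem⟩, (H.ker _).2 (Or.inr rfl)⟩, 1, ?_⟩
        intro h6
        exact H.t_ne (congrArg (fun x : ↥σ.ker => ((x : ↥X₀) : Spor.BabyMonster)) h6)
      exact Finite.one_lt_card
    have h5 : Nat.card ↥σ.ker = 2 := le_antisymm hker h4
    rw [h5] at h3
    rw [h3] at h2
    norm_num at h2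
    omega
  calc _ ≤ 85000000 * 2 := Nat.mul_le_mul_left _ h1
    _ = _ := by norm_num

/-- **Abelian subgroups of the centralizers of the involutions of the Baby Monster.** -/
theorem le_inv (hC : Ab3 Spor.Co1) {u : Spor.BabyMonster} (hu : orderOf u = 2) :
    AbLE 160563200000 ↥(centralizer ({u} : Set Spor.BabyMonster)) := by
  refine CTwoTab.BInst.elim ?_
  intro K _ _ hK hF _ _ _ _ q y h π f₁ f₂ f₃ f₄ M₁' hq h10 DK Fc hz hcz hcd hL hc5 big hq5 hcard Bs' hr
  have hfM : Finite MG := finite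
  obtain ⟨M₁, B2⟩ := BaseTwo.exists_base2 hq5
  have Bs : Base (q (y 5)) M₁ := B2.toBase
  have hT := le_t hq5
  have huu : u * u = 1 := by rw [← pow_two, ← hu, pow_orderOf_eq_one]
  have hu1 : u ≠ 1 := by
    rintro rfl
    rw [orderOf_one] at hu
    omega
  -- lifts conjugate to `z`
  have lift : ∀ w : BB Cfsg.Agent.MonsterX.KDone.K Cfsg.Agent.MonsterX.KLinkInst.x₀, q w ≠ 1 →
      IsConj zz ((BB _ _).subtype w) → AbLE 160563200000 ↥(centralizer ({q w} : Set Spor.BabyMonster)) := by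
    intro w hw1 hzw A' hA'
    set A : Subgroup Spor.BabyMonster := A'.map (centralizer ({q w} : Set Spor.BabyMonster)).subtype with hAdef
    have hA : IsMulCommutative ↥A := comm_map _ hA'
    have hAc : Nat.card ↥A = Nat.card ↥A' := card_map_of_injective (Subgroup.subtype_injective _)
    have hAle : A ≤ centralizer ({q w} : Set Spor.BabyMonster) := map_subtype_le _
    rw [← hAc]
    -- the preimage
    have h1 := two_mul_card_le hq A
    have h2 : Nat.card ↥(A.comap q) ≤ 2 * Nat.card ↥(A.comap q ⊓ centralizer ({w} : Set _) : Subgroup _) := by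
      refine card_le_mul (S := {w, w * tb _ _}) (fun x hx => ?_) ?_
      · have h3 : q x * q w = q w * q x := mem_centralizer_singleton_iff.1 (hAle hx)
        rw [← map_mul, ← map_mul] at h3
        rcases hq.map_eq.1 h3 with h4 | h4
        · left
          rw [h4, mul_inv_cancel_right]
        · right
          show x * w * x⁻¹ = w * tb _ _
          rw [h4, mul_assoc, mul_assoc, ← hq.comm x⁻¹, mul_inv_cancel_left]
      · exact (Set.ncard_insert_le _ _).trans (by rw [Set.ncard_singleton])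
    set P : Subgroup ↥(BB Cfsg.Agent.MonsterX.KDone.K Cfsg.Agent.MonsterX.KLinkInst.x₀) :=
      A.comap q ⊓ centralizer ({w} : Set _) with hP
    have h3 : Nat.card ↥(P.map (BB Cfsg.Agent.MonsterX.KDone.K Cfsg.Agent.MonsterX.KLinkInst.x₀).subtype) = Nat.card ↥P :=
      card_map_of_injective (Subgroup.subtype_injective _)
    have htP : tb Cfsg.Agent.MonsterX.KDone.K Cfsg.Agent.MonsterX.KLinkInst.x₀ ∈ P := by
      refine ⟨?_, mem_centralizer_singleton_iff.2 (hq.comm w).symm⟩
      show q (tb _ _) ∈ A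
      rw [hq.mapz]
      exact one_mem A
    have h4 := card_zt hC hzw (v := (BB Cfsg.Agent.MonsterX.KDone.K Cfsg.Agent.MonsterX.KLinkInst.x₀).subtype
        (tb Cfsg.Agent.MonsterX.KDone.K Cfsg.Agent.MonsterX.KLinkInst.x₀)) (P := P.map (BB _ _).subtype) ?_ ?_ ?_ ?_ ?_ ?_ ?_
    · have h5 : Nat.card ↥P ≤ 160563200000 := h3.symm.le.trans h4
      omega
    · intro h2
      exact hq.zne (Subtype.ext h2)
    · intro h2
      apply hw1
      have h3 : tb Cfsg.Agent.MonsterX.KDone.K Cfsg.Agent.MonsterX.KLinkInst.x₀ = w := Subtype.ext h2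
      rw [← h3, hq.mapz]
    · exact congrArg Subtype.val hq.zz
    · rintro _ ⟨a, ha, rfl⟩
      exact mem_centralizer_singleton_iff.2 (congrArg Subtype.val (mem_centralizer_singleton_iff.1 ha.2))
    · rintro _ ⟨a, ha, rfl⟩
      exact mem_centralizer_singleton_iff.2 (congrArg Subtype.val (hq.comm a))
    · exact ⟨_, htP, rfl⟩
    · rintro _ ⟨a, ha, rfl⟩ _ ⟨b, hb, rfl⟩
      have h5 : q (a * b) = q (b * a) := by
        rw [map_mul, map_mul]
        exact comm_iff.1 hA _ ha.1 _ hb.1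
      rcases hq.map_eq.1 h5 with h6 | h6
      · left
        exact congrArg Subtype.val h6
      · right
        exact congrArg Subtype.val h6
  -- the involutions of `M₁`
  have key : ∀ u : Spor.BabyMonster, u * u = 1 → u ≠ 1 → (∃ h : Spor.BabyMonster, h⁻¹ * u * h ∈ M₁) →
      AbLE 160563200000 ↥(centralizer ({u} : Set Spor.BabyMonster)) := by
    rintro u huu hu1 ⟨g, hg⟩
    obtain ⟨k, hk, hqk⟩ := M_le hq h10 big Bs _ hg
    have hkk : k * k = 1 := by
      refine lift_sq (Cfsg.Agent.TwoESix.LeviG.rootFacts hK hF) (KeyInst.extra hF) (Cfsg.Agent.TwoESix.RootsInst.roots K hF)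
        hq h10 DK hk ?_
      rw [hqk]
      calc g⁻¹ * u * g * (g⁻¹ * u * g) = g⁻¹ * (u * u) * g := by group
        _ = 1 := by rw [huu]; group
    have hqk1 : q k ≠ 1 := by
      intro e
      apply hu1
      rw [hqk] at e
      calc u = g * (g⁻¹ * u * g) * g⁻¹ := by group
        _ = 1 := by rw [e]; group
    have hk1 : k ≠ 1 := fun e => hqk1 (by rw [e, map_one])
    have hkτ : k ≠ tb _ _ := fun e => hqk1 (by rw [e, hq.mapz])
    have hcu : IsConj u (q k) := isConj_iff.2 ⟨g⁻¹, by rw [hqk, inv_inv]⟩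
    refine AbTool.conj hcu ?_
    rcases Fc.classes k hkk hk1 hkτ with h1 | h1 | h1 | h1
    · exact AbTool.conj (q.map_isConj (hc5.symm.trans h1)).symm (hT.mono (by norm_num))
    · have h2 : q k = q (tb _ _ * k) := by rw [map_mul, hq.mapz, one_mul]
      rw [h2]
      exact lift _ (by rw [← h2]; exact hqk1)
        (hcz.trans ((BB _ _).subtype.map_isConj (FusionType.conj_mul_t Fc.cen h1)))
    · exact lift _ hqk1 (hcz.trans ((BB _ _).subtype.map_isConj h1))
    · exact lift _ hqk1 (hcd.trans ((BB _ _).subtype.map_isConj h1))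
  rcases Bs.classes u huu hu1 with hg | ⟨d, hd, hc, hud⟩
  · exact key u huu hu1 hg
  · obtain ⟨g, rfl⟩ := isConj_iff.1 hd
    have htt : q (y 5) * q (y 5) = 1 := by rw [← map_mul, h.sq 5 (by norm_num) (by norm_num), map_one]
    have htM : q (y 5) ∈ M₁ := by
      rw [BaseTwo.Base.eq_map hq h10 big Bs]
      exact ⟨y 5, (mem_KK' hq h10).2 (by group), rfl⟩
    -- `e = g⁻¹ * u * g * t`
    have he1 : IsConj (q (y 5)) (g⁻¹ * u * g * q (y 5)) := by
      refine hud.trans (isConj_iff.2 ⟨g⁻¹, ?_⟩)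
      group
    have hut : g⁻¹ * u * g * q (y 5) = q (y 5) * (g⁻¹ * u * g) := by
      calc g⁻¹ * u * g * q (y 5) = g⁻¹ * (u * (g * q (y 5) * g⁻¹)) * g := by group
        _ = g⁻¹ * ((g * q (y 5) * g⁻¹) * u) * g := by rw [hc]
        _ = _ := by group
    have he2 : q (y 5) * (g⁻¹ * u * g * q (y 5)) = g⁻¹ * u * g := by
      rw [hut, ← mul_assoc, htt, one_mul]
    have he3 : g⁻¹ * u * g * q (y 5) * q (y 5) = g⁻¹ * u * g := by
      rw [mul_assoc, htt, mul_one]
    by_cases heM : g⁻¹ * u * g * q (y 5) ∈ M₁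
    · refine key u huu hu1 ⟨g, ?_⟩
      rw [← he3]
      exact M₁.mul_mem heM htM
    · refine AbTool.conj (s := g⁻¹ * u * g) (isConj_iff.2 ⟨g⁻¹, by rw [inv_inv]⟩) ?_
      refine (of_pair (a := q (y 5)) (a' := g⁻¹ * u * g * q (y 5)) (fun c hcc => ?_) hT).mono (by norm_num)
      rw [mem_centralizer_singleton_iff] at hcc
      have h1 := B2.uniq (g⁻¹ * u * g * q (y 5)) (c * q (y 5) * c⁻¹) he1 (by rw [he2, he3]) heM
        (isConj_iff.2 ⟨c, rfl⟩) ?_ ?_
      · rcases h1 with h1 | h1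
        · left
          rw [mul_inv_eq_iff_eq_mul] at h1
          exact h1
        · exact Or.inr h1
      · rw [he2]
        calc c * q (y 5) * c⁻¹ * (g⁻¹ * u * g) = c * q (y 5) * (c⁻¹ * (g⁻¹ * u * g) * c) * c⁻¹ := by group
          _ = c * q (y 5) * (c⁻¹ * (c * (g⁻¹ * u * g))) * c⁻¹ := by rw [hcc]; group
          _ = c * (q (y 5) * (g⁻¹ * u * g)) * c⁻¹ := by group
          _ = c * (g⁻¹ * u * g * q (y 5)) * c⁻¹ := by rw [hut]
          _ = c * (g⁻¹ * u * g) * (q (y 5) * c⁻¹) := by group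
          _ = (g⁻¹ * u * g) * c * (q (y 5) * c⁻¹) := by rw [hcc]
          _ = _ := by group
      · rw [he2]
        have h2 : c * q (y 5) * c⁻¹ * (g⁻¹ * u * g) = c * (g⁻¹ * u * g * q (y 5)) * c⁻¹ := by
          have h3 : c⁻¹ * (g⁻¹ * u * g) = g⁻¹ * u * g * c⁻¹ := by
            rw [inv_mul_eq_iff_eq_mul, ← mul_assoc, hcc, mul_inv_cancel_right]
          calc c * q (y 5) * c⁻¹ * (g⁻¹ * u * g) = c * q (y 5) * (c⁻¹ * (g⁻¹ * u * g)) := by group
            _ = c * q (y 5) * (g⁻¹ * u * g * c⁻¹) := by rw [h3]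
            _ = c * (q (y 5) * (g⁻¹ * u * g)) * c⁻¹ := by group
            _ = _ := by rw [← hut]
        rw [h2]
        exact he1.trans (isConj_iff.2 ⟨c, rfl⟩)

theorem card_B : Nat.card Spor.BabyMonster = 4154781481226426191177580544000000 := Cfsg.Agent.S1704.result.2

/-- abelian subgroups of odd order, in the Monster -/
theorem exists_lift_M {A : Subgroup Spor.BabyMonster} (hA : IsMulCommutative A) (h2 : ¬ 2 ∣ Nat.card ↥A) :
    ∃ B : Subgroup MG, IsMulCommutative B ∧ Nat.card ↥B = Nat.card ↥A ∧ ∀ x ∈ B, orderOf x = 3 → Ev x := by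
  refine CTwoTab.BInst.elim ?_
  intro K _ _ hK hF _ _ _ _ q y h π f₁ f₂ f₃ f₄ M₁' hq h10 DK Fc hz hcz hcd hL hc5 big hq5 hcard Bs' hr
  have hfM : Finite MG := finite
  obtain ⟨B, hB, hBc⟩ := exists_lift hq hA h2
  refine ⟨B.map (BB _ _).subtype, comm_map _ hB, ?_, ?_⟩
  · rw [card_map_of_injective (Subgroup.subtype_injective _), hBc]
  · rintro _ ⟨b, hb, rfl⟩ ho
    obtain ⟨k, hk, -⟩ := LThreeM.FiRow.exists_z_in (x := (BB _ _).subtype b) (v := (BB _ _).subtype (tb _ _))
      (by rw [← ho, pow_orderOf_eq_one]) (LThreeB.Par.ta_iota LitFin.all Cfsg.Agent.MonsterX.KDone.lnk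
        Cfsg.Agent.MonsterX.KDone.lft) (congrArg Subtype.val (hq.comm b))
    exact ⟨k, hk⟩

/-- **Abelian subgroups of odd order.** -/
theorem odd_case {A : Subgroup Spor.BabyMonster} (hA : IsMulCommutative A) (h2 : ¬ 2 ∣ Nat.card ↥A) :
    Nat.card ↥A ≤ 160563200000 := by
  have := CTwoTab.BInst.finite_B
  have hfM : Finite MG := finite
  have hne : Nat.card ↥A ≠ 0 := Nat.card_pos.ne'
  have k0 : Nat.card ↥A ∣ 4154781481226426191177580544000000 := by
    rw [← card_B]
    exact Subgroup.card_subgroup_dvd_card A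
  obtain ⟨B, hB, hBc, hE⟩ := exists_lift_M hA h2
  by_cases h3 : 3 ∣ Nat.card ↥A
  · rw [← hBc] at h3
    obtain ⟨x, hx, hxB, hle⟩ := AbTool.exists_le_centralizer hB Nat.prime_three h3
    rcases three'' hx (hE x hxB hx) hB hle with h4 | h4
    · rw [hBc] at h4
      exact h4.trans (by norm_num)
    · rw [hBc] at h4
      have h5 : Nat.card ↥A ∣ 3 ^ 20 * 25025 := AbM.rm (p := 2) (e := 14) Nat.prime_two h4 (by norm_num) h2
      have h6 := AbTool.dvd_of_not_pow (k := 13) Nat.prime_three hne (fun h => by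
        have h7 := h.trans k0
        revert h7
        norm_num) h5
      exact (Nat.le_of_dvd (by norm_num) h6).trans (by norm_num)
  · have k1 : Nat.card ↥A ∣ 3 ^ 13 * (5 ^ 6 * 7 ^ 2 * 11 * 13 * 17 * 19 * 23 * 31 * 47) :=
      AbM.rm (p := 2) (e := 41) Nat.prime_two k0 (by norm_num) h2
    have k2 := AbTool.dvd_of_not_dvd Nat.prime_three h3 k1
    by_cases h5 : 5 ∣ Nat.card ↥A
    · have n5 : ∀ r : ℕ, (r = 17 ∨ r = 23 ∨ r = 29 ∨ r = 47 ∨ r = 59) → ¬ r ∣ Nat.card ↥A := by
        intro r hr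
        rw [← hBc] at h5 ⊢
        exact AbM.not_dvd_of hB Nat.prime_five (fun x hx => five_not_dvd' hr hx) h5
      have g1 := AbM.rm (p := 17) (e := 1) (M := 5 ^ 6 * 7 ^ 2 * 11 * 13 * 19 * 23 * 31 * 47) (by norm_num) k2
        (by norm_num) (n5 17 (by simp))
      have g2 := AbM.rm (p := 23) (e := 1) (M := 5 ^ 6 * 7 ^ 2 * 11 * 13 * 19 * 31 * 47) (by norm_num) g1
        (by norm_num) (n5 23 (by simp))
      have g3 := AbM.rm (p := 47) (e := 1) (M := 5 ^ 6 * 7 ^ 2 * 11 * 13 * 19 * 31) (by norm_num) g2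
        (by norm_num) (n5 47 (by simp))
      exact (Nat.le_of_dvd (by norm_num) g3).trans (by norm_num)
    · have g1 := AbM.rm (p := 5) (e := 6) (M := 7 ^ 2 * 11 * 13 * 17 * 19 * 23 * 31 * 47) (by norm_num) k2
        (by norm_num) h5
      exact (Nat.le_of_dvd (by norm_num) g1).trans (by norm_num)

/-- **The row `B` of S2501.** -/
theorem ab3 (hC : Ab3 Spor.Co1) : Ab3 Spor.BabyMonster := by
  have := CTwoTab.BInst.finite_B
  intro A hA
  have h : Nat.card ↥A ≤ 160563200000 := by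
    by_cases h2 : 2 ∣ Nat.card ↥A
    · obtain ⟨t, ht, -, hle⟩ := AbTool.exists_le_centralizer hA Nat.prime_two h2
      exact apply (le_inv hC ht) hA hle
    · exact odd_case hA h2
  rw [card_B]
  calc Nat.card ↥A ^ 3 ≤ 160563200000 ^ 3 := Nat.pow_le_pow_left h 3
    _ < _ := by norm_num

/-- **The row `B` of S2501**, given the row `Co1`. -/
theorem ab3_B (hC : Ab3 Spor.Co1) {G : Type*} [Group G] [Finite G] [IsSimpleGroup G] (h : Cfsg.Spor.IsoB G) : Ab3 G := by
  obtain ⟨e⟩ := h
  exact (ab3 hC).congr e.symm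

/-- the Monster -/
theorem ab3_Monster : Ab3 Spor.Monster := by
  obtain ⟨f⟩ := Cfsg.Agent.MonsterP.Equiv.equiv
  exact AbM.ab3_model.congr f.symm

end Cfsg.Agent.H199.AbB
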