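import Cfsg.Agent.H199.NSmFi23
import Cfsg.Agent.H199.AbFi22
import Cfsg.Agent.H187.FiOdd.Cent

/-!
# S2501, the row `Fi23` (helper199)

The centralizers of the elements of order at least five of `Fi24` are small (helper187); `Fi23` is a subgroup of `Fi24`
centralized by a transposition.
-/

set_option autoImplicit false
set_option maxRecDepth 100000

namespace Cfsg.Agent.H199.AbFi23

open Subgroup Cfsg Cfsg.Agent.H199.AbTool Cfsg.Agent.H498.Ab
open Cfsg.Agent.Fischer.Fi23Z Cfsg.Agent.Fischer.Fi23Hom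
open Cfsg.Agent.Fischer Cfsg.Agent.Fischer.Fi23Class Cfsg.Agent.Fischer.Fi23Simple
open Cfsg.Agent.KFacts.FiTTh.Cent
open Cfsg.Spor Cfsg.Spor.Fi23
open Cfsg.Agent.CTwoTab.Fi23
open Cfsg.Agent.R08

/-- the centralizer of a transposition -/
theorem le_z0 : AbLE (2 * 40117) ↥(centralizer ({z0} : Set Fi23)) := by
  have := NSmFi23.finite
  obtain ⟨h1, ⟨e⟩, -⟩ := KFacts.FiTTh.Quasi.cover
  rw [← K_eq]
  refine center_quot h1 ?_
  exact (AbFi22.ab3.congr e.symm).abLE (by
    rw [Nat.card_congr e.toEquiv, Cfsg.Agent.S1696.result.2]; norm_num)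

theorem le_inv {t : Fi23} (ht : orderOf t = 2) : AbLE 240702 ↥(centralizer ({t} : Set Fi23)) := by
  have := NSmFi23.finite
  have h1 : t * t = 1 := by
    have := pow_orderOf_eq_one t
    rwa [ht, pow_two] at this
  have h2 : t ≠ 1 := by
    rintro rfl
    rw [orderOf_one] at ht
    omega
  rcases KFacts.FiTTh.Has.inv t h1 h2 with h3 | h3 | h3
  · exact conj h3 (le_z0.mono (by norm_num))
  · refine conj h3 ?_
    refine (of_orbit (C := centralizer ({W2} : Set Fi23)) (a := z0) (S := Ds2) (k := 3) (fun x hx => ?_) ?_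
      le_z0).mono (by norm_num)
    · exact perm2 (mem_centralizer_singleton_iff.1 hx) (Or.inl rfl)
    · unfold Ds2
      exact (Set.ncard_insert_le _ _).trans (by rw [Set.ncard_singleton]; norm_num)
  · refine conj h3 ?_
    refine (of_orbit (C := centralizer ({W3} : Set Fi23)) (a := z0) (S := Ds3) (k := 3) (fun x hx => ?_) ?_
      le_z0).mono (by norm_num)
    · exact perm3 hac (mem_centralizer_singleton_iff.1 hx) (Or.inl rfl)
    · unfold Ds3
      refine (Set.ncard_insert_le _ _).trans (Nat.succ_le_succ ?_)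
      exact (Set.ncard_insert_le _ _).trans (by rw [Set.ncard_singleton])

/-- elements of prime order `≥ 5` -/
theorem five {A : Subgroup Fi23} (hA : IsMulCommutative A) {r : ℕ} (hr : r.Prime) (h5 : 5 ≤ r)
    (hd : r ∣ Nat.card ↥A) : Nat.card ↥A ≤ 907200 := by
  have := NSmFi23.finite
  have hfin : Finite Spor.Fi24 := FiTwentyFour.finite_Fi24
  have F := FiTwentyFour.facts
  obtain ⟨x, hx, hxA, -⟩ := exists_le_centralizer hA hr hd
  have hx' : orderOf (F.phi x) = r := by rw [orderOf_injective F.phi F.phi_injective, hx]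
  have h1 := Cfsg.Agent.H187.FiOdd.card_cent_le hr h5 hx'
  -- the subgroup of even permutations
  have hphi : ∀ y : Fi23, F.phi y * Fischer.Fi24Class.gen .l = Fischer.Fi24Class.gen .l * F.phi y ∧
      Fischer.Fi24Final.sgn (F.phi y) = 1 := fun y => (F.mem_range_iff _).1 ⟨y, rfl⟩
  let C := centralizer ({F.phi x} : Set Spor.Fi24)
  let D : Subgroup Spor.Fi24 := A.map F.phi
  have hc : Nat.card ↥D = Nat.card ↥A := card_map_of_injective F.phi_injective
  have hDC : D ≤ C := by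
    rintro _ ⟨y, hy, rfl⟩
    rw [mem_centralizer_singleton_iff, ← map_mul, comm_iff.1 hA y hy x hxA, map_mul]
  have hl : Fischer.Fi24Class.gen .l ∈ C := by
    rw [mem_centralizer_singleton_iff]
    exact (hphi x).1.symm
  have hlD : Fischer.Fi24Class.gen .l ∉ D := by
    rintro ⟨y, -, hy⟩
    have h2 := (hphi y).2
    have h3 : Fischer.Fi24Final.sgn (Fischer.Fi24Class.gen .l) = -1 := Fischer.Fi24Final.sgn_gen .l
    rw [hy, h3] at h2
    revert h2
    decide
  have hd2 : Nat.card ↥D ∣ Nat.card ↥C := Subgroup.card_dvd_of_le hDC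
  obtain ⟨k, hk⟩ := hd2
  have hk1 : k ≠ 1 := by
    rintro rfl
    rw [mul_one] at hk
    exact hlD ((Subgroup.eq_of_le_of_card_ge hDC hk.le).symm ▸ hl)
  have hk0 : k ≠ 0 := by
    rintro rfl
    rw [mul_zero] at hk
    exact Nat.card_pos.ne' hk
  have h3 : Nat.card ↥D * 2 ≤ Nat.card ↥C := by
    rw [hk]
    exact Nat.mul_le_mul_left _ (by omega)
  have h4 : Nat.card ↥C ≤ 1814400 := h1
  omega

theorem odd {A : Subgroup Fi23} (hA : IsMulCommutative A) (h2 : ¬ 2 ∣ Nat.card ↥A) : Nat.card ↥A ≤ 1594323 := by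
  have := NSmFi23.finite
  by_cases h : ∃ r : ℕ, r.Prime ∧ 5 ≤ r ∧ r ∣ Nat.card ↥A
  · obtain ⟨r, hr, h5, hd⟩ := h
    exact (five hA hr h5 hd).trans (by norm_num)
  · have nd : ∀ r : ℕ, r.Prime → 5 ≤ r → ¬ r ∣ Nat.card ↥A := fun r hr h5 hd => h ⟨r, hr, h5, hd⟩
    have h4 : Nat.card ↥A ∣ 2 ^ 18 * (5 ^ 2 * (7 ^ 1 * (11 ^ 1 * (13 ^ 1 * (17 ^ 1 * (23 ^ 1 * 3 ^ 13)))))) := by
      have := Subgroup.card_subgroup_dvd_card A
      rwa [card_Fi23] at this
    have h5 := dvd_of_not_dvd Nat.prime_two h2 h4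
    have h6 := dvd_of_not_dvd (by norm_num) (nd 5 (by norm_num) (by norm_num)) h5
    have h7 := dvd_of_not_dvd (by norm_num) (nd 7 (by norm_num) (by norm_num)) h6
    have h8 := dvd_of_not_dvd (by norm_num) (nd 11 (by norm_num) (by norm_num)) h7
    have h9 := dvd_of_not_dvd (by norm_num) (nd 13 (by norm_num) (by norm_num)) h8
    have h10 := dvd_of_not_dvd (by norm_num) (nd 17 (by norm_num) (by norm_num)) h9
    have h11 := dvd_of_not_dvd (by norm_num) (nd 23 (by norm_num) (by norm_num)) h10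
    exact (Nat.le_of_dvd (by norm_num) h11).trans (by norm_num)

/-- **The row `Fi23` of S2501.** -/
theorem ab3 : Ab3 Fi23 := by
  have := NSmFi23.finite
  intro A hA
  rw [card_Fi23]
  by_cases h2 : 2 ∣ Nat.card ↥A
  · obtain ⟨t, ht, -, hle⟩ := exists_le_centralizer hA Nat.prime_two h2
    calc Nat.card ↥A ^ 3 ≤ 240702 ^ 3 := Nat.pow_le_pow_left (apply (le_inv ht) hA hle) 3
      _ < _ := by norm_num
  · calc Nat.card ↥A ^ 3 ≤ 1594323 ^ 3 := Nat.pow_le_pow_left (odd hA h2) 3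
      _ < _ := by norm_num

theorem ab3_Fi23 {G : Type*} [Group G] [Finite G] [IsSimpleGroup G] (h : Cfsg.Spor.IsoFi23 G) : Ab3 G := by
  obtain ⟨e⟩ := h
  exact ab3.congr e.symm

end Cfsg.Agent.H199.AbFi23
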