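import Cfsg.Agent.H199.AbMon

/-!
# S2501, the row `M` (helper199)

An abelian subgroup `A` of the Monster: `|A| ≤ 931000000000000000`.
-/

set_option autoImplicit false
set_option maxRecDepth 100000

namespace Cfsg.Agent.H199.AbM

open Cfsg Cfsg.Agent.MonsterX Cfsg.Agent.MonsterX.InstData Cfsg.Agent.MonsterX.MainPack Cfsg.Agent.MonsterU
open Cfsg.Agent.MonsterP Cfsg.Agent.MonsterN Cfsg.Agent.LThreeMB
open Cfsg.Agent.MonsterX.MainBasic Cfsg.Agent.MonsterX.MainSimple Cfsg.Agent.MonsterX.Model
open Cfsg.Agent.MonsterU.Lam2 Cfsg.Agent.MonsterU.TwoCls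
open Cfsg.Agent.BpSpor.MBigModel Cfsg.Agent.H199.NSmMon Cfsg.Agent.H199.NSmAbs Cfsg.Agent.H199.AbMon
open Cfsg.Agent.H498.Ab Cfsg.Agent.H199.AbTool Cfsg.Agent.H199.AbRad
open Subgroup (centralizer zpowers mem_centralizer_singleton_iff)

/-- removing a prime -/
theorem rm {n V p e M : ℕ} (hp : p.Prime) (h : n ∣ V) (hV : V = p ^ e * M) (hn : ¬ p ∣ n) : n ∣ M :=
  AbTool.dvd_of_not_dvd hp hn (hV ▸ h)

/-- the primes dividing `|A|` divide the orders of the centralizers of its elements -/
theorem not_dvd_of {A : Subgroup MG} (hA : IsMulCommutative A) {p r : ℕ} (hp : p.Prime)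
    (h : ∀ x : MG, orderOf x = p → ¬ r ∣ Nat.card ↥(centralizer ({x} : Set MG))) (hd : p ∣ Nat.card ↥A) :
    ¬ r ∣ Nat.card ↥A := by
  have := finite
  intro hr
  obtain ⟨x, hx, hxA, -⟩ := AbTool.exists_le_centralizer hA hp hd
  exact h x hx (hr.trans (AbTool.dvd_cent hA hxA))

/-- **Abelian subgroups of odd order.** -/
theorem odd_case {A : Subgroup MG} (hA : IsMulCommutative A) (h2 : ¬ 2 ∣ Nat.card ↥A) :
    Nat.card ↥A ≤ 931000000000000000 := by
  have := finite
  have hne : Nat.card ↥A ≠ 0 := Nat.card_pos.ne'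
  have k0 : Nat.card ↥A ∣ 808017424794512875886459904961710757005754368000000000 := by
    rw [← card_M]
    exact Subgroup.card_subgroup_dvd_card A
  have k1 : Nat.card ↥A ∣ 3 ^ 20 * (5 ^ 9 * (7 ^ 6 * 11 ^ 2 * 13 ^ 3 * 17 * 19 * 23 * 29 * 31 * 41 * 47 * 59 * 71)) :=
    rm (p := 2) (e := 46) Nat.prime_two k0 (by norm_num) h2
  by_cases h8 : 3 ^ 8 ∣ Nat.card ↥A
  · -- an element of order 3 commuting with an involution
    have ht : LThreeB.Row.TA (tG LitFin.all.hG LitFin.all.hR) := IsConj.refl _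
    obtain ⟨g, x, hx, hxN, hxt⟩ := exists_common (p := 3) (n := 20) (a := 8) (b := 13) Nat.prime_three
      (by rw [card_M]; norm_num) (N := A) (T := centralizer ({tG LitFin.all.hG LitFin.all.hR} : Set MG)) h8
      (by rw [card_cent_t ht]; norm_num) (by norm_num)
    have he : Ev x := by
      set t := tG LitFin.all.hG LitFin.all.hR with htdef
      have hxt' := mem_centralizer_singleton_iff.1 hxt
      obtain ⟨k, hk, -⟩ := LThreeM.FiRow.exists_z_in (x := x) (v := g⁻¹ * t * g) (by rw [← hx, pow_orderOf_eq_one])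
        (isConj_iff.2 ⟨g⁻¹, by rw [inv_inv]⟩) (by
          calc x * (g⁻¹ * t * g) = g⁻¹ * (g * x * g⁻¹ * t) * g := by group
            _ = g⁻¹ * (t * (g * x * g⁻¹)) * g := by rw [hxt']
            _ = _ := by group)
      exact ⟨k, hk⟩
    have hle : A ≤ centralizer ({x} : Set MG) := fun a ha => by
      rw [mem_centralizer_singleton_iff]
      exact comm_iff.1 hA a ha x hxN
    rcases three' hx he hA hle with h | h
    · exact h.trans (by norm_num)
    · have h3 : Nat.card ↥A ∣ 3 ^ 20 * 25025 :=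
        rm (p := 2) (e := 14) Nat.prime_two h (by norm_num) h2
      exact (Nat.le_of_dvd (by norm_num) h3).trans (by norm_num)
  have k2 := AbTool.dvd_of_not_pow (k := 7) Nat.prime_three hne h8 k1
  by_cases h6 : 5 ^ 6 ∣ Nat.card ↥A
  · obtain ⟨g, x, hx, hxN, hxt⟩ := exists_common (p := 5) (n := 9) (a := 6) (b := 4) Nat.prime_five
      (by rw [card_M]; norm_num) (N := A) (T := centralizer ({zz} : Set MG)) h6
      (by rw [card_cent_z]; norm_num) (by norm_num)
    have he : Ev x := by
      refine ⟨g⁻¹, ?_⟩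
      have hxt' := mem_centralizer_singleton_iff.1 hxt
      calc g⁻¹ * zz * g⁻¹⁻¹ * x = g⁻¹ * (zz * (g * x * g⁻¹)) * g := by group
        _ = g⁻¹ * ((g * x * g⁻¹) * zz) * g := by rw [hxt']
        _ = _ := by group
    have hd := AbTool.dvd_cent hA hxN
    rcases five' hx he with h | ⟨h, h11, h13⟩
    · rw [h] at hd
      have h3 : Nat.card ↥A ∣ 3 ^ 6 * 5 ^ 7 * 7 * 11 * 19 :=
        rm (p := 2) (e := 14) Nat.prime_two hd (by norm_num) h2
      exact (Nat.le_of_dvd (by norm_num) h3).trans (by norm_num)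
    · have hb : ∀ r, Big r → ¬ r ∣ Nat.card ↥A := fun r hr h1 => h r hr (h1.trans hd)
      have g1 := rm (p := 11) (e := 2) (M := 3 ^ 7 * 5 ^ 9 * (7 ^ 6 * 13 ^ 3 * 17 * 19 * 23 * 29 * 31 * 41 * 47 * 59 * 71))
        (by norm_num) k2 (by norm_num) (fun h1 => h11 (h1.trans hd))
      have g2 := rm (p := 13) (e := 3) (M := 3 ^ 7 * 5 ^ 9 * (7 ^ 6 * 17 * 19 * 23 * 29 * 31 * 41 * 47 * 59 * 71))
        (by norm_num) g1 (by norm_num) (fun h1 => h13 (h1.trans hd))
      have g3 := rm (p := 17) (e := 1) (M := 3 ^ 7 * 5 ^ 9 * (7 ^ 6 * 19 * 23 * 29 * 31 * 41 * 47 * 59 * 71))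
        (by norm_num) g2 (by norm_num) (hb 17 (by unfold Big; simp))
      have g4 := rm (p := 19) (e := 1) (M := 3 ^ 7 * 5 ^ 9 * (7 ^ 6 * 23 * 29 * 31 * 41 * 47 * 59 * 71))
        (by norm_num) g3 (by norm_num) (hb 19 (by unfold Big; simp))
      have g5 := rm (p := 23) (e := 1) (M := 3 ^ 7 * 5 ^ 9 * (7 ^ 6 * 29 * 31 * 41 * 47 * 59 * 71))
        (by norm_num) g4 (by norm_num) (hb 23 (by unfold Big; simp))
      have g6 := rm (p := 29) (e := 1) (M := 3 ^ 7 * 5 ^ 9 * (7 ^ 6 * 31 * 41 * 47 * 59 * 71))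
        (by norm_num) g5 (by norm_num) (hb 29 (by unfold Big; simp))
      have g7 := rm (p := 31) (e := 1) (M := 3 ^ 7 * 5 ^ 9 * (7 ^ 6 * 41 * 47 * 59 * 71))
        (by norm_num) g6 (by norm_num) (hb 31 (by unfold Big; simp))
      have g8 := rm (p := 41) (e := 1) (M := 3 ^ 7 * 5 ^ 9 * (7 ^ 6 * 47 * 59 * 71))
        (by norm_num) g7 (by norm_num) (hb 41 (by unfold Big; simp))
      have g9 := rm (p := 47) (e := 1) (M := 3 ^ 7 * 5 ^ 9 * (7 ^ 6 * 59 * 71))
        (by norm_num) g8 (by norm_num) (hb 47 (by unfold Big; simp))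
      have g10 := rm (p := 59) (e := 1) (M := 3 ^ 7 * 5 ^ 9 * (7 ^ 6 * 71))
        (by norm_num) g9 (by norm_num) (hb 59 (by unfold Big; simp))
      have g11 := rm (p := 71) (e := 1) (M := 3 ^ 7 * 5 ^ 9 * 7 ^ 6)
        (by norm_num) g10 (by norm_num) (hb 71 (by unfold Big; simp))
      exact (Nat.le_of_dvd (by norm_num) g11).trans (by norm_num)
  have k3 : Nat.card ↥A ∣ 5 ^ 9 * (3 ^ 7 * (7 ^ 6 * 11 ^ 2 * 13 ^ 3 * 17 * 19 * 23 * 29 * 31 * 41 * 47 * 59 * 71)) :=
    k2.trans (by norm_num)
  have g0 : Nat.card ↥A ∣ 11523505067524193009291034384375 :=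
    (AbTool.dvd_of_not_pow (k := 5) Nat.prime_five hne h6 k3).trans (by norm_num)
  have n3 : ∀ r : ℕ, (r = 47 ∨ r = 59 ∨ r = 71) → 3 ∣ Nat.card ↥A → ¬ r ∣ Nat.card ↥A := fun r hr =>
    not_dvd_of hA Nat.prime_three fun x hx => three_not_dvd hr hx
  have n5 : ∀ r : ℕ, (r = 17 ∨ r = 23 ∨ r = 29 ∨ r = 47 ∨ r = 59) → 5 ∣ Nat.card ↥A → ¬ r ∣ Nat.card ↥A :=
    fun r hr => not_dvd_of hA Nat.prime_five fun x hx => five_not_dvd' hr hx
  have n7 : ∀ r : ℕ, (r = 23 ∨ r = 31 ∨ r = 41 ∨ r = 47 ∨ r = 59) → 7 ∣ Nat.card ↥A → ¬ r ∣ Nat.card ↥A :=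
    fun r hr => not_dvd_of hA (by norm_num) fun x hx => seven_not_dvd hr hx
  have n11 : ∀ r : ℕ, (r = 17 ∨ r = 19 ∨ r = 29 ∨ r = 31 ∨ r = 41 ∨ r = 47 ∨ r = 59 ∨ r = 71) → 11 ∣ Nat.card ↥A →
      ¬ r ∣ Nat.card ↥A := fun r hr => not_dvd_of hA (by norm_num) fun x hx => eleven_not_dvd hr hx
  by_cases d11 : 11 ∣ Nat.card ↥A
  · by_cases d23 : 23 ∣ Nat.card ↥A
    · have g1 : Nat.card ↥A ∣ 3687521621607741762973131003 := rm (p := 5) (e := 5) (by norm_num) g0 (by norm_num) (fun h => n5 23 (by simp) h d23)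
      have g2 : Nat.card ↥A ∣ 31343416617291619673547 := rm (p := 7) (e := 6) (by norm_num) g1 (by norm_num) (fun h => n7 23 (by simp) h d23)
      have g3 : Nat.card ↥A ∣ 1843730389252448216091 := rm (p := 17) (e := 1) (by norm_num) g2 (by norm_num) (n11 17 (by simp) d11)
      have g4 : Nat.card ↥A ∣ 97038441539602537689 := rm (p := 19) (e := 1) (by norm_num) g3 (by norm_num) (n11 19 (by simp) d11)
      have g5 : Nat.card ↥A ∣ 3346153156538018541 := rm (p := 29) (e := 1) (by norm_num) g4 (by norm_num) (n11 29 (by simp) d11)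
      have g6 : Nat.card ↥A ∣ 107940424404452211 := rm (p := 31) (e := 1) (by norm_num) g5 (by norm_num) (n11 31 (by simp) d11)
      have g7 : Nat.card ↥A ∣ 2632693278157371 := rm (p := 41) (e := 1) (by norm_num) g6 (by norm_num) (n11 41 (by simp) d11)
      have g8 : Nat.card ↥A ∣ 56014750599093 := rm (p := 47) (e := 1) (by norm_num) g7 (by norm_num) (n11 47 (by simp) d11)
      have g9 : Nat.card ↥A ∣ 949402552527 := rm (p := 59) (e := 1) (by norm_num) g8 (by norm_num) (n11 59 (by simp) d11)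
      have g10 : Nat.card ↥A ∣ 13371866937 := rm (p := 71) (e := 1) (by norm_num) g9 (by norm_num) (n11 71 (by simp) d11)
      exact (Nat.le_of_dvd (by norm_num) g10).trans (by norm_num)
    · have g1 : Nat.card ↥A ∣ 677853239266129000546531434375 := rm (p := 17) (e := 1) (by norm_num) g0 (by norm_num) (n11 17 (by simp) d11)
      have g2 : Nat.card ↥A ∣ 35676486277164684239291128125 := rm (p := 19) (e := 1) (by norm_num) g1 (by norm_num) (n11 19 (by simp) d11)
      have g3 : Nat.card ↥A ∣ 1551151577268029749534396875 := rm (p := 23) (e := 1) (by norm_num) g2 (by norm_num) d23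
      have g4 : Nat.card ↥A ∣ 53487985423035508604634375 := rm (p := 29) (e := 1) (by norm_num) g3 (by norm_num) (n11 29 (by simp) d11)
      have g5 : Nat.card ↥A ∣ 1725418884614048664665625 := rm (p := 31) (e := 1) (by norm_num) g4 (by norm_num) (n11 31 (by simp) d11)
      have g6 : Nat.card ↥A ∣ 42083387429610943040625 := rm (p := 41) (e := 1) (by norm_num) g5 (by norm_num) (n11 41 (by simp) d11)
      have g7 : Nat.card ↥A ∣ 895391221906615809375 := rm (p := 47) (e := 1) (by norm_num) g6 (by norm_num) (n11 47 (by simp) d11)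
      have g8 : Nat.card ↥A ∣ 15176122405196878125 := rm (p := 59) (e := 1) (by norm_num) g7 (by norm_num) (n11 59 (by simp) d11)
      have g9 : Nat.card ↥A ∣ 213748202890096875 := rm (p := 71) (e := 1) (by norm_num) g8 (by norm_num) (n11 71 (by simp) d11)
      exact (Nat.le_of_dvd (by norm_num) g9).trans (by norm_num)
  · have g0 : Nat.card ↥A ∣ 95235579070447876109843259375 := rm (p := 11) (e := 2) (by norm_num) g0 (by norm_num) d11
    by_cases d3 : 3 ∣ Nat.card ↥A
    · by_cases d5 : 5 ∣ Nat.card ↥A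
      · by_cases d7 : 7 ∣ Nat.card ↥A
        · have g1 : Nat.card ↥A ∣ 5602092886496933888814309375 := rm (p := 17) (e := 1) (by norm_num) g0 (by norm_num) (n5 17 (by simp) d5)
          have g2 : Nat.card ↥A ∣ 243569255934649299513665625 := rm (p := 23) (e := 1) (by norm_num) g1 (by norm_num) (n5 23 (by simp) d5)
          have g3 : Nat.card ↥A ∣ 8398939859815493086678125 := rm (p := 29) (e := 1) (by norm_num) g2 (by norm_num) (n5 29 (by simp) d5)
          have g4 : Nat.card ↥A ∣ 270933543865015906021875 := rm (p := 31) (e := 1) (by norm_num) g3 (by norm_num) (n7 31 (by simp) d7)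
          have g5 : Nat.card ↥A ∣ 6608135216219900146875 := rm (p := 41) (e := 1) (by norm_num) g4 (by norm_num) (n7 41 (by simp) d7)
          have g6 : Nat.card ↥A ∣ 140598621621700003125 := rm (p := 47) (e := 1) (by norm_num) g5 (by norm_num) (n3 47 (by simp) d3)
          have g7 : Nat.card ↥A ∣ 2383027485113559375 := rm (p := 59) (e := 1) (by norm_num) g6 (by norm_num) (n3 59 (by simp) d3)
          have g8 : Nat.card ↥A ∣ 33563767395965625 := rm (p := 71) (e := 1) (by norm_num) g7 (by norm_num) (n3 71 (by simp) d3)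
          exact (Nat.le_of_dvd (by norm_num) g8).trans (by norm_num)
        · have g1 : Nat.card ↥A ∣ 809489065529225714709375 := rm (p := 7) (e := 6) (by norm_num) g0 (by norm_num) d7
          have g2 : Nat.card ↥A ∣ 47617003854660336159375 := rm (p := 17) (e := 1) (by norm_num) g1 (by norm_num) (n5 17 (by simp) d5)
          have g3 : Nat.card ↥A ∣ 2070304515420014615625 := rm (p := 23) (e := 1) (by norm_num) g2 (by norm_num) (n5 23 (by simp) d5)
          have g4 : Nat.card ↥A ∣ 71389810876552228125 := rm (p := 29) (e := 1) (by norm_num) g3 (by norm_num) (n5 29 (by simp) d5)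
          have g5 : Nat.card ↥A ∣ 1518932146309621875 := rm (p := 47) (e := 1) (by norm_num) g4 (by norm_num) (n3 47 (by simp) d3)
          have g6 : Nat.card ↥A ∣ 25744612649315625 := rm (p := 59) (e := 1) (by norm_num) g5 (by norm_num) (n3 59 (by simp) d3)
          have g7 : Nat.card ↥A ∣ 362600178159375 := rm (p := 71) (e := 1) (by norm_num) g6 (by norm_num) (n3 71 (by simp) d3)
          exact (Nat.le_of_dvd (by norm_num) g7).trans (by norm_num)
      · by_cases d7 : 7 ∣ Nat.card ↥A
        · have g1 : Nat.card ↥A ∣ 30475385302543320355149843 := rm (p := 5) (e := 5) (by norm_num) g0 (by norm_num) d5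
          have g2 : Nat.card ↥A ∣ 1325016752284492189354341 := rm (p := 23) (e := 1) (by norm_num) g1 (by norm_num) (n7 23 (by simp) d7)
          have g3 : Nat.card ↥A ∣ 42742475880144909334011 := rm (p := 31) (e := 1) (by norm_num) g2 (by norm_num) (n7 31 (by simp) d7)
          have g4 : Nat.card ↥A ∣ 1042499411710851447171 := rm (p := 41) (e := 1) (by norm_num) g3 (by norm_num) (n7 41 (by simp) d7)
          have g5 : Nat.card ↥A ∣ 22180838547039392493 := rm (p := 47) (e := 1) (by norm_num) g4 (by norm_num) (n3 47 (by simp) d3)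
          have g6 : Nat.card ↥A ∣ 375946416051515127 := rm (p := 59) (e := 1) (by norm_num) g5 (by norm_num) (n3 59 (by simp) d3)
          have g7 : Nat.card ↥A ∣ 5295019944387537 := rm (p := 71) (e := 1) (by norm_num) g6 (by norm_num) (n3 71 (by simp) d3)
          exact (Nat.le_of_dvd (by norm_num) g7).trans (by norm_num)
        · have g1 : Nat.card ↥A ∣ 30475385302543320355149843 := rm (p := 5) (e := 5) (by norm_num) g0 (by norm_num) d5
          have g2 : Nat.card ↥A ∣ 259036500969352228707 := rm (p := 7) (e := 6) (by norm_num) g1 (by norm_num) d7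
          have g3 : Nat.card ↥A ∣ 5511414914241536781 := rm (p := 47) (e := 1) (by norm_num) g2 (by norm_num) (n3 47 (by simp) d3)
          have g4 : Nat.card ↥A ∣ 93413812105788759 := rm (p := 59) (e := 1) (by norm_num) g3 (by norm_num) (n3 59 (by simp) d3)
          have g5 : Nat.card ↥A ∣ 1315687494447729 := rm (p := 71) (e := 1) (by norm_num) g4 (by norm_num) (n3 71 (by simp) d3)
          exact (Nat.le_of_dvd (by norm_num) g5).trans (by norm_num)
    · by_cases d5 : 5 ∣ Nat.card ↥A
      · by_cases d7 : 7 ∣ Nat.card ↥A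
        · have g1 : Nat.card ↥A ∣ 43546218139207990905278125 := rm (p := 3) (e := 7) (by norm_num) g0 (by norm_num) d3
          have g2 : Nat.card ↥A ∣ 2561542243482822994428125 := rm (p := 17) (e := 1) (by norm_num) g1 (by norm_num) (n5 17 (by simp) d5)
          have g3 : Nat.card ↥A ∣ 111371401890557521496875 := rm (p := 23) (e := 1) (by norm_num) g2 (by norm_num) (n5 23 (by simp) d5)
          have g4 : Nat.card ↥A ∣ 3840393168639914534375 := rm (p := 29) (e := 1) (by norm_num) g3 (by norm_num) (n5 29 (by simp) d5)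
          have g5 : Nat.card ↥A ∣ 123883650601287565625 := rm (p := 31) (e := 1) (by norm_num) g4 (by norm_num) (n7 31 (by simp) d7)
          have g6 : Nat.card ↥A ∣ 3021552453689940625 := rm (p := 41) (e := 1) (by norm_num) g5 (by norm_num) (n7 41 (by simp) d7)
          have g7 : Nat.card ↥A ∣ 64288350078509375 := rm (p := 47) (e := 1) (by norm_num) g6 (by norm_num) (n5 47 (by simp) d5)
          have g8 : Nat.card ↥A ∣ 1089633052178125 := rm (p := 59) (e := 1) (by norm_num) g7 (by norm_num) (n5 59 (by simp) d5)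
          exact (Nat.le_of_dvd (by norm_num) g8).trans (by norm_num)
        · have g1 : Nat.card ↥A ∣ 43546218139207990905278125 := rm (p := 3) (e := 7) (by norm_num) g0 (by norm_num) d3
          have g2 : Nat.card ↥A ∣ 370136746926943628125 := rm (p := 7) (e := 6) (by norm_num) g1 (by norm_num) d7
          have g3 : Nat.card ↥A ∣ 21772749819231978125 := rm (p := 17) (e := 1) (by norm_num) g2 (by norm_num) (n5 17 (by simp) d5)
          have g4 : Nat.card ↥A ∣ 946641296488346875 := rm (p := 23) (e := 1) (by norm_num) g3 (by norm_num) (n5 23 (by simp) d5)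
          have g5 : Nat.card ↥A ∣ 32642803327184375 := rm (p := 29) (e := 1) (by norm_num) g4 (by norm_num) (n5 29 (by simp) d5)
          have g6 : Nat.card ↥A ∣ 694527730365625 := rm (p := 47) (e := 1) (by norm_num) g5 (by norm_num) (n5 47 (by simp) d5)
          have g7 : Nat.card ↥A ∣ 11771656446875 := rm (p := 59) (e := 1) (by norm_num) g6 (by norm_num) (n5 59 (by simp) d5)
          exact (Nat.le_of_dvd (by norm_num) g7).trans (by norm_num)
      · by_cases d7 : 7 ∣ Nat.card ↥A
        · have g1 : Nat.card ↥A ∣ 43546218139207990905278125 := rm (p := 3) (e := 7) (by norm_num) g0 (by norm_num) d3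
          have g2 : Nat.card ↥A ∣ 13934789804546557089689 := rm (p := 5) (e := 5) (by norm_num) g1 (by norm_num) d5
          have g3 : Nat.card ↥A ∣ 605860426284632916943 := rm (p := 23) (e := 1) (by norm_num) g2 (by norm_num) (n7 23 (by simp) d7)
          have g4 : Nat.card ↥A ∣ 19543884718859126353 := rm (p := 31) (e := 1) (by norm_num) g3 (by norm_num) (n7 31 (by simp) d7)
          have g5 : Nat.card ↥A ∣ 476680115094125033 := rm (p := 41) (e := 1) (by norm_num) g4 (by norm_num) (n7 41 (by simp) d7)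
          have g6 : Nat.card ↥A ∣ 10142130108385639 := rm (p := 47) (e := 1) (by norm_num) g5 (by norm_num) (n7 47 (by simp) d7)
          have g7 : Nat.card ↥A ∣ 171900510311621 := rm (p := 59) (e := 1) (by norm_num) g6 (by norm_num) (n7 59 (by simp) d7)
          exact (Nat.le_of_dvd (by norm_num) g7).trans (by norm_num)
        · have g1 : Nat.card ↥A ∣ 43546218139207990905278125 := rm (p := 3) (e := 7) (by norm_num) g0 (by norm_num) d3
          have g2 : Nat.card ↥A ∣ 13934789804546557089689 := rm (p := 5) (e := 5) (by norm_num) g1 (by norm_num) d5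
          have g3 : Nat.card ↥A ∣ 118443759016621961 := rm (p := 7) (e := 6) (by norm_num) g2 (by norm_num) d7
          exact (Nat.le_of_dvd (by norm_num) g3).trans (by norm_num)

theorem not_comm_B : ¬ IsMulCommutative Spor.BabyMonster :=
  not_comm_of_card Cfsg.Agent.S1704.result.1 Cfsg.Agent.S1704.result.2 (by norm_num)

/-- abelian subgroups of a double cover -/
theorem abLE_cover {H K : Type*} [Group H] [Finite H] [Group K] (h : Cfsg.IsNonsplitDoubleCover H K) {b : ℕ}
    (hK : AbLE b K) : AbLE (2 * b) H := by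
  obtain ⟨h2, ⟨e⟩, -⟩ := h
  exact center_quot h2 (hK.congr e.symm)

/-- **Abelian subgroups of the centralizers of involutions.** -/
theorem le_inv {v : MG} (hv : orderOf v = 2) : AbLE 931000000000000000 ↥(centralizer ({v} : Set MG)) := by
  have := finite
  rcases cls hv with ⟨g, rfl⟩ | h
  · refine AbTool.conj (s := zz) (isConj_iff.2 ⟨g⁻¹, by group⟩) ?_
    have hcard : Nat.card Spor.Co1 = 4157776806543360000 := Cfsg.Agent.S0399.result.2
    have hfin : Finite Spor.Co1 := Nat.finite_of_card_ne_zero (by rw [hcard]; norm_num)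
    have hCo : AbLE 2040000000 Spor.Co1 := of_simple Cfsg.Agent.S0399.result.1
      (not_comm_of_card Cfsg.Agent.S0399.result.1 hcard (by norm_num)) (by rw [hcard]; norm_num)
    have hpk : Nat.card ↥pi.ker = 2 ^ 25 := by
      have h3 := Subgroup.card_eq_card_quotient_mul_card_subgroup pi.ker
      rw [Nat.card_congr (QuotientGroup.quotientKerEquivOfSurjective pi chart.pi_surj).toEquiv, card_cent_z, hcard] at h3
      have h4 : (2 ^ 25 : ℕ) * 4157776806543360000 = Nat.card ↥pi.ker * 4157776806543360000 := by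
        rw [h3, mul_comm]
      exact (Nat.eq_of_mul_eq_mul_right (by norm_num) h4).symm
    exact (of_hom' pi hCo hpk.le).mono (by norm_num)
  · refine AbTool.conj (s := tG LitFin.all.hG LitFin.all.hR) h.symm ?_
    have hcov := H546.MFiveFull.cover_t Uncond.all (NodesGrp.prel NodesU.hyp) (NodesNe.ne NodesU.hyp) NodesU.conj_ten
      Cfsg.Agent.S1704.result
    have hfin : Finite Spor.BabyMonster :=
      Nat.finite_of_card_ne_zero (by rw [Cfsg.Agent.S1704.result.2]; norm_num)
    have hB : AbLE 64457594441822185 Spor.BabyMonster := of_simple Cfsg.Agent.S1704.result.1 not_comm_B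
      (by rw [Cfsg.Agent.S1704.result.2]; norm_num)
    exact (abLE_cover hcov hB).mono (by norm_num)

/-- **The Monster.** -/
theorem ab3_model : Ab3 MG := by
  have := finite
  intro A hA
  have h : Nat.card ↥A ≤ 931000000000000000 := by
    by_cases h2 : 2 ∣ Nat.card ↥A
    · obtain ⟨t, ht, -, hle⟩ := AbTool.exists_le_centralizer hA Nat.prime_two h2
      exact apply (le_inv ht) hA hle
    · exact odd_case hA h2
  rw [card_M]
  calc Nat.card ↥A ^ 3 ≤ 931000000000000000 ^ 3 := Nat.pow_le_pow_left h 3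
    _ < _ := by norm_num

/-- **The row `M` of S2501.** -/
theorem ab3_M {G : Type*} [Group G] [Finite G] [IsSimpleGroup G] (h : Cfsg.Spor.IsoM G) : Ab3 G := by
  obtain ⟨e⟩ := h
  obtain ⟨f⟩ := Cfsg.Agent.MonsterP.Equiv.equiv
  exact ab3_model.congr (f.symm.trans e.symm)

end Cfsg.Agent.H199.AbM
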