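import Cfsg.Agent.H199.NSmAbs
import Cfsg.Agent.H199.AbExt
import Cfsg.Agent.H794.MonSec
import Cfsg.Agent.Transfer.ElemAbAut

/-!
# The situation `Rad` and abelian subgroups (helper199)

* `not_dvd_N` : if a prime `q ∣ |A|` does not divide `r ^ i - 1`, `i ≤ n`, `r ^ (n + 1) ∤ |N|`, then `r ∤ |N|`
* `abLE` : abelian subgroups
-/

set_option autoImplicit false
set_option linter.unusedSectionVars false

namespace Cfsg.Agent.H199.AbRad

open Subgroup Cfsg Cfsg.Agent.H498.Ab Cfsg.Agent.H199.AbTool Cfsg.Agent.H199.AbExt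

universe u v

variable {D : Type u} [Group D] [Finite D] {p : ℕ} [hp : Fact p.Prime] {z x : D} {N : Subgroup D}
    {A : Type v} [Group A] [hA : IsSimpleGroup A] {f : ↥(centralizer ({z} : Set D)) →* A}

/-- a normal subgroup containing an element of `C(z)` not in the kernel is not solvable -/
theorem not_solvable_of_mem (h : Cfsg.Agent.BpSpor.M5.Rad p z x N f) (hAc : ¬ Group.IsSolvable A)
    (C : Subgroup D) [hC : C.Normal] {c : ↥(centralizer ({z} : Set D))} (hc : (c : D) ∈ C) (hfc : f c ≠ 1) :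
    ¬ Group.IsSolvable ↥C := by
  intro hs
  have h1 : ((C.subgroupOf (centralizer ({z} : Set D))).map f).Normal :=
    (inferInstance : (C.subgroupOf (centralizer ({z} : Set D))).Normal).map f h.surj
  rcases h1.eq_bot_or_eq_top with h2 | h2
  · apply hfc
    have h3 : f c ∈ (C.subgroupOf (centralizer ({z} : Set D))).map f := mem_map_of_mem f (mem_subgroupOf.2 hc)
    rw [h2] at h3
    exact mem_bot.1 h3
  · apply hAc
    have h3 : Group.IsSolvable ↥(C.subgroupOf (centralizer ({z} : Set D))) :=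
      Group.isSolvable_of_isSolvable_injective (f := ((centralizer ({z} : Set D)).subtype.subgroupComap C))
        (fun a b hab => by
          have h5 : ((a : ↥(centralizer ({z} : Set D))) : D) = ((b : ↥(centralizer ({z} : Set D))) : D) :=
            congrArg (fun t : ↥C => (t : D)) hab
          exact Subtype.ext (Subtype.ext h5))
    have h4 : Group.IsSolvable ↥((C.subgroupOf (centralizer ({z} : Set D))).map f) :=
      Group.isSolvable_of_surjective (f.subgroupMap_surjective _)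
    rw [h2] at h4
    exact Group.isSolvable_of_isSolvable_injective (f := (topEquiv (G := A)).symm.toMonoidHom)
      (topEquiv (G := A)).symm.injective

/-- the core: a normal subgroup `R ≤ N` of order prime to `p` with nonsolvable centralizer is trivial -/
theorem eq_bot_of_cent (h : Cfsg.Agent.BpSpor.M5.Rad p z x N f) (hp2 : p ≠ 2)
    {k : ↥(centralizer ({z} : Set D))} (hk : (k : D) * k = z) {R : Subgroup D} [hRn : R.Normal] (hRN : R ≤ N)
    (hRp : ∀ m ∈ R, ∀ i : ℤ, m = x ^ i → m = 1) (hNC : ∀ n ∈ N, ∀ m ∈ R, n * m = m * n)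
    (hs : ¬ Group.IsSolvable ↥(centralizer (R : Set D))) : R = ⊥ := by
  have hCn : (centralizer (R : Set D)).Normal := inferInstance
  have hNle : N ≤ centralizer (R : Set D) := by
    intro n hn
    rw [mem_centralizer_iff]
    intro m hm
    exact (hNC n hn m hm).symm
  obtain ⟨c, hc1, n, hn, hz⟩ := h.z_mem_sup hp2 hk _ hs
  have hzC : z ∈ centralizer (R : Set D) := by
    rw [hz]
    exact mul_mem hc1 (hNle hn)
  rw [eq_bot_iff]
  intro m hm
  have hmz : m * z = z * m := mem_centralizer_iff.1 hzC m hm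
  obtain ⟨i, hi⟩ := mem_zpowers_iff.1 (h.cN m (hRN hm) hmz)
  exact mem_bot.2 (hRp m hm i hi.symm)

/-- the normal Sylow `r`-subgroup of `N` -/
theorem exists_R (h : Cfsg.Agent.BpSpor.M5.Rad p z x N f) (hp2 : p ≠ 2) {r : ℕ} (hr : r.Prime) (hrp : r ≠ p) :
    ∃ R : Subgroup D, R.Normal ∧ R ≤ N ∧ IsPGroup r ↥R ∧ (r ∣ Nat.card ↥N → r ∣ Nat.card ↥R) ∧
      (∀ m ∈ R, ∀ i : ℤ, m = x ^ i → m = 1) ∧ ∀ n ∈ N, ∀ m ∈ R, n * m = m * n := by
  have : Fact r.Prime := ⟨hr⟩
  have hNn := h.nN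
  have hnil : Group.IsNilpotent ↥N := h.isNilpotent hp2
  obtain ⟨P⟩ : Nonempty (Sylow r ↥N) := inferInstance
  have hPn : (P : Subgroup ↥N).Normal := inferInstance
  have hPc : (P : Subgroup ↥N).Characteristic := Sylow.characteristic_of_normal P hPn
  have hRn : ((P : Subgroup ↥N).map N.subtype).Normal := ConjAct.normal_of_characteristic_of_normal
  have hRN : (P : Subgroup ↥N).map N.subtype ≤ N := map_subtype_le _
  have hRp : IsPGroup r ↥((P : Subgroup ↥N).map N.subtype) := P.isPGroup'.map _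
  have hcop : ∀ m ∈ (P : Subgroup ↥N).map N.subtype, ∀ i : ℤ, m = x ^ i → m = 1 := by
    intro m hm i hi
    obtain ⟨j, hj⟩ := hRp ⟨m, hm⟩
    have hmr : m ^ r ^ j = 1 := congrArg Subtype.val hj
    have hmp : m ^ p = 1 := by
      rw [hi, ← zpow_natCast, ← zpow_mul, mul_comm, zpow_mul, zpow_natCast, ← h.ox, pow_orderOf_eq_one, one_zpow]
    have h3 : orderOf m ∣ Nat.gcd (r ^ j) p := Nat.dvd_gcd (orderOf_dvd_of_pow_eq_one hmr) (orderOf_dvd_of_pow_eq_one hmp)
    rw [(((Nat.coprime_primes hr hp.out).2 hrp).pow_left j), Nat.dvd_one, orderOf_eq_one_iff] at h3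
    exact h3
  refine ⟨(P : Subgroup ↥N).map N.subtype, hRn, hRN, hRp, ?_, hcop, ?_⟩
  · intro hrN
    rw [card_map_of_injective N.subtype_injective]
    exact P.dvd_card_of_dvd_card hrN
  · intro n hn m hm
    obtain ⟨i, hi⟩ := h.comm hp2 hn (hRN hm)
    have h1 : m⁻¹ * (n * m * n⁻¹) ∈ (P : Subgroup ↥N).map N.subtype :=
      mul_mem (inv_mem hm) (hRn.conj_mem m hm n)
    have h2 := hcop _ h1 i (by rw [hi]; group)
    rw [inv_mul_eq_one, eq_comm, mul_inv_eq_iff_eq_mul] at h2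
    exact h2

/-- **`r ∤ |N|`** -/
theorem not_dvd_N (h : Cfsg.Agent.BpSpor.M5.Rad p z x N f) (hAc : ¬ Group.IsSolvable A) (hp2 : p ≠ 2)
    {k : ↥(centralizer ({z} : Set D))} (hk : (k : D) * k = z) {r q n : ℕ} (hr : r.Prime) (hrp : r ≠ p)
    (hq : q.Prime) (hqr : q ≠ r) (hqA : q ∣ Nat.card A) (hn : ¬ r ^ (n + 1) ∣ Nat.card ↥N)
    (hdiv : ∀ i, 1 ≤ i → i ≤ n → ¬ q ∣ r ^ i - 1) : ¬ r ∣ Nat.card ↥N := by
  intro hd
  have : Fact r.Prime := ⟨hr⟩
  have : Fact q.Prime := ⟨hq⟩
  obtain ⟨R, hRn, hRN, hRp, hRc, hcop, hNC⟩ := exists_R h hp2 hr hrp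
  have hfA : Finite A := Finite.of_surjective f h.surj
  -- the order of `R`
  have hRd : Nat.card ↥R ∣ r ^ n := by
    obtain ⟨j, hj⟩ := IsPGroup.iff_card.1 hRp
    rw [hj]
    refine pow_dvd_pow r ?_
    by_contra hcon
    apply hn
    refine (pow_dvd_pow r (by omega : n + 1 ≤ j)).trans ?_
    rw [← hj]
    exact card_dvd_of_le hRN
  -- an element of `A` of order `q`
  obtain ⟨a, ha⟩ := exists_prime_orderOf_dvd_card' (G := A) q hqA
  obtain ⟨c₀, hc₀⟩ := h.surj a
  obtain ⟨e, m, hm, hm2⟩ := Nat.exists_eq_pow_mul_and_not_dvd (n := orderOf c₀) (orderOf_pos c₀).ne' q hq.ne_one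
  have h1 : f (c₀ ^ m) ≠ 1 := by
    rw [map_pow, hc₀]
    intro h2
    exact hm (ha ▸ orderOf_dvd_of_pow_eq_one h2)
  have h2 : ((c₀ ^ m : ↥(centralizer ({z} : Set D))) : D) ^ q ^ e = 1 := by
    have h3 : (c₀ ^ m) ^ q ^ e = 1 := by
      rw [← pow_mul, mul_comm, ← hm2, pow_orderOf_eq_one]
    exact congrArg Subtype.val h3
  have h3 : ((c₀ ^ m : ↥(centralizer ({z} : Set D))) : D) ∈ centralizer (R : Set D) := by
    rw [mem_centralizer_iff]
    intro g hg
    have h4 := H794.MonSec.acts_trivially_pow hqr hdiv hRp hRd h2 (fun g hg => hRn.conj_mem g hg _) g hg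
    rw [mul_inv_eq_iff_eq_mul] at h4
    exact h4.symm
  have hCn : (centralizer (R : Set D)).Normal := inferInstance
  have h4 := not_solvable_of_mem h hAc (centralizer (R : Set D)) h3 h1
  have h5 := eq_bot_of_cent h hp2 hk hRN hcop hNC h4
  have h6 := hRc hd
  rw [h5, card_bot] at h6
  exact hr.one_lt.ne' (Nat.dvd_one.1 h6)

/-- **`r ∤ |N|`**, by the order of the automorphism group of an elementary abelian group -/
theorem not_dvd_N' (h : Cfsg.Agent.BpSpor.M5.Rad p z x N f) (hAc : ¬ Group.IsSolvable A) (hp2 : p ≠ 2)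
    {k : ↥(centralizer ({z} : Set D))} (hk : (k : D) * k = z) {r q n e s : ℕ} (hr : r.Prime) (hrp : r ≠ p)
    (hq : q.Prime) (hqA : q ^ s ∣ Nat.card A) (hes : e < s) (hn : ¬ r ^ (n + 1) ∣ Nat.card ↥N)
    (hdiv : ∀ j, 1 ≤ j → j ≤ n → ¬ q ^ (e + 1) ∣ ∏ i : Fin j, (r ^ j - r ^ (i : ℕ))) : ¬ r ∣ Nat.card ↥N := by
  intro hd
  have : Fact r.Prime := ⟨hr⟩
  have : Fact q.Prime := ⟨hq⟩
  obtain ⟨R, hRn, hRN, hRp, hRc, hcop, hNC⟩ := exists_R h hp2 hr hrp
  have hfA : Finite A := Finite.of_surjective f h.surj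
  have hRcomm : ∀ a ∈ R, ∀ b ∈ R, a * b = b * a := fun a ha b hb => hNC a (hRN ha) b hb
  -- the elements of order `r`
  let R₁ : Subgroup D :=
    { carrier := {m | m ∈ R ∧ m ^ r = 1}
      one_mem' := ⟨R.one_mem, one_pow _⟩
      mul_mem' := fun {a b} ha hb => ⟨R.mul_mem ha.1 hb.1, by
        have hc : Commute a b := hRcomm a ha.1 b hb.1
        rw [hc.mul_pow, ha.2, hb.2, one_mul]⟩
      inv_mem' := fun {a} ha => ⟨R.inv_mem ha.1, by rw [inv_pow, ha.2, inv_one]⟩ }
  have hR₁ : R₁ ≤ R := fun m hm => hm.1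
  have hR₁n : R₁.Normal := ⟨fun m hm g => ⟨hRn.conj_mem m hm.1 g, by rw [conj_pow, hm.2, mul_one, mul_inv_cancel]⟩⟩
  have hR₁p : IsPGroup r ↥R₁ := hRp.to_le hR₁
  obtain ⟨j, hj⟩ := IsPGroup.iff_card.1 hR₁p
  have hj1 : 1 ≤ j := by
    obtain ⟨⟨w, hw⟩, hwo⟩ := exists_prime_orderOf_dvd_card' r (hRc hd)
    rw [Subgroup.orderOf_mk] at hwo
    have hwR : w ∈ R₁ := ⟨hw, by rw [← hwo, pow_orderOf_eq_one]⟩
    by_contra hcon
    have h0 : j = 0 := by omega
    rw [h0, pow_zero] at hj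
    have h1 := (eq_bot_of_card_eq R₁ hj)
    rw [h1] at hwR
    rw [mem_bot.1 hwR, orderOf_one] at hwo
    exact hr.one_lt.ne hwo
  have hjn : j ≤ n := by
    by_contra hcon
    apply hn
    refine (pow_dvd_pow r (by omega : n + 1 ≤ j)).trans ?_
    rw [← hj]
    exact card_dvd_of_le (hR₁.trans hRN)
  have hAut : ¬ q ^ (e + 1) ∣ Nat.card (MulAut ↥R₁) := by
    rw [Cfsg.Agent.Transfer.ElemAbAut.card_mulAut (T := ↥R₁) r j
      (fun a b => Subtype.ext (hRcomm a a.2.1 b b.2.1)) (fun a => Subtype.ext a.2.2) hj]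
    exact hdiv j hj1 hjn
  -- a Sylow `q`-subgroup of `C(z)`
  obtain ⟨P⟩ : Nonempty (Sylow q ↥(centralizer ({z} : Set D))) := inferInstance
  let φ : ↥(centralizer ({z} : Set D)) →* MulAut ↥R₁ := MulAut.conjNormal.comp (centralizer ({z} : Set D)).subtype
  have hPf : q ^ s ∣ Nat.card ↥((P : Subgroup ↥(centralizer ({z} : Set D))).map f) := by
    have h1 := (P.mapSurjective h.surj).pow_dvd_card_of_pow_dvd_card hqA
    exact h1
  obtain ⟨c, hcP, hc1, hfc⟩ : ∃ c ∈ (P : Subgroup ↥(centralizer ({z} : Set D))), φ c = 1 ∧ f c ≠ 1 := by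
    by_contra hcon
    push Not at hcon
    have h1 : Nat.card ↥((P : Subgroup ↥(centralizer ({z} : Set D))).map f) ∣
        Nat.card ↥((P : Subgroup ↥(centralizer ({z} : Set D))).map φ) := by
      have e1 : Nat.card ↥((P : Subgroup ↥(centralizer ({z} : Set D))).map f) =
          (f.comp (P : Subgroup ↥(centralizer ({z} : Set D))).subtype).ker.index := by
        rw [index_ker, MonoidHom.range_comp, range_subtype]
      have e2 : Nat.card ↥((P : Subgroup ↥(centralizer ({z} : Set D))).map φ) =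
          (φ.comp (P : Subgroup ↥(centralizer ({z} : Set D))).subtype).ker.index := by
        rw [index_ker, MonoidHom.range_comp, range_subtype]
      rw [e1, e2]
      refine index_dvd_of_le ?_
      intro c hc
      exact MonoidHom.mem_ker.2 (hcon c c.2 (MonoidHom.mem_ker.1 hc))
    apply hAut
    have h2 : Nat.card ↥((P : Subgroup ↥(centralizer ({z} : Set D))).map φ) ∣ Nat.card (MulAut ↥R₁) :=
      card_subgroup_dvd_card _
    exact ((pow_dvd_pow q (by omega : e + 1 ≤ s)).trans (hPf.trans h1)).trans h2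
  have h3 : (c : D) ∈ centralizer (R₁ : Set D) := by
    rw [mem_centralizer_iff]
    intro g hg
    have h4 : φ c ⟨g, hg⟩ = ⟨g, hg⟩ := by rw [hc1]; rfl
    have h5 : (c : D) * g * (c : D)⁻¹ = g := congrArg Subtype.val h4
    rw [mul_inv_eq_iff_eq_mul] at h5
    exact h5.symm
  have h4 := not_solvable_of_mem h hAc (centralizer (R₁ : Set D)) h3 hfc
  have h5 := eq_bot_of_cent h hp2 hk (hR₁.trans hRN) (fun m hm => hcop m (hR₁ hm))
    (fun n hn m hm => hNC n hn m (hR₁ hm)) h4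
  rw [h5, card_bot] at hj
  exact absurd hj (Nat.one_lt_pow (by omega) hr.one_lt).ne

/-- abelian subgroups in the situation `Rad` -/
theorem card_le (h : Cfsg.Agent.BpSpor.M5.Rad p z x N f) (hAc : ¬ Group.IsSolvable A) {b : ℕ} (hb : AbLE b A)
    {B : Subgroup D} (hB : IsMulCommutative B) :
    Nat.card ↥B ≤ Nat.card ↥(B ⊓ N : Subgroup D) * (2 * b) := by
  have hN := h.nN
  have hfA : Finite A := Finite.of_surjective f h.surj
  let α : ↥(centralizer ({z} : Set D)) →* D ⧸ N := (QuotientGroup.mk' N).comp (centralizer ({z} : Set D)).subtype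
  have hα : Function.Surjective α := by
    intro y
    obtain ⟨g, rfl⟩ := QuotientGroup.mk'_surjective N y
    obtain ⟨n, hn, c, hc, rfl⟩ := h.sup g
    refine ⟨⟨c, mem_centralizer_singleton_iff.2 hc⟩, ?_⟩
    show QuotientGroup.mk' N c = QuotientGroup.mk' N (n * c)
    rw [map_mul, show QuotientGroup.mk' N n = 1 from (QuotientGroup.eq_one_iff n).2 hn, one_mul]
  have hx : ∀ i : ℤ, ∀ hi : x ^ i ∈ centralizer ({z} : Set D), f ⟨x ^ i, hi⟩ = 1 := by
    intro i hi
    refine h.f_central hAc fun g => Subtype.ext ?_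
    exact h.xzc i g
  have hker : α.ker ≤ f.ker := by
    intro c hc
    have h1 : (c : D) ∈ N := (QuotientGroup.eq_one_iff _).1 hc
    obtain ⟨i, hi⟩ := mem_zpowers_iff.1 (h.cN c h1 (mem_centralizer_singleton_iff.1 c.2))
    have h2 : c = ⟨x ^ i, by rw [hi]; exact c.2⟩ := Subtype.ext hi.symm
    rw [MonoidHom.mem_ker, h2]
    exact hx i _
  let g : D ⧸ N →* A := MonoidHom.liftOfSurjective α hα ⟨f, hker⟩
  have hg : ∀ c, g (α c) = f c := fun c => MonoidHom.liftOfRightInverse_comp_apply α _ (Function.rightInverse_surjInv hα) ⟨f, hker⟩ c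
  have hgk : Nat.card ↥g.ker ≤ 2 := by
    classical
    let F : ↥g.ker → Bool := fun y => decide ((y : D ⧸ N) = 1)
    have hF : ∀ y ∈ g.ker, y = 1 ∨ y = QuotientGroup.mk' N z := by
      intro y hy
      obtain ⟨c, rfl⟩ := hα y
      rw [MonoidHom.mem_ker, hg] at hy
      obtain ⟨i, hi | hi⟩ := h.ker c hy
      · left
        show QuotientGroup.mk' N c = 1
        rw [hi]
        exact (QuotientGroup.eq_one_iff _).2 (N.zpow_mem h.xN i)
      · right
        show QuotientGroup.mk' N c = _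
        rw [hi, map_mul, show QuotientGroup.mk' N (x ^ i) = 1 from (QuotientGroup.eq_one_iff _).2 (N.zpow_mem h.xN i),
          one_mul]
    have hFi : Function.Injective F := by
      intro a b hab
      have h1 : ((a : D ⧸ N) = 1) ↔ ((b : D ⧸ N) = 1) := by simpa only [F, decide_eq_decide] using hab
      apply Subtype.ext
      rcases hF a a.2 with ha | ha
      · rw [ha, h1.1 ha]
      · rcases hF b b.2 with hb | hb
        · rw [hb, h1.2 hb]
        · rw [ha, hb]
    have h3 := Nat.card_le_card_of_injective F hFi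
    rwa [Nat.card_eq_fintype_card (α := Bool), Fintype.card_bool] at h3
  have hDN : AbLE (b * 2) (D ⧸ N) := of_hom' g hb hgk
  -- the image of `B`
  let β : ↥B →* D ⧸ N := (QuotientGroup.mk' N).comp B.subtype
  have h1 : Nat.card ↥B = Nat.card ↥β.range * Nat.card ↥β.ker := by
    rw [Subgroup.card_eq_card_quotient_mul_card_subgroup β.ker]
    congr 1
    exact Nat.card_congr (QuotientGroup.quotientKerEquivRange β).toEquiv
  have h2 : Nat.card ↥β.range ≤ b * 2 := by
    refine hDN _ ?_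
    rw [comm_iff]
    rintro _ ⟨y, rfl⟩ _ ⟨y', rfl⟩
    rw [← map_mul, ← map_mul]
    congr 1
    exact hB.is_comm.comm y y'
  have h3 : Nat.card ↥β.ker ≤ Nat.card ↥(B ⊓ N : Subgroup D) := by
    refine Nat.card_le_card_of_injective (fun y : ↥β.ker => (⟨((y : ↥B) : D), (y : ↥B).2, ?_⟩ : ↥(B ⊓ N : Subgroup D))) ?_
    · exact (QuotientGroup.eq_one_iff _).1 (MonoidHom.mem_ker.1 y.2)
    · intro a b hab
      have h5 : ((a : ↥B) : D) = ((b : ↥B) : D) := congrArg (fun t : ↥(B ⊓ N : Subgroup D) => (t : D)) hab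
      exact Subtype.ext (Subtype.ext h5)
  rw [h1, mul_comm]
  calc Nat.card ↥β.ker * Nat.card ↥β.range ≤ Nat.card ↥(B ⊓ N : Subgroup D) * (b * 2) := Nat.mul_le_mul h3 h2
    _ = _ := by ring

end Cfsg.Agent.H199.AbRad
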