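import Cfsg.Agent.H199.NSmM
import Cfsg.Agent.H393.Iso.Baby

/-!
# The Baby Monster and the Monster: nilpotent subgroups (helper199; rows `B`, `M` of S2242)
-/

set_option autoImplicit false
set_option maxRecDepth 100000

namespace Cfsg.Agent.H199.NSmB

open Subgroup
open Cfsg Cfsg.Lie Cfsg.Agent.Bimonster Cfsg.Agent.BabyU Cfsg.Agent.TwoESix.Cover
open Cfsg.Agent.MonsterX.KSide Cfsg.Agent.MonsterX.KLift Cfsg.Agent.MonsterX.KModel
open Cfsg.Agent.MonsterX.Model Cfsg.Agent.MonsterX.MainPack Cfsg.Agent.MonsterX.MainSimple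
open Cfsg.Agent.MonsterX.MainBasic Cfsg.Agent.MonsterU.Assembly Cfsg.Agent.MonsterN Cfsg.Agent.MonsterN.Lit
open Cfsg.Agent.MonsterN.LitInst Cfsg.Agent.MonsterU.Lam2 Cfsg.Agent.MonsterU.TwoCls
open Cfsg.Agent.BabyComp Cfsg.Agent.BabyComp.Main Cfsg.Agent.BabyComp.BaseTwo Cfsg.Agent.R01.Lifts
open Cfsg.Agent.BpSpor.MBigModel Cfsg.Agent.H199.NSmMon Cfsg.Agent.H199.NSmAbs Cfsg.Agent.H199.NSmTool
open Cfsg.Agent.H972
open Cfsg.Agent.H972.NSm hiding Small

universe u

/-- nilpotent subgroups of a quotient by a central subgroup of order two -/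
theorem nle_down {H K : Type*} [Group H] [Finite H] [Group K] {q : H →* K} {τ : H} (hq : Ext q τ) {b : ℕ}
    {C : Subgroup K} (h : NLE (2 * b) ↥(C.comap q)) : NLE b ↥C := by
  have hfK : Finite K := Finite.of_surjective q hq.surj
  intro N hN
  set N₀ : Subgroup K := N.map C.subtype with hN₀
  have hN₀n : Group.IsNilpotent ↥N₀ :=
    Group.nilpotent_of_mulEquiv (N.equivMapOfInjective _ C.subtype_injective)
  have hc₀ : Nat.card ↥N₀ = Nat.card ↥N := card_map_of_injective C.subtype_injective
  have hle : N₀ ≤ C := map_subtype_le _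
  -- the preimage
  let f : ↥(N₀.comap q) →* ↥N₀ := q.subgroupComap N₀
  have hf : Function.Surjective f := by
    rintro ⟨y, hy⟩
    obtain ⟨x, rfl⟩ := hq.surj y
    exact ⟨⟨x, hy⟩, rfl⟩
  have hker : ∀ x : ↥(N₀.comap q), f x = 1 ↔ (x : H) = 1 ∨ (x : H) = τ := by
    intro x
    rw [← hq.ker]
    constructor
    · intro h1
      exact congrArg Subtype.val h1
    · intro h1
      exact Subtype.ext h1
  have hkc : f.ker ≤ center ↥(N₀.comap q) := by
    intro x hx
    rw [mem_center_iff]
    intro g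
    apply Subtype.ext
    show (g : H) * x = x * g
    rcases (hker x).1 hx with h1 | h1
    · rw [h1, mul_one, one_mul]
    · rw [h1]
      exact hq.comm g
  have hn : Group.IsNilpotent ↥(N₀.comap q) := Subgroup.isNilpotent_of_ker_le_center f hkc
  have h2 : 2 * Nat.card ↥N ≤ Nat.card ↥(N₀.comap q) := by
    rw [← hc₀, ← Nat.card_congr (QuotientGroup.quotientKerEquivOfSurjective f hf).toEquiv,
      Subgroup.card_eq_card_quotient_mul_card_subgroup f.ker, mul_comm]
    refine Nat.mul_le_mul_left _ ?_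
    -- the kernel has two elements
    have hτ : τ ∈ N₀.comap q := by
      rw [mem_comap, hq.mapz]
      exact one_mem _
    let g : Bool → ↥f.ker := fun b => if b then ⟨⟨τ, hτ⟩, (hker _).2 (Or.inr rfl)⟩ else 1
    have hg : Function.Injective g := by
      have h1 : g true ≠ g false := by
        intro h1
        have h2 : ((g true : ↥(N₀.comap q)) : H) = (((g false : ↥f.ker) : ↥(N₀.comap q)) : H) := by rw [h1]
        exact hq.zne h2
      intro a b hab
      rcases a with _ | _ <;> rcases b with _ | _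
      · rfl
      · exact absurd hab.symm h1
      · exact absurd hab h1
      · rfl
    have h3 := Nat.card_le_card_of_injective g hg
    rwa [Nat.card_eq_fintype_card (α := Bool), Fintype.card_bool] at h3
  have h4 := h.apply hn (comap_mono hle)
  omega

/-- **Nilpotent subgroups of `C(w) ∩ C(v)`**, `w` conjugate to `z`. -/
theorem nle_zt (hC : NSm.Small Spor.Co1) {w v : MG} (hw : IsConj zz w) (hv : v ≠ 1) (hvw : v ≠ w) (hc : v * w = w * v) :
    NLE 34209795808428032 ↥(centralizer ({w} : Set MG) ⊓ centralizer ({v} : Set MG) : Subgroup MG) := by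
  have := finite
  -- the case `w = z`
  have key : ∀ v : MG, v ≠ 1 → v ≠ zz → v * zz = zz * v →
      NLE 34209795808428032 ↥(centralizer ({zz} : Set MG) ⊓ centralizer ({v} : Set MG) : Subgroup MG) := by
    intro v hv hvz hvc
    have hCo : NLE 2039062727 Spor.Co1 := hC.nle (by rw [Cfsg.Agent.S0399.result.2]; norm_num)
    let f : ↥(centralizer ({zz} : Set MG) ⊓ centralizer ({v} : Set MG) : Subgroup MG) →* Spor.Co1 :=
      pi.comp (inclusion inf_le_left)
    have h1 : NLE (Nat.card ↥f.ker * 2039062727) ↥(centralizer ({zz} : Set MG) ⊓ centralizer ({v} : Set MG) : Subgroup MG) :=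
      hCo.of_hom f
    refine h1.mono ?_
    have h2 : Nat.card ↥f.ker ≤ 2 ^ 24 := by
      -- the kernel of `pi`
      have hpk : Nat.card ↥pi.ker = 2 ^ 25 := by
        have h3 := Subgroup.card_eq_card_quotient_mul_card_subgroup pi.ker
        rw [Nat.card_congr (QuotientGroup.quotientKerEquivOfSurjective pi chart.pi_surj).toEquiv, card_cent_z,
          Cfsg.Agent.S0399.result.2] at h3
        have h4 : (2 ^ 25 : ℕ) * 4157776806543360000 = Nat.card ↥pi.ker * 4157776806543360000 := by
          rw [h3, mul_comm]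
        exact (Nat.eq_of_mul_eq_mul_right (by norm_num) h4).symm
      let g : ↥f.ker →* ↥pi.ker := ((inclusion inf_le_left).comp f.ker.subtype).codRestrict pi.ker (fun x => x.2)
      have hg : Function.Injective g := by
        intro a b hab
        apply Subtype.ext
        apply Subtype.ext
        exact congrArg (fun t : ↥pi.ker => (((t : ↥(centralizer ({zz} : Set MG))) : MG))) hab
      have h4 : Nat.card ↥g.range ∣ 2 ^ 25 := by
        rw [← hpk]
        exact card_subgroup_dvd_card _
      have h5 : Nat.card ↥f.ker = Nat.card ↥g.range := Nat.card_congr (g.ofInjective hg).toEquiv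
      rw [h5]
      obtain ⟨k, hk, hk'⟩ := (Nat.dvd_prime_pow Nat.prime_two).1 h4
      rw [hk']
      refine Nat.pow_le_pow_right (by norm_num) ?_
      by_contra hcon
      have hk25 : k = 25 := by omega
      rw [hk25, ← hpk] at hk'
      have htop : g.range = ⊤ := Subgroup.eq_top_of_card_eq _ hk'
      have hall : ∀ x ∈ Cfsg.Agent.MonsterX.KDone.K.ι.range, v * x = x * v := by
        intro x hx
        have hxz : x ∈ centralizer ({zz} : Set MG) := mem_centralizer_singleton_iff.2 (chart.large.comm_z x hx)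
        have hxk : (⟨x, hxz⟩ : ↥(centralizer ({zz} : Set MG))) ∈ pi.ker := (chart.pi_eq_one _).2 hx
        have h6 : (⟨⟨x, hxz⟩, hxk⟩ : ↥pi.ker) ∈ g.range := by rw [htop]; trivial
        obtain ⟨y, hy⟩ := h6
        have h7 : (((y : ↥f.ker) : ↥(centralizer ({zz} : Set MG) ⊓ centralizer ({v} : Set MG) : Subgroup MG)) : MG) = x :=
          congrArg (fun t : ↥pi.ker => (((t : ↥(centralizer ({zz} : Set MG))) : MG))) hy
        have h8 := mem_centralizer_singleton_iff.1 (y : ↥(centralizer ({zz} : Set MG) ⊓ centralizer ({v} : Set MG) : Subgroup MG)).2.2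
        rw [h7] at h8
        exact h8.symm
      have hvQ := chart.large.self v hvc hall
      rcases chart.large.cent v hvQ hall with h9 | h9
      · exact hv h9
      · exact hvz h9
    calc Nat.card ↥f.ker * 2039062727 ≤ 2 ^ 24 * 2039062727 := Nat.mul_le_mul_right _ h2
      _ = _ := by norm_num
  obtain ⟨g, rfl⟩ := isConj_iff.1 hw
  have h1 := key (g⁻¹ * v * g) ?_ ?_ ?_
  · -- conjugation
    let f : ↥(centralizer ({g * zz * g⁻¹} : Set MG) ⊓ centralizer ({v} : Set MG) : Subgroup MG) →*
        ↥(centralizer ({zz} : Set MG) ⊓ centralizer ({g⁻¹ * v * g} : Set MG) : Subgroup MG) :=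
      ((MulAut.conj g⁻¹).toMonoidHom.comp
        (centralizer ({g * zz * g⁻¹} : Set MG) ⊓ centralizer ({v} : Set MG) : Subgroup MG).subtype).codRestrict _ (by
        rintro ⟨x, hx⟩
        have hx1 := mem_centralizer_singleton_iff.1 hx.1
        have hx2 := mem_centralizer_singleton_iff.1 hx.2
        refine ⟨mem_centralizer_singleton_iff.2 ?_, mem_centralizer_singleton_iff.2 ?_⟩
        · show g⁻¹ * x * g⁻¹⁻¹ * zz = zz * (g⁻¹ * x * g⁻¹⁻¹)
          calc g⁻¹ * x * g⁻¹⁻¹ * zz = g⁻¹ * (x * (g * zz * g⁻¹)) * g := by group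
            _ = g⁻¹ * ((g * zz * g⁻¹) * x) * g := by rw [hx1]
            _ = _ := by group
        · show g⁻¹ * x * g⁻¹⁻¹ * (g⁻¹ * v * g) = (g⁻¹ * v * g) * (g⁻¹ * x * g⁻¹⁻¹)
          calc g⁻¹ * x * g⁻¹⁻¹ * (g⁻¹ * v * g) = g⁻¹ * (x * v) * g := by group
            _ = g⁻¹ * (v * x) * g := by rw [hx2]
            _ = _ := by group)
    refine h1.of_injective (f := f) ?_
    intro a b hab
    have h2 : g⁻¹ * (a : MG) * g⁻¹⁻¹ = g⁻¹ * (b : MG) * g⁻¹⁻¹ := congrArg Subtype.val hab
    exact Subtype.ext (mul_left_cancel (mul_right_cancel h2))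
  · intro h2
    apply hv
    calc v = g * (g⁻¹ * v * g) * g⁻¹ := by group
      _ = 1 := by rw [h2]; group
  · intro h2
    apply hvw
    rw [← h2]
    group
  · calc g⁻¹ * v * g * zz = g⁻¹ * (v * (g * zz * g⁻¹)) * g := by group
      _ = g⁻¹ * ((g * zz * g⁻¹) * v) * g := by rw [hc]
      _ = _ := by group

/-- **The centralizer of a transposition.** -/
theorem nle_t (hE : ∀ (K : Type) [Field K] [Fintype K], Fintype.card K = 4 → NSm.Small (twistedE6 K 2))
    {s : Spor.BabyMonster} (hs : IsConj s (PresentedGroup.of Spor.BabyMonster.Gen.t1 : Spor.BabyMonster)) :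
    NLE 1106580171040 ↥(centralizer ({s} : Set Spor.BabyMonster)) := by
  have := CTwoTab.BInst.finite_B
  obtain ⟨K, iK, iF, hK, t, X₀, σ, H, ht, hc⟩ := CTwoTab.BInst.exists_sec
  refine nle_conj (s := t) (hs.trans ht.symm) ?_
  have hcE := Cfsg.Agent.BM.HBFinal.card_E K hK
  have hE0 : NLE 276645042760 (twistedE6 K 2) := (hE K hK).nle (by rw [hcE]; norm_num)
  have hker : Nat.card ↥σ.ker ≤ 2 := by
    classical
    let f : ↥σ.ker → Bool := fun x => decide (((x : ↥X₀) : Spor.BabyMonster) = 1)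
    have hf : Function.Injective f := by
      intro x y hxy
      have h1 : (((x : ↥X₀) : Spor.BabyMonster) = 1) ↔ (((y : ↥X₀) : Spor.BabyMonster) = 1) := by
        simpa only [f, decide_eq_decide] using hxy
      apply Subtype.ext
      apply Subtype.ext
      rcases (H.ker _).1 x.2 with hx | hx
      · rw [hx, h1.1 hx]
      · rcases (H.ker _).1 y.2 with hy | hy
        · rw [hy, h1.2 hy]
        · rw [hx, hy]
    have h3 := Nat.card_le_card_of_injective f hf
    rwa [Nat.card_eq_fintype_card (α := Bool), Fintype.card_bool] at h3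
  have hX : NLE (2 * 276645042760) ↥X₀ := (hE0.of_hom σ).mono (Nat.mul_le_mul_right _ hker)
  have hle : X₀ ≤ centralizer ({t} : Set Spor.BabyMonster) := fun m hm =>
    mem_centralizer_singleton_iff.2 (H.comm m hm)
  have hX' : NLE (2 * 276645042760) ↥(X₀.subgroupOf (centralizer ({t} : Set Spor.BabyMonster))) :=
    hX.congr (subgroupOfEquivOfLe hle).symm
  refine (NLE.of_index hX').mono ?_
  have h1 : (X₀.subgroupOf (centralizer ({t} : Set Spor.BabyMonster))).index ≤ 2 := by
    have h2 := (X₀.subgroupOf (centralizer ({t} : Set Spor.BabyMonster))).card_mul_index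
    rw [hc, Nat.card_congr (subgroupOfEquivOfLe hle).toEquiv] at h2
    have h3 := Subgroup.card_eq_card_quotient_mul_card_subgroup σ.ker
    rw [Nat.card_congr (QuotientGroup.quotientKerEquivOfSurjective σ H.surj).toEquiv, hcE] at h3
    have h4 : 2 ≤ Nat.card ↥σ.ker := by
      have h5 : Nontrivial ↥σ.ker := by
        refine ⟨⟨⟨t, H.mem⟩, (H.ker _).2 (Or.inr rfl)⟩, 1, ?_⟩
        intro h6
        exact H.t_ne (congrArg (fun x : ↥σ.ker => ((x : ↥X₀) : Spor.BabyMonster)) h6)
      exact Finite.one_lt_card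
    have h5 : Nat.card ↥σ.ker = 2 := le_antisymm hker h4
    rw [h5] at h3
    rw [h3] at h2
    norm_num at h2
    omega
  calc _ ≤ 2 * (2 * 276645042760) := Nat.mul_le_mul_right _ h1
    _ = _ := by norm_num

/-- **Nilpotent subgroups of the centralizers of the involutions of the Baby Monster.** -/
theorem nle_inv (hE : ∀ (K : Type) [Field K] [Fintype K], Fintype.card K = 4 → NSm.Small (twistedE6 K 2))
    (hC : NSm.Small Spor.Co1) {u : Spor.BabyMonster} (hu : orderOf u = 2) :
    NLE 34209795808428032 ↥(centralizer ({u} : Set Spor.BabyMonster)) := by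
  refine CTwoTab.BInst.elim ?_
  intro K _ _ hK hF _ _ _ _ q y h π f₁ f₂ f₃ f₄ M₁' hq h10 DK Fc hz hcz hcd hL hc5 big hq5 hcard Bs' hr
  obtain ⟨M₁, B2⟩ := BaseTwo.exists_base2 hq5
  have Bs : Base (q (y 5)) M₁ := B2.toBase
  have hT := nle_t hE hq5
  have huu : u * u = 1 := by rw [← pow_two, ← hu, pow_orderOf_eq_one]
  have hu1 : u ≠ 1 := by
    rintro rfl
    rw [orderOf_one] at hu
    omega
  -- lifts conjugate to `z`
  have lift : ∀ w : BB Cfsg.Agent.MonsterX.KDone.K Cfsg.Agent.MonsterX.KLinkInst.x₀, q w ≠ 1 →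
      IsConj zz ((BB _ _).subtype w) → NLE 34209795808428032 ↥(centralizer ({q w} : Set Spor.BabyMonster)) := by
    intro w hw1 hzw
    refine nle_down hq ?_
    refine nle_of_pair (a := w) (a' := w * tb _ _) (fun x hx => ?_) ?_
    · rw [mem_comap, mem_centralizer_singleton_iff, ← map_mul, ← map_mul] at hx
      rcases hq.map_eq.1 hx with h1 | h1
      · exact Or.inl h1
      · right
        rw [h1, mul_assoc, mul_assoc, ← hq.comm x⁻¹, mul_inv_cancel_left]
    · -- into the Monster
      have h1 := nle_zt hC hzw (v := (BB Cfsg.Agent.MonsterX.KDone.K Cfsg.Agent.MonsterX.KLinkInst.x₀).subtype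
        (tb Cfsg.Agent.MonsterX.KDone.K Cfsg.Agent.MonsterX.KLinkInst.x₀)) ?_ ?_ ?_
      · let f : ↥(centralizer ({w} : Set ↥(BB Cfsg.Agent.MonsterX.KDone.K Cfsg.Agent.MonsterX.KLinkInst.x₀))) →*
            ↥(centralizer ({(BB _ _).subtype w} : Set MG) ⊓
              centralizer ({(BB Cfsg.Agent.MonsterX.KDone.K Cfsg.Agent.MonsterX.KLinkInst.x₀).subtype (tb _ _)} : Set MG) :
                Subgroup MG) :=
          ((BB _ _).subtype.comp (Subgroup.subtype _)).codRestrict _ (by
            rintro ⟨x, hx⟩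
            refine ⟨mem_centralizer_singleton_iff.2 ?_, mem_centralizer_singleton_iff.2 ?_⟩
            · exact congrArg Subtype.val (mem_centralizer_singleton_iff.1 hx)
            · exact congrArg Subtype.val (hq.comm x))
        refine h1.of_injective (f := f) ?_
        intro a b hab
        have h2 : ((f a : _) : MG) = (f b : _) := congrArg Subtype.val hab
        exact Subtype.ext (Subtype.ext h2)
      · intro h2
        exact hq.zne (Subtype.ext h2)
      · intro h2
        apply hw1
        have h3 : tb Cfsg.Agent.MonsterX.KDone.K Cfsg.Agent.MonsterX.KLinkInst.x₀ = w := Subtype.ext h2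
        rw [← h3, hq.mapz]
      · exact congrArg Subtype.val (hq.comm w).symm
  -- the involutions of `M₁`
  have key : ∀ u : Spor.BabyMonster, u * u = 1 → u ≠ 1 → (∃ h : Spor.BabyMonster, h⁻¹ * u * h ∈ M₁) →
      NLE 34209795808428032 ↥(centralizer ({u} : Set Spor.BabyMonster)) := by
    rintro u huu hu1 ⟨g, hg⟩
    obtain ⟨k, hk, hqk⟩ := M_le hq h10 big Bs _ hg
    have hkk : k * k = 1 := by
      refine lift_sq (Cfsg.Agent.TwoESix.LeviG.rootFacts hK hF) (KeyInst.extra hF) (Cfsg.Agent.TwoESix.RootsInst.roots K hF)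
        hq h10 DK hk ?_
      rw [hqk]
      calc g⁻¹ * u * g * (g⁻¹ * u * g) = g⁻¹ * (u * u) * g := by group
        _ = 1 := by rw [huu]; group
    have hqk1 : q k ≠ 1 := by
      intro e
      apply hu1
      rw [hqk] at e
      calc u = g * (g⁻¹ * u * g) * g⁻¹ := by group
        _ = 1 := by rw [e]; group
    have hk1 : k ≠ 1 := fun e => hqk1 (by rw [e, map_one])
    have hkτ : k ≠ tb _ _ := fun e => hqk1 (by rw [e, hq.mapz])
    have hcu : IsConj u (q k) := isConj_iff.2 ⟨g⁻¹, by rw [hqk, inv_inv]⟩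
    refine nle_conj hcu ?_
    rcases Fc.classes k hkk hk1 hkτ with h1 | h1 | h1 | h1
    · refine (nle_conj (q.map_isConj (hc5.symm.trans h1)).symm hT).mono (by norm_num)
    · have h2 : q k = q (tb _ _ * k) := by rw [map_mul, hq.mapz, one_mul]
      rw [h2]
      exact lift _ (by rw [← h2]; exact hqk1)
        (hcz.trans ((BB _ _).subtype.map_isConj (FusionType.conj_mul_t Fc.cen h1)))
    · exact lift _ hqk1 (hcz.trans ((BB _ _).subtype.map_isConj h1))
    · exact lift _ hqk1 (hcd.trans ((BB _ _).subtype.map_isConj h1))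
  rcases Bs.classes u huu hu1 with hg | ⟨d, hd, hc, hud⟩
  · exact key u huu hu1 hg
  · obtain ⟨g, rfl⟩ := isConj_iff.1 hd
    have htt : q (y 5) * q (y 5) = 1 := by rw [← map_mul, h.sq 5 (by norm_num) (by norm_num), map_one]
    have htM : q (y 5) ∈ M₁ := by
      rw [BaseTwo.Base.eq_map hq h10 big Bs]
      exact ⟨y 5, (mem_KK' hq h10).2 (by group), rfl⟩
    -- `e = g⁻¹ * u * g * t`
    have he1 : IsConj (q (y 5)) (g⁻¹ * u * g * q (y 5)) := by
      refine hud.trans (isConj_iff.2 ⟨g⁻¹, ?_⟩)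
      group
    have hut : g⁻¹ * u * g * q (y 5) = q (y 5) * (g⁻¹ * u * g) := by
      calc g⁻¹ * u * g * q (y 5) = g⁻¹ * (u * (g * q (y 5) * g⁻¹)) * g := by group
        _ = g⁻¹ * ((g * q (y 5) * g⁻¹) * u) * g := by rw [hc]
        _ = _ := by group
    have he2 : q (y 5) * (g⁻¹ * u * g * q (y 5)) = g⁻¹ * u * g := by
      rw [hut, ← mul_assoc, htt, one_mul]
    have he3 : g⁻¹ * u * g * q (y 5) * q (y 5) = g⁻¹ * u * g := by
      rw [mul_assoc, htt, mul_one]
    by_cases heM : g⁻¹ * u * g * q (y 5) ∈ M₁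
    · refine key u huu hu1 ⟨g, ?_⟩
      rw [← he3]
      exact M₁.mul_mem heM htM
    · refine nle_conj (s := g⁻¹ * u * g) (isConj_iff.2 ⟨g⁻¹, by rw [inv_inv]⟩) ?_
      refine (nle_of_pair (a := q (y 5)) (a' := g⁻¹ * u * g * q (y 5)) (fun c hcc => ?_) hT).mono (by norm_num)
      rw [mem_centralizer_singleton_iff] at hcc
      have h1 := B2.uniq (g⁻¹ * u * g * q (y 5)) (c * q (y 5) * c⁻¹) he1 (by rw [he2, he3]) heM
        (isConj_iff.2 ⟨c, rfl⟩) ?_ ?_
      · rcases h1 with h1 | h1
        · left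
          rw [mul_inv_eq_iff_eq_mul] at h1
          exact h1
        · exact Or.inr h1
      · rw [he2]
        calc c * q (y 5) * c⁻¹ * (g⁻¹ * u * g) = c * q (y 5) * (c⁻¹ * (g⁻¹ * u * g) * c) * c⁻¹ := by group
          _ = c * q (y 5) * (c⁻¹ * (c * (g⁻¹ * u * g))) * c⁻¹ := by rw [hcc]; group
          _ = c * (q (y 5) * (g⁻¹ * u * g)) * c⁻¹ := by group
          _ = c * (g⁻¹ * u * g * q (y 5)) * c⁻¹ := by rw [hut]
          _ = c * (g⁻¹ * u * g) * (q (y 5) * c⁻¹) := by group
          _ = (g⁻¹ * u * g) * c * (q (y 5) * c⁻¹) := by rw [hcc]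
          _ = _ := by group
      · rw [he2]
        have h2 : c * q (y 5) * c⁻¹ * (g⁻¹ * u * g) = c * (g⁻¹ * u * g * q (y 5)) * c⁻¹ := by
          have h3 : c⁻¹ * (g⁻¹ * u * g) = g⁻¹ * u * g * c⁻¹ := by
            rw [inv_mul_eq_iff_eq_mul, ← mul_assoc, hcc, mul_inv_cancel_right]
          calc c * q (y 5) * c⁻¹ * (g⁻¹ * u * g) = c * q (y 5) * (c⁻¹ * (g⁻¹ * u * g)) := by group
            _ = c * q (y 5) * (g⁻¹ * u * g * c⁻¹) := by rw [h3]
            _ = c * (q (y 5) * (g⁻¹ * u * g)) * c⁻¹ := by group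
            _ = _ := by rw [← hut]
        rw [h2]
        exact he1.trans (isConj_iff.2 ⟨c, rfl⟩)

theorem card_B : Nat.card Spor.BabyMonster = 4154781481226426191177580544000000 := Cfsg.Agent.S1704.result.2

/-- **Nilpotent subgroups of odd order.** -/
theorem odd_case {N : Subgroup Spor.BabyMonster} (hN : Group.IsNilpotent ↥N) (h2 : ¬ 2 ∣ Nat.card ↥N) :
    Nat.card ↥N ≤ 1185064677671875 := by
  have := CTwoTab.BInst.finite_B
  have := finite
  have h0 : Nat.card ↥N ∣ 2 ^ 41 * (3 ^ 13 * (5 ^ 6 * 7 ^ 2 * 11 * 13 * 17 * 19 * 23 * 31 * 47)) := by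
    have h1 := Subgroup.card_subgroup_dvd_card N
    rw [card_B] at h1
    exact h1.trans (by norm_num)
  have h1 := dvd_of_not_dvd (by norm_num) h2 h0
  by_cases h3 : 3 ∣ Nat.card ↥N
  · obtain ⟨x, hx, -, hle⟩ := exists_le_centralizer hN Nat.prime_three h3
    -- the lift to the Monster
    have hlift : ∃ v : MG, orderOf v = 3 ∧ Ev v ∧ Nat.card ↥N ∣ Nat.card ↥(centralizer ({v} : Set MG)) := by
      refine CTwoTab.BInst.elim ?_
      intro K _ _ hK hF _ _ _ _ q y h π f₁ f₂ f₃ f₄ M₁' hq h10 DK Fc hz hcz hcd hL hc5 big hq5 hcard Bs' hr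
      obtain ⟨b, hb, hb3⟩ := H393.Iso.exists_lift hq Nat.prime_three (by norm_num) hx
      have ho : orderOf ((BB _ _).subtype b) = 3 := by
        rw [← hb3]
        exact orderOf_injective _ (Subgroup.subtype_injective _) b
      refine ⟨(BB _ _).subtype b, ho, ?_, ?_⟩
      · obtain ⟨k, hk, -⟩ := LThreeM.FiRow.exists_z_in (x := (BB _ _).subtype b) (v := (BB _ _).subtype (tb _ _))
          (by rw [← ho, pow_orderOf_eq_one]) (LThreeB.Par.ta_iota LitFin.all Cfsg.Agent.MonsterX.KDone.lnk
            Cfsg.Agent.MonsterX.KDone.lft) (congrArg Subtype.val (hq.comm b))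
        exact ⟨k, hk⟩
      · have h4 : N.comap q ≤ centralizer ({b} : Set _) := by
          intro c hc
          rw [mem_centralizer_singleton_iff]
          have h5 := mem_centralizer_singleton_iff.1 (hle hc)
          refine (H393.Iso.lift_comm hq Nat.prime_three (by norm_num) hb3 ?_).symm
          rw [hb]
          exact h5.symm
        have h5 : Nat.card ↥N ∣ Nat.card ↥(N.comap q) := by
          refine card_dvd_of_surjective (q.subgroupComap N) ?_
          rintro ⟨c, hc⟩
          obtain ⟨d, rfl⟩ := hq.surj c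
          exact ⟨⟨d, hc⟩, rfl⟩
        refine (h5.trans (card_dvd_of_le h4)).trans ?_
        have h6 : (centralizer ({b} : Set _)).map (BB _ _).subtype ≤ centralizer ({(BB _ _).subtype b} : Set MG) := by
          rintro _ ⟨c, hc, rfl⟩
          exact mem_centralizer_singleton_iff.2 (congrArg Subtype.val (mem_centralizer_singleton_iff.1 hc))
        rw [← card_map_of_injective (K := centralizer ({b} : Set _)) (Subgroup.subtype_injective (BB _ _))]
        exact card_dvd_of_le h6
    obtain ⟨v, hv, he, hd⟩ := hlift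
    rcases three hv he with h4 | h4 | h4
    · rw [h4] at hd
      have h5 : Nat.card ↥N ∣ 2 ^ 15 * (3 ^ 11 * 46899125) := hd.trans (by norm_num)
      have h6 := dvd_of_not_dvd (by norm_num) h2 h5
      exact (Nat.le_of_dvd (by norm_num) h6).trans (by norm_num)
    · rw [h4] at hd
      have h5 := Nat.dvd_gcd hd h1
      have h6 : Nat.gcd (3 * 1255205709190661721292800) (3 ^ 13 * (5 ^ 6 * 7 ^ 2 * 11 * 13 * 17 * 19 * 23 * 31 * 47)) =
        109200642826275 := by norm_num
      rw [h6] at h5
      exact (Nat.le_of_dvd (by norm_num) h5).trans (by norm_num)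
    · have hb : ∀ r : ℕ, Big r → ¬ r ∣ Nat.card ↥N := fun r hr h5 => h4 r hr (h5.trans hd)
      have h5 : Nat.card ↥N ∣ 17 ^ 1 * (19 ^ 1 * (23 ^ 1 * (31 ^ 1 * (47 ^ 1 * (3 ^ 13 * 5 ^ 6 * 7 ^ 2 * 11 * 13))))) :=
        h1.trans (by norm_num)
      have h11 := dvd_of_not_dvd (by norm_num) (hb 17 (by unfold Big; simp)) h5
      have h12 := dvd_of_not_dvd (by norm_num) (hb 19 (by unfold Big; simp)) h11
      have h13 := dvd_of_not_dvd (by norm_num) (hb 23 (by unfold Big; simp)) h12
      have h14 := dvd_of_not_dvd (by norm_num) (hb 31 (by unfold Big; simp)) h13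
      have h15 := dvd_of_not_dvd (by norm_num) (hb 47 (by unfold Big; simp)) h14
      exact (Nat.le_of_dvd (by norm_num) h15).trans (by norm_num)
  · exact Nat.le_of_dvd (by norm_num) ((dvd_of_not_dvd (by norm_num) h3 h1).trans (by norm_num))

/-- **The Baby Monster.** -/
theorem small_model (hE : ∀ (K : Type) [Field K] [Fintype K], Fintype.card K = 4 → NSm.Small (twistedE6 K 2))
    (hC : NSm.Small Spor.Co1) : NSm.Small Spor.BabyMonster := by
  have := CTwoTab.BInst.finite_B
  intro N hN
  rw [card_B]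
  by_cases h2 : 2 ∣ Nat.card ↥N
  · obtain ⟨t, ht, -, hle⟩ := exists_le_centralizer hN Nat.prime_two h2
    have h3 := (nle_inv hE hC ht).apply hN hle
    calc Nat.card ↥N ^ 2 ≤ 34209795808428032 ^ 2 := Nat.pow_le_pow_left h3 2
      _ < _ := by norm_num
  · calc Nat.card ↥N ^ 2 ≤ 1185064677671875 ^ 2 := Nat.pow_le_pow_left (odd_case hN h2) 2
      _ < _ := by norm_num

theorem not_comm_of {A : Type*} [Group A] (hA : IsSimpleGroup A) {n : ℕ} (hn : Nat.card A = n) (h2 : 2 ∣ n)
    (h4 : n ≠ 2) : ¬ IsMulCommutative A := by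
  intro hc
  exact not_solvable hA hn h2 h4 (Group.isSolvable_of_comm fun a b => hc.is_comm.comm a b)

/-- `²E₆(2)` and `Co₁` from the induction hypothesis -/
theorem small_b {n : ℕ} (hn : 76532479683774853939200 < n)
    (hI : ∀ (H : Type u) [Group H] [Finite H], IsSimpleGroup H → ¬ IsMulCommutative H → Nat.card H < n →
      NSm.Small H) : NSm.Small Spor.BabyMonster := by
  refine small_model (fun K _ _ hK => ?_) ?_
  · have hc := Cfsg.Agent.BM.HBFinal.card_E K hK
    have hs := EInst.isSimple K hK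
    have hf : Finite (twistedE6 K 2) := Nat.finite_of_card_ne_zero (by rw [hc]; norm_num)
    exact small_lift hI _ hs (not_comm_of hs hc (by norm_num) (by norm_num)) (by rw [hc]; exact hn)
  · have hs := Cfsg.Agent.S0399.result.1
    have hc := Cfsg.Agent.S0399.result.2
    have hf : Finite Spor.Co1 := Nat.finite_of_card_ne_zero (by rw [hc]; norm_num)
    exact small_lift hI _ hs (not_comm_of hs hc (by norm_num) (by norm_num)) (by
      rw [hc]
      exact lt_trans (by norm_num) hn)

/-- **The row `B` of S2242.** -/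
theorem small_B {G : Type u} [Group G] [Finite G] (h : Cfsg.Spor.IsoB G)
    (hI : ∀ (H : Type u) [Group H] [Finite H], IsSimpleGroup H → ¬ IsMulCommutative H → Nat.card H < Nat.card G →
      NSm.Small H) : NSm.Small G := by
  obtain ⟨e⟩ := h
  have hc : Nat.card G = 4154781481226426191177580544000000 := by rw [Nat.card_congr e.toEquiv, card_B]
  rw [hc] at hI
  exact (small_b (by norm_num) hI).congr e.symm

/-- **The row `M` of S2242.** -/
theorem small_M {G : Type u} [Group G] [Finite G] (h : Cfsg.Spor.IsoM G)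
    (hI : ∀ (H : Type u) [Group H] [Finite H], IsSimpleGroup H → ¬ IsMulCommutative H → Nat.card H < Nat.card G →
      NSm.Small H) : NSm.Small G := by
  obtain ⟨e⟩ := h
  obtain ⟨f⟩ := Cfsg.Agent.MonsterP.Equiv.equiv
  have hc : Nat.card G = 808017424794512875886459904961710757005754368000000000 := by
    rw [Nat.card_congr e.toEquiv, Nat.card_congr f.toEquiv, card_M]
  rw [hc] at hI
  exact (NSmM.small (small_b (by norm_num) hI)).congr (f.symm.trans e.symm)

end Cfsg.Agent.H199.NSmB
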