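import Cfsg.Agent.H199.NSmTool
import Cfsg.Agent.CTwoTab.Fi22
import Cfsg.Agent.LThreeFi22.Rows
import Cfsg.Agent.S0283

/-!
# S2242, the row `Fi22` (helper199)

* `nle_inv` : bounds for the nilpotent subgroups of the centralizers of involutions
* `card_three` : the odd part of the centralizers of elements of order three
* `small_Fi22`
-/

set_option autoImplicit false

namespace Cfsg.Agent.H199.NSmFi22

open Subgroup Cfsg Cfsg.Agent.H972 Cfsg.Agent.H199.NSmTool
open Cfsg.Agent.H972.NSm hiding Small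
open Cfsg.Agent.R01.FiFusion Cfsg.Agent.R01.FiFacts Cfsg.Agent.StdFi22.TLev
open Cfsg.Agent.OddHalf.D4.Spor.Fi22 (inv_cases exists_ncomm comm_tri comm_w)
open Cfsg.Agent.StdFi22.MainFi22 (bas)
open Cfsg.Agent.R08.AutT (T)

universe u

/-- the induction hypothesis, in `Type` -/
def Hyp (n : ℕ) : Prop := ∀ (H : Type) [Group H] [Finite H], IsSimpleGroup H → ¬ IsMulCommutative H →
  Nat.card H < n → NSm.Small H

theorem card_Fi22 : Nat.card Spor.Fi22 = 64561751654400 := Cfsg.Agent.R01.Fi22Facts.card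

/-- the centralizer of a transposition -/
theorem nle_a (h : Hyp 64561751654400) {d b : Spor.Fi22} {R : Subgroup Spor.Fi22}
    (F : KFacts.FiTT.Facts Spor.Fi22 d b R) : NLE (2 * 95900) ↥(centralizer ({d} : Set Spor.Fi22)) := by
  have := CTwoTab.Fi22.finite
  refine nle_center_quot (CTwoTab.Fi22.card_center F) ?_
  have hq := CTwoTab.Fi22.card_quo F
  obtain ⟨K, i1, i2, hK, ⟨e⟩⟩ := F.quo
  have hs : IsSimpleGroup (PSU 6 K 2) := Cfsg.Agent.S0283.result (by rw [hK]; norm_num) 6 (by norm_num) (by norm_num)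
  have hs' : IsSimpleGroup (↥(centralizer ({d} : Set Spor.Fi22)) ⧸ center ↥(centralizer ({d} : Set Spor.Fi22))) := by
    have : Nontrivial (↥(centralizer ({d} : Set Spor.Fi22)) ⧸ center ↥(centralizer ({d} : Set Spor.Fi22))) :=
      e.toEquiv.nontrivial
    exact IsSimpleGroup.isSimpleGroup_of_surjective e.symm.toMonoidHom e.symm.surjective
  have hc : ¬ IsMulCommutative (↥(centralizer ({d} : Set Spor.Fi22)) ⧸ center ↥(centralizer ({d} : Set Spor.Fi22))) := by
    intro hc
    have := hc
    let cg : CommGroup (↥(centralizer ({d} : Set Spor.Fi22)) ⧸ center ↥(centralizer ({d} : Set Spor.Fi22))) :=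
      { (inferInstance : Group (↥(centralizer ({d} : Set Spor.Fi22)) ⧸ center ↥(centralizer ({d} : Set Spor.Fi22)))) with
        mul_comm := fun a b => hc.is_comm.comm a b }
    have hp := IsSimpleGroup.prime_card (α := ↥(centralizer ({d} : Set Spor.Fi22)) ⧸ center ↥(centralizer ({d} : Set Spor.Fi22)))
    rw [hq] at hp
    norm_num at hp
  exact NSm.Small.nle (h _ hs' hc (by rw [hq]; norm_num)) (by rw [hq]; norm_num)

theorem nle_T (h : Hyp 64561751654400) {d : Spor.Fi22} (hd : d ∈ T) :
    NLE (2 * 95900) ↥(centralizer ({d} : Set Spor.Fi22)) := by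
  obtain ⟨b, c, ht⟩ := bas.exists_tri hd
  obtain ⟨R, F⟩ := CTwoTab.Fi22.facts hd ht.my ht.xy ht.cxy
  exact nle_a h F

/-- bounds for the nilpotent subgroups of the centralizers of involutions -/
theorem nle_inv (h : Hyp 64561751654400) {t : Spor.Fi22} (ht : orderOf t = 2) :
    NLE 1150800 ↥(centralizer ({t} : Set Spor.Fi22)) := by
  have := CTwoTab.Fi22.finite
  have tt : t * t = 1 := by rw [← pow_two, ← ht, pow_orderOf_eq_one]
  have t1 : t ≠ 1 := by
    rintro rfl
    rw [orderOf_one] at ht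
    omega
  rcases inv_cases tt t1 with h1 | ⟨a, ha, b, hb, hab, cab, rfl⟩ | ⟨a, b, c, h1, rfl⟩
  · exact (nle_T h h1).mono (by norm_num)
  · obtain ⟨R, F⟩ := CTwoTab.Fi22.facts ha hb hab cab
    refine (nle_of_pair (a := a) (a' := b) (fun x hx => ?_) (nle_T h ha)).mono (by norm_num)
    rcases F.cz x (mem_centralizer_singleton_iff.1 hx) with h2 | h2
    · exact Or.inl h2.1
    · exact Or.inr h2.1
  · obtain ⟨a', b', c', H⟩ := bas.tf.hex a b c h1
    refine (nle_of_orbit (a := a) (S := {a, b, c, a', b', c'}) (k := 6) (fun x hx => ?_) ?_ (nle_T h h1.mx)).mono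
      (by norm_num)
    · have aw : a * (a * b * c) = a * b * c * a := comm_w bas h1 rfl h1.cxy h1.cxw
      have comm := fun (t : Spor.Fi22) => comm_w bas h1 (t := t)
      have tri := fun (t : Spor.Fi22) (htT : t ∈ T) => comm_tri bas h1 htT
      have ncomm := fun (n : Spor.Fi22) (hn : n ∈ T) => exists_ncomm bas H hn
      have haT := h1.mx
      have hx' : x * (a * b * c) = a * b * c * x := mem_centralizer_singleton_iff.1 hx
      clear h1 H tt t1 ht hx
      generalize a * b * c = w at aw hx' comm tri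
      by_contra hcon
      simp only [Set.mem_insert_iff, Set.mem_singleton_iff, not_or] at hcon
      obtain ⟨n1, n2, n3, n4, n5, n6⟩ := hcon
      have hc' : x⁻¹ * w = w * x⁻¹ := by
        rw [inv_mul_eq_iff_eq_mul, ← mul_assoc, hx', mul_assoc, mul_inv_cancel, mul_one]
      -- `a ^ x` commutes with the transpositions commuting with `w`
      have key : ∀ t ∈ T, t * w = w * t → t * (x * a * x⁻¹) = x * a * x⁻¹ * t := by
        intro t htT htw
        have k1 : x⁻¹ * t * x ∈ T := by
          have := bas.conjT x⁻¹ htT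
          rwa [inv_inv] at this
        have k2 : x⁻¹ * t * x * w = w * (x⁻¹ * t * x) := by
          calc x⁻¹ * t * x * w = x⁻¹ * t * (x * w) := by group
            _ = x⁻¹ * (t * w) * x := by rw [hx']; group
            _ = (x⁻¹ * w) * t * x := by rw [htw]; group
            _ = w * (x⁻¹ * t * x) := by rw [hc']; group
        have k3 := (tri _ k1 k2).1
        calc t * (x * a * x⁻¹) = x * ((x⁻¹ * t * x) * a) * x⁻¹ := by group
          _ = x * (a * (x⁻¹ * t * x)) * x⁻¹ := by rw [k3]
          _ = _ := by group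
      have xT : x * a * x⁻¹ ∈ T := bas.conjT x haT
      have xw : x * a * x⁻¹ * w = w * (x * a * x⁻¹) := by
        calc x * a * x⁻¹ * w = x * a * (x⁻¹ * w) := by group
          _ = x * (a * w) * x⁻¹ := by rw [hc']; group
          _ = x * w * a * x⁻¹ := by rw [aw]; group
          _ = w * (x * a * x⁻¹) := by rw [hx']; group
      obtain ⟨xa, xb, xc⟩ := tri _ xT xw
      obtain ⟨t, htT, ta, tb, tc, tn⟩ := ncomm _ xT xa xb xc n1 n2 n3 n4 n5 n6
      exact tn (key t htT (comm t ta tb tc))
    · refine (Set.ncard_insert_le _ _).trans (Nat.succ_le_succ ?_)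
      refine (Set.ncard_insert_le _ _).trans (Nat.succ_le_succ ?_)
      refine (Set.ncard_insert_le _ _).trans (Nat.succ_le_succ ?_)
      refine (Set.ncard_insert_le _ _).trans (Nat.succ_le_succ ?_)
      refine (Set.ncard_insert_le _ _).trans (Nat.succ_le_succ ?_)
      rw [Set.ncard_singleton]

/-! ### Elements of order three -/

open Cfsg.Agent.LThreeFi22 in
/-- the order of the centralizer of an element of order three, up to the 2-part -/
theorem card_three {x : Spor.Fi22} (hx : orderOf x = 3) :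
    Nat.card ↥(centralizer ({x} : Set Spor.Fi22)) ∣ 2 ^ 17 * 76545 ∨
      Nat.card ↥(centralizer ({x} : Set Spor.Fi22)) ∣ 2 ^ 17 * 255879 := by
  have C := Inst.ctx (MulEquiv.refl Spor.Fi22)
  have hfin := C.finite
  have hx3 : x ^ 3 = 1 := by rw [← hx, pow_orderOf_eq_one]
  have hx1 : x ≠ 1 := by
    rintro rfl
    rw [orderOf_one] at hx
    norm_num at hx
  by_cases h3 : Is3A (KFacts.FiTT.TK (MulEquiv.refl Spor.Fi22)) x
  · left
    have hcard : Nat.card ↥(centralizer ({x} : Set Spor.Fi22)) = 19595520 := by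
      obtain ⟨a, ha, b, hb, hab, rfl⟩ := h3
      exact C.card_three ha hb hab
    rw [hcard]
    norm_num
  · right
    have key : ∀ r : ℕ, r = 5 ∨ r = 7 ∨ r = 11 → ¬ r ∣ Nat.card ↥(centralizer ({x} : Set Spor.Fi22)) := by
      intro r hr hdvd
      have hrp : r.Prime := by rcases hr with rfl | rfl | rfl <;> norm_num
      have : Fact r.Prime := ⟨hrp⟩
      obtain ⟨⟨y, hyx⟩, hy⟩ := exists_prime_orderOf_dvd_card' (G := ↥(centralizer ({x} : Set Spor.Fi22))) r hdvd
      rw [Subgroup.orderOf_mk] at hy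
      have hyr : y ^ r = 1 := by rw [← hy, pow_orderOf_eq_one]
      have hy1 : y ≠ 1 := by
        rintro rfl
        rw [orderOf_one] at hy
        exact hrp.one_lt.ne hy
      have hxy : x * y = y * x := (mem_centralizer_singleton_iff.1 hyx).symm
      rcases hr with rfl | rfl | rfl
      · exact h3 (C.five hyr hy1 hx3 hx1 hxy)
      · exact h3 (C.seven hyr hy1 hx3 hx1 hxy)
      · exact hx1 (C.eleven hyr hy1 hx3 hxy)
    have hd : Nat.card ↥(centralizer ({x} : Set Spor.Fi22)) ∣ 2 ^ 17 * 255879 * (5 * 5 * 7 * 11) := by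
      refine (Subgroup.card_subgroup_dvd_card _).trans ?_
      rw [C.card]
      norm_num
    have hco : ∀ r : ℕ, r = 5 ∨ r = 7 ∨ r = 11 → (Nat.card ↥(centralizer ({x} : Set Spor.Fi22))).Coprime r := by
      intro r hr
      have hrp : r.Prime := by rcases hr with rfl | rfl | rfl <;> norm_num
      exact ((Nat.Prime.coprime_iff_not_dvd hrp).2 (key r hr)).symm
    have hc : (Nat.card ↥(centralizer ({x} : Set Spor.Fi22))).Coprime (5 * 5 * 7 * 11) := by
      refine Nat.Coprime.mul_right (Nat.Coprime.mul_right (Nat.Coprime.mul_right ?_ ?_) ?_) ?_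
      · exact hco 5 (Or.inl rfl)
      · exact hco 5 (Or.inl rfl)
      · exact hco 7 (Or.inr (Or.inl rfl))
      · exact hco 11 (Or.inr (Or.inr rfl))
    exact hc.dvd_of_dvd_mul_right hd

theorem small (h : Hyp 64561751654400) : NSm.Small Spor.Fi22 := by
  have := CTwoTab.Fi22.finite
  intro N hN
  rw [card_Fi22]
  by_cases h2 : 2 ∣ Nat.card ↥N
  · obtain ⟨t, ht, -, hle⟩ := exists_le_centralizer hN Nat.prime_two h2
    have h3 := (nle_inv h ht).apply hN hle
    calc Nat.card ↥N ^ 2 ≤ 1150800 ^ 2 := Nat.pow_le_pow_left h3 2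
      _ < _ := by norm_num
  by_cases h3 : 3 ∣ Nat.card ↥N
  · obtain ⟨x, hx, -, hle⟩ := exists_le_centralizer hN Nat.prime_three h3
    have h4 : Nat.card ↥N ≤ 255879 := by
      have h5 : Nat.card ↥N ∣ Nat.card ↥(centralizer ({x} : Set Spor.Fi22)) := Subgroup.card_dvd_of_le hle
      rcases card_three hx with h6 | h6
      · exact (card_le_of_odd h2 (by norm_num) (h5.trans h6)).trans (by norm_num)
      · exact card_le_of_odd h2 (by norm_num) (h5.trans h6)
    calc Nat.card ↥N ^ 2 ≤ 255879 ^ 2 := Nat.pow_le_pow_left h4 2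
      _ < _ := by norm_num
  · have h4 : Nat.card ↥N ∣ 2 ^ 17 * (3 ^ 9 * 25025) := by
      have := Subgroup.card_subgroup_dvd_card N
      rwa [card_Fi22] at this
    have h5 := dvd_of_not_dvd Nat.prime_three h3 (dvd_of_not_dvd Nat.prime_two h2 h4)
    have h6 : Nat.card ↥N ≤ 25025 := Nat.le_of_dvd (by norm_num) h5
    calc Nat.card ↥N ^ 2 ≤ 25025 ^ 2 := Nat.pow_le_pow_left h6 2
      _ < _ := by norm_num

/-- **The row `Fi22` of S2242.** -/
theorem small_Fi22 {G : Type u} [Group G] [Finite G] (h : Cfsg.Spor.IsoFi22 G)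
    (hI : ∀ (H : Type u) [Group H] [Finite H], IsSimpleGroup H → ¬ IsMulCommutative H → Nat.card H < Nat.card G →
      NSm.Small H) : NSm.Small G := by
  obtain ⟨e⟩ := h
  have hc : Nat.card G = 64561751654400 := by rw [Nat.card_congr e.toEquiv, card_Fi22]
  rw [hc] at hI
  exact (small (fun H _ _ hs hn hl => small_lift hI H hs hn hl)).congr e.symm

end Cfsg.Agent.H199.NSmFi22
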